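import Cfsg.Agent.Lib.BlockNorm.SL2Aut

/-!
# Automorphisms of a group `Ū × C(e)` on which `SL₂` acts

`M` is a group of odd order, `ι` embeds the natural module centrally, `K` is a group of
automorphisms inducing the derived group of `SL₂(F)` on the image of `ι` and trivial on the fixed
points of its element `e`, which inverts the image of `ι`.
-/

set_option autoImplicit false
set_option linter.unusedSectionVars false

open Matrix
open scoped MatrixGroups

namespace CfsgLib.BlockNorm

variable {F : Type*} [Field F] [Fintype F] [CharP F 3] {M : Type*} [Group M] [Finite M]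

/-- The data of the model. -/
structure Model (ι : (Fin 2 → F) → M) (e : MulAut M) (K : Subgroup (MulAut M)) : Prop where
  odd : Odd (Nat.card M)
  map_add : ∀ u v, ι (u + v) = ι u * ι v
  inj : Function.Injective ι
  central : ∀ u m, ι u * m = m * ι u
  e_mem : e ∈ K
  e_apply : ∀ u, e (ι u) = ι (-u)
  fix : ∀ a ∈ K, ∀ m, e m = m → a m = m
  act : ∀ a ∈ K, ∃ g ∈ commutator (SpecialLinearGroup (Fin 2) F), ∀ u,
    a (ι u) = ι ((g : Matrix (Fin 2) (Fin 2) F).mulVec u)
  surj : ∀ g ∈ commutator (SpecialLinearGroup (Fin 2) F), ∃ a ∈ K, ∀ u,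
    a (ι u) = ι ((g : Matrix (Fin 2) (Fin 2) F).mulVec u)
  decomp : ∀ m, ∃ u h, e h = h ∧ m = ι u * h

namespace Model

variable {ι : (Fin 2 → F) → M} {e : MulAut M} {K : Subgroup (MulAut M)} (h : Model ι e K)

include h

theorem map_zero : ι 0 = 1 := by
  have h1 := h.map_add 0 0
  rw [add_zero] at h1
  exact mul_eq_left.mp h1.symm

theorem map_neg (u : Fin 2 → F) : ι (-u) = (ι u)⁻¹ := by
  refine (inv_eq_of_mul_eq_one_right ?_).symm
  rw [← h.map_add, add_neg_cancel, h.map_zero]

theorem eq_one_of_sq {m : M} (hm : m * m = 1) : m = 1 :=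
  orderOf_eq_one_iff.mp (Nat.eq_one_of_dvd_coprimes (Nat.coprime_two_left.mpr h.odd)
    (orderOf_dvd_of_pow_eq_one (by rw [pow_two, hm])) (orderOf_dvd_natCard m))

theorem neg_eq_self {u : Fin 2 → F} (hu : -u = u) : u = 0 := by
  have h3 := three_eq_zero (F := F)
  ext i
  have h1 := congrFun hu i
  simp only [Pi.neg_apply] at h1
  show u i = 0
  linear_combination (u i) * h3 + h1

theorem exists_of_inverted {m : M} (hm : e m = m⁻¹) : ∃ u, m = ι u := by
  obtain ⟨u, x, hx, rfl⟩ := h.decomp m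
  refine ⟨u, ?_⟩
  rw [map_mul, h.e_apply, hx, _root_.mul_inv_rev, ← h.map_neg] at hm
  have h1 : ι (-u) * x = ι (-u) * x⁻¹ := by rw [hm, h.central]
  have h2 : x * x = 1 := by rw [← eq_inv_iff_mul_eq_one]; exact mul_left_cancel h1
  rw [h.eq_one_of_sq h2, mul_one]

theorem eq_one_of_fixed {u : Fin 2 → F} (hu : e (ι u) = ι u) : ι u = 1 := by
  rw [h.e_apply] at hu
  rw [h.neg_eq_self (h.inj hu), h.map_zero]

theorem ext_aut {a b : MulAut M} (h1 : ∀ u, a (ι u) = b (ι u)) (h2 : ∀ m, e m = m → a m = b m) :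
    a = b := by
  refine MulEquiv.ext fun m => ?_
  obtain ⟨u, x, hx, rfl⟩ := h.decomp m
  rw [map_mul, map_mul, h1, h2 x hx]

theorem exists_on_range {c : MulAut M} (hc : Commute c e) :
    ∃ A : (Fin 2 → F) ≃+ (Fin 2 → F), ∀ u, c (ι u) = ι (A u) := by
  classical
  have key : ∀ u, ∃ v, c (ι u) = ι v := fun u => by
    refine h.exists_of_inverted ?_
    rw [← MulAut.mul_apply, ← hc.eq, MulAut.mul_apply, h.e_apply, h.map_neg, map_inv]
  choose A hA using key
  have hadd : ∀ u v, A (u + v) = A u + A v := fun u v => h.inj (by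
    rw [h.map_add, ← hA, ← hA, ← hA, h.map_add, map_mul])
  have hinj : Function.Injective A := fun u v huv => h.inj (c.injective (by rw [hA, hA, huv]))
  exact ⟨AddEquiv.ofBijective (AddMonoidHom.mk' A hadd)
    ((Finite.injective_iff_bijective).mp hinj), hA⟩

/-- An automorphism commuting with `e` that scales the determinant normalizes `K`. -/
theorem conj_mem {c : MulAut M} (hc : Commute c e) (A : (Fin 2 → F) ≃+ (Fin 2 → F))
    (hA : ∀ u, c (ι u) = ι (A u)) (σ : F → F) (hσ : ∀ u v, det2 (A u) (A v) = σ (det2 u v))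
    {a : MulAut M} (ha : a ∈ K) : c * a * c⁻¹ ∈ K := by
  obtain ⟨g, hg, hga⟩ := h.act a ha
  obtain ⟨g', hg', hgg'⟩ := exists_conj_mem_commutator A σ hσ g hg
  obtain ⟨a', ha', hga'⟩ := h.surj g' hg'
  have : a' = c * a * c⁻¹ := by
    refine h.ext_aut (fun u => ?_) fun m hm => ?_
    · obtain ⟨v, rfl⟩ := A.surjective u
      rw [MulAut.mul_apply, MulAut.mul_apply, ← hA v, MulAut.inv_apply_self, hga, hA, hA, hga', hgg']
    · have h1 : e (c⁻¹ m) = c⁻¹ m := by
        rw [← MulAut.mul_apply, ← hc.inv_left.eq, MulAut.mul_apply, hm]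
      rw [MulAut.mul_apply, MulAut.mul_apply, h.fix a ha _ h1, MulAut.apply_inv_self,
        h.fix a' ha' m hm]
  exact this ▸ ha'

/-- A conjugate of `e` commuting with it equals it, or the two groups commute. -/
theorem isolation (c : MulAut M) (hce : Commute (c * e * c⁻¹) e)
    (hz : ∀ a ∈ K, Commute (c * e * c⁻¹ * e) a) :
    c * e * c⁻¹ = e ∨ ∀ a ∈ K, ∀ b ∈ K, Commute a (c * b * c⁻¹) := by
  set f := c * e * c⁻¹ with hf
  have hee : e * e = 1 := by
    refine h.ext_aut (fun u => ?_) fun m hm => ?_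
    · rw [MulAut.mul_apply, h.e_apply, h.e_apply, neg_neg]; rfl
    · rw [MulAut.mul_apply, hm, hm]; rfl
  have hff : f * f = 1 := by
    rw [hf, show c * e * c⁻¹ * (c * e * c⁻¹) = c * (e * e) * c⁻¹ by group, hee, mul_one,
      mul_inv_cancel]
  set z := f * e with hzdef
  have hze : Commute z e := hce.mul_left (Commute.refl e)
  obtain ⟨A, hA⟩ := h.exists_on_range hze
  have hAA : ∀ u, A (A u) = u := fun u => h.inj (by
    rw [← hA, ← hA, ← MulAut.mul_apply, hzdef,
      show f * e * (f * e) = f * (e * f) * e by group, ← hce.eq,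
      show f * (f * e) * e = (f * f) * (e * e) by group, hff, hee, one_mul]
    rfl)
  have hAR : ∀ g ∈ commutator (SpecialLinearGroup (Fin 2) F), ∀ v,
      A ((g : Matrix (Fin 2) (Fin 2) F).mulVec v) =
        (g : Matrix (Fin 2) (Fin 2) F).mulVec (A v) := fun g hg v => h.inj (by
    obtain ⟨a, ha, hga⟩ := h.surj g hg
    rw [← hA, ← hga, ← hga, ← hA, ← MulAut.mul_apply, ← MulAut.mul_apply, (hz a ha).eq])
  have hfA : ∀ u, f (ι u) = ι (-A u) := fun u => by
    have h1 := congrArg f (h.e_apply (-u))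
    rw [neg_neg, ← MulAut.mul_apply, ← hzdef, hA, _root_.map_neg] at h1
    exact h1.symm
  have hinv : ∀ m, f m = m⁻¹ → ∃ u, m = c (ι u) := by
    intro m hm
    obtain ⟨u, hu⟩ := h.exists_of_inverted (m := c⁻¹ m) (by
      have h1 := congrArg (c⁻¹ : MulAut M) hm
      rw [hf, MulAut.mul_apply, MulAut.mul_apply, MulAut.inv_apply_self, map_inv] at h1
      exact h1)
    exact ⟨u, by rw [← hu, MulAut.apply_inv_self]⟩
  have hfc : ∀ u, f (c (ι u)) = c (ι (-u)) := fun u => by
    rw [hf, MulAut.mul_apply, MulAut.mul_apply, MulAut.inv_apply_self, h.e_apply]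
  rcases involution_scalar A.toAddMonoidHom hAA hAR with h1 | h1
  · left
    have hrange : Set.range ι = Set.range fun u => c (ι u) := by
      refine Set.eq_of_subset_of_ncard_le ?_ ?_ (Set.finite_range _)
      · rintro _ ⟨u, rfl⟩
        obtain ⟨v, hv⟩ := hinv (ι u) (by
          rw [hfA, show A u = u from h1 u, h.map_neg])
        exact ⟨v, hv.symm⟩
      · rw [Set.ncard_range_of_injective h.inj]
        exact (Set.ncard_range_of_injective (c.injective.comp h.inj)).le
    refine h.ext_aut (fun u => by rw [hfA, show A u = u from h1 u, h.e_apply]) fun m hm => ?_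
    rw [hm]
    obtain ⟨u, x, hx, hdec⟩ := h.decomp (c⁻¹ m)
    have hm' : m = c (ι u) * c x := by rw [← map_mul, ← hdec, MulAut.apply_inv_self]
    have hfm : f m = c (ι (-(u + u))) * m := by
      rw [hm', map_mul, hfc, show f (c x) = c x by
        rw [hf, MulAut.mul_apply, MulAut.mul_apply, MulAut.inv_apply_self, hx], ← mul_assoc,
        ← map_mul, ← map_mul, ← h.map_add]
      simp
    obtain ⟨v, hv⟩ : ∃ v, c (ι (-(u + u))) = ι v := by
      have := hrange.ge ⟨-(u + u), rfl⟩
      obtain ⟨v, hv⟩ := this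
      exact ⟨v, hv.symm⟩
    rw [hv] at hfm
    have h2 : e (f m) = f m := by rw [← MulAut.mul_apply, ← hce.eq, MulAut.mul_apply, hm]
    rw [hfm, map_mul, hm] at h2
    rw [hfm, h.eq_one_of_fixed (mul_right_cancel h2), one_mul]
  · right
    have hffix : ∀ u, f (ι u) = ι u := fun u => by
      rw [hfA, show A u = -u from h1 u, neg_neg]
    have hUf : ∀ u, e (c (ι u)) = c (ι u) := fun u => by
      obtain ⟨v, hv⟩ := hinv (e (c (ι u))) (by
        rw [← MulAut.mul_apply, hce.eq, MulAut.mul_apply, hfc, h.map_neg, map_inv, map_inv])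
      obtain ⟨w, x, hx, hdec⟩ := h.decomp (c (ι u))
      have h2 : e (c (ι u)) * (c (ι u))⁻¹ = ι (-(w + w)) := by
        rw [hdec, map_mul, h.e_apply, hx, _root_.mul_inv_rev, ← h.map_neg, mul_assoc,
          mul_inv_cancel_left, ← h.map_add]
        congr 1
        abel
      have h4 : f (ι (-(w + w))) = (ι (-(w + w)))⁻¹ := by
        rw [← h2, hv, ← map_inv c, ← map_mul, ← h.map_neg, ← h.map_add, hfc, ← map_inv c, h.map_neg]
      rw [hffix] at h4
      have h5 := h.eq_one_of_sq (mul_eq_one_iff_eq_inv.mpr h4)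
      rw [h5] at h2
      exact mul_inv_eq_one.mp h2
    intro a ha b hb
    set b' := c * b * c⁻¹ with hb'
    have hbU : ∀ u, b' (ι u) = ι u := by
      intro u
      have h2 : e (c⁻¹ (ι u)) = c⁻¹ (ι u) := by
        have h3 := congrArg (c⁻¹ : MulAut M) (hffix u)
        rwa [hf, MulAut.mul_apply, MulAut.mul_apply, MulAut.inv_apply_self] at h3
      rw [hb', MulAut.mul_apply, MulAut.mul_apply, h.fix b hb _ h2, MulAut.apply_inv_self]
    have hbF : ∀ m, e m = m → e (b' m) = b' m := by
      intro m hm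
      obtain ⟨u, x, hx, hdec⟩ := h.decomp (c⁻¹ m)
      have hm' : m = c (ι u) * c x := by rw [← map_mul, ← hdec, MulAut.apply_inv_self]
      obtain ⟨g, -, hg⟩ := h.act b hb
      have hb'm : b' m = c (ι ((g : Matrix (Fin 2) (Fin 2) F).mulVec u)) * c x := by
        rw [hb', MulAut.mul_apply, MulAut.mul_apply, hdec, map_mul, h.fix b hb x hx, hg, map_mul]
      have hcx : e (c x) = c x := by
        have h2 : c x = (c (ι u))⁻¹ * m := by rw [hm', inv_mul_cancel_left]
        rw [h2, map_mul, map_inv, hUf, hm]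
      rw [hb'm, map_mul, hUf, hcx]
    refine h.ext_aut (fun u => ?_) fun m hm => ?_
    · obtain ⟨g, -, hg⟩ := h.act a ha
      show a (b' (ι u)) = b' (a (ι u))
      rw [hbU, hg, hbU]
    · show a (b' m) = b' (a m)
      rw [h.fix a ha m hm, h.fix a ha _ (hbF m hm)]

end Model

end CfsgLib.BlockNorm
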