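import Cfsg.Agent.Lib.BlockNorm.Ctx
import Cfsg.Agent.Lib.BlockNorm.Model

/-!
# The exceptional block: the action on `O / Z(O)`
-/

set_option autoImplicit false
set_option linter.unusedSectionVars false

open Matrix
open scoped MatrixGroups commutatorElement

namespace CfsgLib.BlockNorm

namespace Ctx

variable {G : Type*} [Group G] [Finite G] {F : Type*} [Field F] [Fintype F] [CharP F 3]
  (c : Ctx G F)

/-- The group `O / Z(O)`. -/
abbrev Quo := ↥c.O ⧸ Subgroup.center ↥c.O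

/-- The normalizer of `O`. -/
abbrev NO : Subgroup G := Subgroup.normalizer (c.O : Set G)

/-- An automorphism of a group acts on the quotient by the centre. -/
def quotCenter {H : Type*} [Group H] : MulAut H →* MulAut (H ⧸ Subgroup.center H) where
  toFun a := QuotientGroup.congr (Subgroup.center H) (Subgroup.center H) a
    (Subgroup.characteristic_iff_map_eq.mp inferInstance a)
  map_one' := by
    ext x
    induction x using QuotientGroup.induction_on with
    | H x => rfl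
  map_mul' a b := by
    ext x
    induction x using QuotientGroup.induction_on with
    | H x => rfl

open Classical in
/-- Conjugation by `g` on `O / Z(O)`; trivial outside the normalizer. -/
noncomputable def act (g : G) : MulAut c.Quo :=
  if h : g ∈ c.NO then quotCenter (c.O.normalizerMonoidHom ⟨g, h⟩) else 1

theorem act_apply {g : G} (hg : g ∈ c.NO) (o : ↥c.O) :
    c.act g (o : c.Quo) = ((⟨g * o * g⁻¹, conj_mem' hg o.2⟩ : ↥c.O) : c.Quo) := by
  rw [act, dif_pos hg]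
  rfl

theorem act_mul {g h : G} (hg : g ∈ c.NO) (hh : h ∈ c.NO) : c.act (g * h) = c.act g * c.act h := by
  rw [act, act, act, dif_pos hg, dif_pos hh, dif_pos (mul_mem hg hh), ← map_mul, ← map_mul]
  rfl

theorem act_one : c.act 1 = 1 := by
  rw [act, dif_pos (one_mem _)]
  exact (congrArg quotCenter (map_one c.O.normalizerMonoidHom)).trans (map_one _)

theorem act_inv {g : G} (hg : g ∈ c.NO) : c.act g⁻¹ = (c.act g)⁻¹ := by
  refine eq_inv_of_mul_eq_one_left ?_
  rw [← c.act_mul (inv_mem hg) hg, inv_mul_cancel, c.act_one]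

theorem act_pow {g : G} (hg : g ∈ c.NO) (n : ℕ) : c.act (g ^ n) = c.act g ^ n := by
  induction n with
  | zero => rw [pow_zero, pow_zero, c.act_one]
  | succ n ih => rw [pow_succ, pow_succ, c.act_mul (pow_mem hg n) hg, ih]

theorem act_conj {g x : G} (hg : g ∈ c.NO) (hx : x ∈ c.NO) :
    c.act (g * x * g⁻¹) = c.act g * c.act x * (c.act g)⁻¹ := by
  rw [c.act_mul (mul_mem hg hx) (inv_mem hg), c.act_mul hg hx, c.act_inv hg]

theorem mk_eq_mk_iff (o o' : ↥c.O) : (o : c.Quo) = (o' : c.Quo) ↔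
    ∀ y ∈ c.O, Commute ((o : G)⁻¹ * o') y := by
  rw [QuotientGroup.eq, Subgroup.mem_center_iff]
  exact ⟨fun h y hy => (congrArg Subtype.val (h ⟨y, hy⟩)).symm,
    fun h y => Subtype.ext (h y y.2).eq.symm⟩

theorem mk_eq_one_iff (o : ↥c.O) : (o : c.Quo) = 1 ↔ ∀ y ∈ c.O, Commute (o : G) y := by
  rw [QuotientGroup.eq_one_iff, Subgroup.mem_center_iff]
  exact ⟨fun h y hy => (congrArg Subtype.val (h ⟨y, hy⟩)).symm,
    fun h y => Subtype.ext (h y y.2).eq.symm⟩

theorem act_eq_one_iff {g : G} (hg : g ∈ c.NO) :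
    c.act g = 1 ↔ ∀ o ∈ c.O, ∀ y ∈ c.O, Commute (g * o * g⁻¹ * o⁻¹) y := by
  constructor
  · intro h o ho
    have h1 := DFunLike.congr_fun h ((⟨o, ho⟩ : ↥c.O) : c.Quo)
    rw [c.act_apply hg, MulAut.one_apply] at h1
    have h2 : ((⟨g * o * g⁻¹, conj_mem' hg ho⟩ * (⟨o, ho⟩ : ↥c.O)⁻¹ : ↥c.O) : c.Quo) = 1 := by
      rw [QuotientGroup.mk_mul, QuotientGroup.mk_inv, h1, mul_inv_cancel]
    exact (c.mk_eq_one_iff _).mp h2
  · intro h
    refine MulEquiv.ext fun m => ?_
    induction m using QuotientGroup.induction_on with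
    | H o =>
      rw [c.act_apply hg, MulAut.one_apply, ← mul_inv_eq_one, ← QuotientGroup.mk_inv,
        ← QuotientGroup.mk_mul]
      exact (c.mk_eq_one_iff _).mpr (h o o.2)

theorem E_le_NO : c.E ≤ c.NO := c.hEW.trans c.hON

theorem Z_cent_O {z : G} (hz : z ∈ c.Z) {o : G} (ho : o ∈ c.O) : Commute z o :=
  c.hVO z (c.hZV hz) o ho

/-- `Q` acts trivially. -/
theorem act_Q {q : G} (hq : q ∈ c.Q) : c.act q = 1 :=
  (c.act_eq_one_iff (c.E_le_NO (c.hQE hq))).mpr fun o ho y hy => c.hVO _ (c.hQOV q hq o ho) y hy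

/-- A lift of a vector to `Q`. -/
noncomputable def lift (u : Fin 2 → F) : ↥c.Q := (c.hψ2 (Multiplicative.ofAdd u)).choose

theorem lift_spec (u : Fin 2 → F) : c.ψ2 (c.lift u) = Multiplicative.ofAdd u :=
  (c.hψ2 (Multiplicative.ofAdd u)).choose_spec

/-- The natural module inside `O / Z(O)`. -/
noncomputable def iota (u : Fin 2 → F) : c.Quo := ((⟨c.lift u, c.hQO (c.lift u).2⟩ : ↥c.O) : c.Quo)

theorem mk_eq_iota (q : ↥c.Q) :
    ((⟨q, c.hQO q.2⟩ : ↥c.O) : c.Quo) = c.iota (c.ψ2 q).toAdd := by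
  rw [iota, c.mk_eq_mk_iff]
  refine fun y hy => c.hVO _ ?_ y hy
  refine (c.hψ2ker (q⁻¹ * c.lift (c.ψ2 q).toAdd)).mp ?_
  rw [map_mul, map_inv, c.lift_spec, ofAdd_toAdd, inv_mul_cancel]

theorem act_iota {x : G} (hx : x ∈ c.E) (u : Fin 2 → F) :
    c.act x (c.iota u) =
      c.iota ((c.ρ2 ⟨x, hx⟩ : Matrix (Fin 2) (Fin 2) F).mulVec u) := by
  obtain ⟨w, hw, hw2⟩ := c.hψ2eq ⟨x, hx⟩ (c.lift u)
  rw [c.lift_spec, toAdd_ofAdd] at hw2
  conv_lhs => rw [iota, c.act_apply (c.E_le_NO hx)]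
  rw [← hw2, ← c.mk_eq_iota]
  congr 1
  exact Subtype.ext hw.symm

/-- The image of `E`. -/
noncomputable def image : Subgroup (MulAut c.Quo) where
  carrier := {a | ∃ x ∈ c.E, a = c.act x}
  one_mem' := ⟨1, one_mem _, c.act_one.symm⟩
  mul_mem' := by
    rintro a b ⟨x, hx, rfl⟩ ⟨y, hy, rfl⟩
    exact ⟨x * y, mul_mem hx hy, (c.act_mul (c.E_le_NO hx) (c.E_le_NO hy)).symm⟩
  inv_mem' := by
    rintro a ⟨x, hx, rfl⟩
    exact ⟨x⁻¹, inv_mem hx, (c.act_inv (c.E_le_NO hx)).symm⟩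

theorem act_mem_image {x : G} (hx : x ∈ c.E) : c.act x ∈ c.image := ⟨x, hx, rfl⟩

theorem odd_quo [Fact (Nat.Prime 3)] : Odd (Nat.card c.Quo) := by
  obtain ⟨k, hk⟩ := (c.hOp.to_quotient (Subgroup.center ↥c.O)).exists_card_eq
  rw [hk]
  exact (by decide : Odd 3).pow

/-- `Q` is normal and its quotient has the image of `e` in the centre. -/
theorem comm_e_mem {x : G} (hx : x ∈ c.E) : x * c.e * x⁻¹ * c.e⁻¹ ∈ c.Q := by
  refine (c.hρker ⟨_, mul_mem (mul_mem (mul_mem hx c.he) (inv_mem hx)) (inv_mem c.he)⟩).mp ?_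
  rw [show (⟨_, mul_mem (mul_mem (mul_mem hx c.he) (inv_mem hx)) (inv_mem c.he)⟩ : ↥c.E) =
    (⟨x, hx⟩ : ↥c.E) * ⟨c.e, c.he⟩ * (⟨x, hx⟩ : ↥c.E)⁻¹ * (⟨c.e, c.he⟩ : ↥c.E)⁻¹ from rfl,
    map_mul, map_mul, map_mul, map_inv, map_inv, c.hρe]
  simp

theorem act_comm_e {x : G} (hx : x ∈ c.E) : Commute (c.act x) (c.act c.e) := by
  have h := c.act_Q (c.comm_e_mem hx)
  rw [c.act_mul (mul_mem (mul_mem (c.E_le_NO hx) (c.E_le_NO c.he)) (inv_mem (c.E_le_NO hx)))
    (inv_mem (c.E_le_NO c.he)), c.act_conj (c.E_le_NO hx) (c.E_le_NO c.he),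
    c.act_inv (c.E_le_NO c.he), mul_inv_eq_one, mul_inv_eq_iff_eq_mul] at h
  exact h

theorem model [Fact (Nat.Prime 3)] : Model c.iota (c.act c.e) c.image := by
  have hodd := c.odd_quo
  have hadd : ∀ u v, c.iota (u + v) = c.iota u * c.iota v := by
    intro u v
    have h : ((⟨c.lift u, c.hQO (c.lift u).2⟩ * ⟨c.lift v, c.hQO (c.lift v).2⟩ : ↥c.O) : c.Quo) =
        c.iota (c.ψ2 (c.lift u * c.lift v)).toAdd := c.mk_eq_iota (c.lift u * c.lift v)
    rw [map_mul, c.lift_spec, c.lift_spec, ← ofAdd_add, toAdd_ofAdd] at h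
    exact h.symm
  have hinj : Function.Injective c.iota := by
    intro u v huv
    have h := (c.mk_eq_mk_iff _ _).mp huv
    have hV := c.hQcent _ (mul_mem (inv_mem (c.lift u).2) (c.lift v).2) h
    have h1 := (c.hψ2ker ((c.lift u)⁻¹ * c.lift v)).mpr hV
    rw [map_mul, map_inv, c.lift_spec, c.lift_spec, inv_mul_eq_one] at h1
    exact Multiplicative.ofAdd.injective h1
  have hee : ∀ u, c.act c.e (c.iota u) = c.iota (-u) := fun u => by
    rw [c.act_iota c.he, c.hρ2e]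
    congr 1
    show (-(1 : Matrix (Fin 2) (Fin 2) F)).mulVec u = -u
    rw [neg_mulVec, one_mulVec]
  refine ⟨hodd, hadd, hinj, fun u m => ?_, c.act_mem_image c.he, hee, ?_, ?_, ?_, ?_⟩
  · induction m using QuotientGroup.induction_on with
    | H o =>
      rw [iota, ← QuotientGroup.mk_mul, ← QuotientGroup.mk_mul, c.mk_eq_mk_iff]
      intro y hy
      refine c.hVO _ ?_ y hy
      have h := c.hQOV _ (inv_mem (c.lift u).2) _ (inv_mem o.2)
      have h2 := conj_mem' (inv_mem (c.hEV (c.hQE (c.lift u).2))) (c.hQOV _ (c.lift u).2 _ (inv_mem o.2))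
      rw [show (((⟨c.lift u, c.hQO (c.lift u).2⟩ * o : ↥c.O) : G))⁻¹ *
          (o * ⟨c.lift u, c.hQO (c.lift u).2⟩ : ↥c.O) =
        (o : G)⁻¹ * (((c.lift u : G))⁻¹ * o * (c.lift u : G)⁻¹⁻¹ * (o : G)⁻¹) * o by
        simp only [Subgroup.coe_mul]; group]
      have h3 := c.hQOV _ (inv_mem (c.lift u).2) _ o.2
      rw [(c.hVO _ h3 _ (inv_mem o.2)).eq.symm, inv_mul_cancel_right]
      exact h3
  · rintro a ⟨x, hx, rfl⟩ m hm
    induction m using QuotientGroup.induction_on with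
    | H o =>
      set m : c.Quo := ((o : ↥c.O) : c.Quo) with hm'
      have hd : c.act x m * m⁻¹ = c.iota (c.ψ2 ⟨_, c.hEO x hx o o.2⟩).toAdd := by
        rw [← c.mk_eq_iota, hm', c.act_apply (c.E_le_NO hx), ← QuotientGroup.mk_inv,
          ← QuotientGroup.mk_mul]
        rfl
      set w := (c.ψ2 ⟨_, c.hEO x hx o o.2⟩).toAdd
      have h1 : c.act c.e (c.act x m * m⁻¹) = c.act x m * m⁻¹ := by
        rw [map_mul, map_inv, hm, ← MulAut.mul_apply, ← (c.act_comm_e hx).eq, MulAut.mul_apply, hm]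
      rw [hd, hee] at h1
      have h2 : w = 0 := by
        have h3 := hinj h1
        ext k
        have h4 : -(w k) = w k := congrFun h3 k
        show w k = 0
        linear_combination (w k) * three_eq_zero (F := F) + h4
      rw [h2] at hd
      have h0 : c.iota 0 = 1 := by
        have h3 := hadd 0 0
        rw [add_zero] at h3
        exact mul_eq_left.mp h3.symm
      rw [h0, mul_inv_eq_one] at hd
      exact hd
  · rintro a ⟨x, hx, rfl⟩
    exact ⟨c.ρ2 ⟨x, hx⟩, c.hρ2 ▸ ⟨_, rfl⟩, c.act_iota hx⟩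
  · intro g hg
    rw [← c.hρ2] at hg
    obtain ⟨x, rfl⟩ := hg
    exact ⟨c.act x, c.act_mem_image x.2, c.act_iota x.2⟩
  · intro m
    induction m using QuotientGroup.induction_on with
    | H o =>
      set m : c.Quo := ((o : ↥c.O) : c.Quo) with hm'
      set a := (c.ψ2 ⟨_, c.hEO c.e c.he o o.2⟩).toAdd with ha
      have hd : c.act c.e m * m⁻¹ = c.iota a := by
        rw [ha, ← c.mk_eq_iota, hm', c.act_apply (c.E_le_NO c.he), ← QuotientGroup.mk_inv,
          ← QuotientGroup.mk_mul]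
        rfl
      rw [mul_inv_eq_iff_eq_mul] at hd
      have h3a : a + a = -a := by
        ext k
        show a k + a k = -(a k)
        linear_combination (a k) * three_eq_zero (F := F)
      refine ⟨a, c.iota (-a) * m, ?_, ?_⟩
      · rw [map_mul, hee, neg_neg, hd, ← mul_assoc, ← hadd, h3a]
      · rw [← mul_assoc, ← hadd, add_neg_cancel]
        have h3 := hadd 0 0
        rw [add_zero] at h3
        rw [mul_eq_left.mp h3.symm, one_mul]

end Ctx

end CfsgLib.BlockNorm
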