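import Cfsg.Agent.Lib.LocalEven.BaumannBlock

/-!
# Normalizing a block: general facts and the case where `O_p(G)` acts in the module
-/

set_option autoImplicit false
set_option linter.unusedSectionVars false

open scoped commutatorElement

namespace CfsgLib.BlockNorm

open CfsgLib.LocalEven CfsgLib.LocalEven.BBlock

variable {G : Type*} [Group G] {p : ℕ}

theorem conj_mem_iff {H : Subgroup G} {g x : G} (hg : g ∈ Subgroup.normalizer (H : Set G)) :
    g * x * g⁻¹ ∈ H ↔ x ∈ H := ((Subgroup.mem_normalizer_iff.mp hg) x).symm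

theorem conj_mem' {H : Subgroup G} {g x : G} (hg : g ∈ Subgroup.normalizer (H : Set G)) (hx : x ∈ H) :
    g * x * g⁻¹ ∈ H := (conj_mem_iff hg).mpr hx

theorem pCoreOf_le (p : ℕ) (H : Subgroup G) : Cfsg.pCoreOf p H ≤ H := Subgroup.map_subtype_le _

theorem pCoreOf_isPGroup [Finite G] (p : ℕ) [Fact p.Prime] (H : Subgroup G) :
    IsPGroup p ↥(Cfsg.pCoreOf p H) := (core_isPGroup p ↥H).map _

theorem le_pCoreOf {P H : Subgroup G} (hPH : P ≤ H) (hn : H ≤ Subgroup.normalizer (P : Set G))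
    (hP : IsPGroup p ↥P) : P ≤ Cfsg.pCoreOf p H := by
  rw [Cfsg.pCoreOf, ← Subgroup.map_subgroupOf_eq_of_le hPH]
  exact Subgroup.map_mono (le_core_of_normal
    ((Subgroup.normal_subgroupOf_iff_le_normalizer hPH).mpr hn) hP.comap_subtype)

theorem le_normalizer_pCoreOf (p : ℕ) (H : Subgroup G) :
    H ≤ Subgroup.normalizer (Cfsg.pCoreOf p H : Set G) :=
  (Subgroup.normal_subgroupOf_iff_le_normalizer (pCoreOf_le p H)).mp (by
    rw [Cfsg.pCoreOf, Subgroup.subgroupOf, Subgroup.comap_map_eq_self_of_injective H.subtype_injective]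
    exact core_normal p ↥H)

theorem normalizer_le_normalizer_pCoreOf [Finite G] [Fact p.Prime] (H : Subgroup G) :
    Subgroup.normalizer (H : Set G) ≤ Subgroup.normalizer (Cfsg.pCoreOf p H : Set G) := by
  intro g hg
  refine mem_normalizer_of_le fun y hy => ?_
  set P := (Cfsg.pCoreOf p H).map (MulAut.conj g).toMonoidHom with hP
  have h1 : P ≤ H := by
    rintro _ ⟨x, hx, rfl⟩
    exact conj_mem' hg (pCoreOf_le p H hx)
  have h2 : P ≤ Cfsg.pCoreOf p H := by
    refine le_pCoreOf h1 (fun h hh => mem_normalizer_of_le ?_) ((pCoreOf_isPGroup p H).map _)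
    rintro _ ⟨x, hx, rfl⟩
    refine ⟨(g⁻¹ * h * g) * x * (g⁻¹ * h * g)⁻¹, conj_mem' (le_normalizer_pCoreOf p H ?_) hx, ?_⟩
    · simpa using conj_mem' (inv_mem hg) hh
    · simp only [MulEquiv.coe_toMonoidHom, MulAut.conj_apply]
      group
  exact h2 ⟨y, hy, rfl⟩

/-- A coprime element stabilizing a series `v ↦ W ↦ 1` of a `p`-element. -/
theorem stable_mem {W : Subgroup G} {x o v : G} (hx : x ∈ Subgroup.normalizer (W : Set G))
    (hcop : (orderOf x).Coprime p) (hWv : ∀ w ∈ W, Commute w v) {k : ℕ} (hv : v ^ p ^ k = 1)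
    (h1 : x * o * x⁻¹ = v * o) (h2 : x * v * x⁻¹ * v⁻¹ ∈ W) : v ∈ W := by
  obtain ⟨w1, hw1, hw1'⟩ : ∃ w ∈ W, x * v * x⁻¹ = w * v :=
    ⟨_, h2, by group⟩
  have key : ∀ n : ℕ, ∃ w ∈ W, x ^ n * o * (x ^ n)⁻¹ = w * v ^ n * o := by
    intro n
    induction n with
    | zero => exact ⟨1, W.one_mem, by simp⟩
    | succ n ih =>
      obtain ⟨w, hw, he⟩ := ih
      refine ⟨x * w * x⁻¹ * w1 ^ n, W.mul_mem (conj_mem' hx hw) (W.pow_mem hw1 n), ?_⟩
      have h4 : x * v ^ n * x⁻¹ = w1 ^ n * v ^ n := by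
        rw [← conj_pow, hw1', (hWv w1 hw1).mul_pow]
      calc x ^ (n + 1) * o * (x ^ (n + 1))⁻¹ = x * (x ^ n * o * (x ^ n)⁻¹) * x⁻¹ := by
            rw [pow_succ']; group
        _ = x * w * x⁻¹ * (x * v ^ n * x⁻¹) * (x * o * x⁻¹) := by rw [he]; group
        _ = _ := by rw [h4, h1, pow_succ v n]; group
  obtain ⟨w, hw, he⟩ := key (orderOf x)
  rw [pow_orderOf_eq_one, one_mul, inv_one, mul_one, eq_comm, mul_eq_right] at he
  have h5 : v ^ orderOf x ∈ W := by
    rw [eq_inv_of_mul_eq_one_right he]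
    exact W.inv_mem hw
  obtain ⟨m, hm⟩ := exists_pow_eq_self_of_coprime (x := v) (n := orderOf x)
    ((hcop.pow_right k).coprime_dvd_right (orderOf_dvd_of_pow_eq_one hv))
  rw [← hm]
  exact W.pow_mem h5 m

variable [Finite G] [Fact p.Prime]

/-- The conclusion, from a `p`-group containing `[E, C]` and normalized by `E` and `C`. -/
theorem le_normalizer_of_pgroup (T : Sylow p G) {E W P : Subgroup G}
    (hE : Cfsg.pResidualOf p E = E)
    (hEB : ⁅E, Cfsg.baumannSubgroupOf p (T : Subgroup G)⁆ = E)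
    (hEW : E ≤ Subgroup.normalizer (W : Set G))
    (hBW : Cfsg.baumannSubgroupOf p (T : Subgroup G) ≤ Subgroup.normalizer (W : Set G))
    (hPC : P ≤ Subgroup.centralizer (W : Set G)) (hP : IsPGroup p ↥P)
    (hCP : Subgroup.centralizer (W : Set G) ≤ Subgroup.normalizer (P : Set G))
    (hcomm : ∀ x ∈ E, ∀ c ∈ Subgroup.centralizer (W : Set G), c * x * c⁻¹ * x⁻¹ ∈ P) :
    Subgroup.centralizer (W : Set G) ≤ Subgroup.normalizer (E : Set G) := by
  set C := Subgroup.centralizer (W : Set G) with hC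
  set D := Cfsg.pCoreOf p C with hD
  have hPD : P ≤ D := le_pCoreOf hPC hCP hP
  have hNC : Subgroup.normalizer (W : Set G) ≤ Subgroup.normalizer (C : Set G) := by
    intro g hg
    refine mem_normalizer_of_le fun y hy => fun w hw => ?_
    have h1 : g⁻¹ * w * g ∈ W := by simpa using conj_mem' (inv_mem hg) hw
    have h2 := hy _ h1
    calc w * (g * y * g⁻¹) = g * (g⁻¹ * w * g * y) * g⁻¹ := by group
      _ = g * (y * (g⁻¹ * w * g)) * g⁻¹ := by rw [h2]
      _ = g * y * g⁻¹ * w := by group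
  have hND := hNC.trans (normalizer_le_normalizer_pCoreOf (p := p) C)
  have hDE : D ≤ Subgroup.normalizer (E : Set G) :=
    le_normalizer_block T hE hEB (pCoreOf_isPGroup p C) (hBW.trans hND) (hEW.trans hND)
  intro c hc
  refine mem_normalizer_of_le fun e he => ?_
  refine (residual_induction hE (R := E.comap (MulAut.conj c).toMonoidHom)
    fun x hx hcop => ?_) he
  show c * x * c⁻¹ ∈ E
  refine mem_of_coprime_sup (pCoreOf_isPGroup p C) hDE ?_ ((MulAut.conj c).orderOf_eq x |>.symm ▸ hcop)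
  rw [show c * x * c⁻¹ = c * x * c⁻¹ * x⁻¹ * x by group]
  exact mul_mem (Subgroup.mem_sup_right (hPD (hcomm x hx c hc))) (Subgroup.mem_sup_left hx)

/-- The case where `E` acts trivially on `O_p(G)` modulo its module. -/
theorem le_normalizer_of_stable (hG : Subgroup.centralizer (Cfsg.pCore p G : Set G) ≤ Cfsg.pCore p G)
    (T : Sylow p G) {E W : Subgroup G} (hE : Cfsg.pResidualOf p E = E)
    (hEB : ⁅E, Cfsg.baumannSubgroupOf p (T : Subgroup G)⁆ = E)
    (hEW : E ≤ Subgroup.normalizer (W : Set G))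
    (hBW : Cfsg.baumannSubgroupOf p (T : Subgroup G) ≤ Subgroup.normalizer (W : Set G))
    (hWp : ∀ w ∈ W, w ^ p = 1)
    (hOE : ∀ o ∈ Cfsg.pCore p G, ∀ x ∈ E, x * o * x⁻¹ * o⁻¹ ∈ W) :
    Subgroup.centralizer (W : Set G) ≤ Subgroup.normalizer (E : Set G) := by
  set O := Cfsg.pCore p G with hO
  haveI := core_normal p G
  set C := Subgroup.centralizer (W : Set G) with hC
  let S : Subgroup G :=
    { carrier := {g | g ∈ Subgroup.normalizer (W : Set G) ∧ ∀ o ∈ O, g * o * g⁻¹ * o⁻¹ ∈ W}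
      one_mem' := ⟨one_mem _, fun o _ => by simp⟩
      mul_mem' := fun {a b} ha hb => ⟨mul_mem ha.1 hb.1, fun o ho => by
        rw [show a * b * o * (a * b)⁻¹ * o⁻¹ =
          a * (b * o * b⁻¹ * o⁻¹) * a⁻¹ * (a * o * a⁻¹ * o⁻¹) by group]
        exact mul_mem (conj_mem' ha.1 (hb.2 o ho)) (ha.2 o ho)⟩
      inv_mem' := fun {a} ha => ⟨inv_mem ha.1, fun o ho => by
        have h := W.inv_mem (ha.2 _ ((core_normal p G).conj_mem o ho a⁻¹))
        simpa [mul_assoc] using h⟩ }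
  have hCW : C ≤ Subgroup.normalizer (W : Set G) := fun c hc => mem_normalizer_of_le fun w hw => by
    rwa [← hc w hw, mul_inv_cancel_right]
  have hES : ∀ x ∈ E, x ∈ S := fun x hx => ⟨hEW hx, fun o ho => hOE o ho x hx⟩
  have hCS : ∀ c ∈ C, ∀ s ∈ S, c * s * c⁻¹ ∈ S := by
    intro c hc s hs
    refine ⟨mul_mem (mul_mem (hCW hc) hs.1) (inv_mem (hCW hc)), fun o ho => ?_⟩
    rw [show c * s * c⁻¹ * o * (c * s * c⁻¹)⁻¹ * o⁻¹ =
      c * (s * (c⁻¹ * o * c) * s⁻¹ * (c⁻¹ * o * c)⁻¹) * c⁻¹ by group]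
    refine conj_mem' (hCW hc) (hs.2 _ ?_)
    simpa using (core_normal p G).conj_mem o ho c⁻¹
  refine le_normalizer_of_pgroup T hE hEB hEW hBW (P := S ⊓ C) inf_le_right ?_ ?_ ?_
  · intro g
    have hW1 : ∀ o ∈ O, ((g : G) ^ p) * o * ((g : G) ^ p)⁻¹ = o := by
      intro o ho
      obtain ⟨w, hw, hwe⟩ : ∃ w ∈ W, (g : G) * o * (g : G)⁻¹ = w * o :=
        ⟨_, g.2.1.2 o ho, by group⟩
      have key : ∀ n : ℕ, (g : G) ^ n * o * ((g : G) ^ n)⁻¹ = w ^ n * o := by
        intro n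
        induction n with
        | zero => simp
        | succ n ih =>
          have hc : Commute (g : G) (w ^ n) := (show Commute (g : G) w from (g.2.2 w hw).symm).pow_right n
          calc (g : G) ^ (n + 1) * o * ((g : G) ^ (n + 1))⁻¹
              = (g : G) * ((g : G) ^ n * o * ((g : G) ^ n)⁻¹) * (g : G)⁻¹ := by rw [pow_succ']; group
            _ = w ^ n * ((g : G) * o * (g : G)⁻¹) := by rw [ih, ← mul_assoc, hc.eq]; group
            _ = w ^ (n + 1) * o := by rw [hwe, pow_succ]; group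
      rw [key p, hWp w hw, one_mul]
    obtain ⟨k, hk⟩ := core_isPGroup p G ⟨(g : G) ^ p,
      hG fun o ho => (mul_inv_eq_iff_eq_mul.mp (hW1 o ho)).symm⟩
    refine ⟨k + 1, Subtype.ext ?_⟩
    show ((g : G)) ^ p ^ (k + 1) = 1
    rw [pow_succ', pow_mul]
    exact congrArg Subtype.val hk
  · intro c hc
    exact mem_normalizer_of_le fun s hs => ⟨hCS c hc s hs.1,
      C.mul_mem (C.mul_mem hc hs.2) (C.inv_mem hc)⟩
  · intro x hx c hc
    refine ⟨S.mul_mem (hCS c hc x (hES x hx)) (S.inv_mem (hES x hx)), ?_⟩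
    rw [show c * x * c⁻¹ * x⁻¹ = c * (x * c⁻¹ * x⁻¹) by group]
    refine mul_mem hc fun w hw => ?_
    have h1 : x⁻¹ * w * x ∈ W := by simpa using conj_mem' (inv_mem (hEW hx)) hw
    have h2 := inv_mem hc _ h1
    calc w * (x * c⁻¹ * x⁻¹) = x * (x⁻¹ * w * x * c⁻¹) * x⁻¹ := by group
      _ = x * (c⁻¹ * (x⁻¹ * w * x)) * x⁻¹ := by rw [h2]
      _ = x * c⁻¹ * x⁻¹ * w := by group

end CfsgLib.BlockNorm
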