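import Cfsg.Agent.Lib.BlockNorm.SL2Aut

/-!
# Invariant alternating pairings on the natural module factor through the determinant
-/

set_option autoImplicit false
set_option linter.unusedSectionVars false

open Matrix
open scoped MatrixGroups

namespace CfsgLib.BlockNorm

variable {F : Type*} [Field F] [Fintype F] [CharP F 3]

theorem exists_natCast_of_card_three (h3 : Fintype.card F = 3) (c : F) : ∃ n : ℕ, c = n := by
  haveI : Fact (Nat.Prime 3) := ⟨Nat.prime_three⟩
  have hb : Function.Bijective (ZMod.castHom (dvd_refl 3) F) :=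
    (Fintype.bijective_iff_injective_and_card _).mpr
      ⟨(ZMod.castHom (dvd_refl 3) F).injective, by rw [ZMod.card, h3]⟩
  obtain ⟨x, hx⟩ := hb.2 c
  refine ⟨x.val, ?_⟩
  rw [← hx]
  conv_lhs => rw [← ZMod.natCast_zmod_val x]
  rw [map_natCast]

/-- An invariant alternating biadditive map on `F²` factors through the determinant. -/
theorem exists_form_factor {Z : Type*} [AddCommGroup Z] (β : (Fin 2 → F) → (Fin 2 → F) → Z)
    (hl : ∀ u u' v, β (u + u') v = β u v + β u' v) (hr : ∀ u v v', β u (v + v') = β u v + β u v')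
    (halt : ∀ u, β u u = 0)
    (hinv : ∀ g ∈ commutator (SpecialLinearGroup (Fin 2) F), ∀ u v,
      β ((g : Matrix (Fin 2) (Fin 2) F).mulVec u) ((g : Matrix (Fin 2) (Fin 2) F).mulVec v) = β u v) :
    ∃ ψ : F →+ Z, ∀ u v, β u v = ψ (det2 u v) := by
  classical
  have hsk : ∀ u v, β u v = -β v u := by
    intro u v
    have h := halt (u + v)
    rw [hl, hr, hr, halt, halt, zero_add, add_zero] at h
    exact eq_neg_of_add_eq_zero_left h
  have hl0 : ∀ v, β 0 v = 0 := fun v => by
    have h := hl 0 0 v
    rw [add_zero] at h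
    exact left_eq_add.mp h
  let e1 : F → Fin 2 → F := fun a => ![a, 0]
  let e2 : F → Fin 2 → F := fun a => ![0, a]
  have key : (∀ a b, β (e1 a) (e1 b) = 0) ∧ (∀ a b, β (e2 a) (e2 b) = 0) ∧
      ∀ a b, β (e1 a) (e2 b) = β (e1 1) (e2 (a * b)) := by
    rcases le_or_gt 4 (Fintype.card F) with h4 | h4
    · have htop : ∀ g, g ∈ commutator (SpecialLinearGroup (Fin 2) F) := fun g =>
        commutator_eq_top h4 ▸ Subgroup.mem_top g
      have hg : ∀ (M : Matrix (Fin 2) (Fin 2) F), M.det = 1 → ∀ u v,
          β (M.mulVec u) (M.mulVec v) = β u v := fun M hM u v => hinv ⟨M, hM⟩ (htop _) u v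
      refine ⟨fun a b => ?_, fun a b => ?_, fun a b => ?_⟩
      · have h := hg !![1, 1; 0, 1] (by simp [det_fin_two]) (e1 a) (e2 b)
        rw [show (!![1, 1; 0, 1] : Matrix (Fin 2) (Fin 2) F).mulVec (e1 a) = e1 a by
            ext i; fin_cases i <;> simp [e1],
          show (!![1, 1; 0, 1] : Matrix (Fin 2) (Fin 2) F).mulVec (e2 b) = e1 b + e2 b by
            ext i; fin_cases i <;> simp [e1, e2], hr] at h
        simpa using h
      · have h := hg !![1, 0; 1, 1] (by simp [det_fin_two]) (e1 a) (e2 b)
        rw [show (!![1, 0; 1, 1] : Matrix (Fin 2) (Fin 2) F).mulVec (e1 a) = e1 a + e2 a by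
            ext i; fin_cases i <;> simp [e1, e2],
          show (!![1, 0; 1, 1] : Matrix (Fin 2) (Fin 2) F).mulVec (e2 b) = e2 b by
            ext i; fin_cases i <;> simp [e2], hl] at h
        simpa using h
      · rcases eq_or_ne a 0 with rfl | ha
        · have : e1 (0 : F) = 0 := by ext i; fin_cases i <;> simp [e1]
          rw [this, hl0, zero_mul]
          have : e2 (0 : F) = 0 := by ext i; fin_cases i <;> simp [e2]
          rw [this, hsk, hl0, neg_zero]
        · have h := hg !![a⁻¹, 0; 0, a] (by simp [det_fin_two, ha]) (e1 a) (e2 b)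
          rw [show (!![a⁻¹, 0; 0, a] : Matrix (Fin 2) (Fin 2) F).mulVec (e1 a) = e1 1 by
              ext i; fin_cases i <;> simp [e1, ha],
            show (!![a⁻¹, 0; 0, a] : Matrix (Fin 2) (Fin 2) F).mulVec (e2 b) = e2 (a * b) by
              ext i; fin_cases i <;> simp [e2, mul_comm]] at h
          exact h.symm
    · have h3 : Fintype.card F = 3 := by
        have h1 := Fintype.one_lt_card (α := F)
        have h2 : Fintype.card F ≠ 2 := by
          intro h2
          have := FiniteField.cast_card_eq_zero F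
          rw [h2] at this
          exact one_ne_zero (α := F) (by linear_combination three_eq_zero (F := F) - this)
        omega
      have hsm : ∀ (n : ℕ) u v, β (n • u) v = n • β u v := by
        intro n u v
        induction n with
        | zero => rw [zero_smul, zero_smul, hl0]
        | succ n ih => rw [succ_nsmul, succ_nsmul, hl, ih]
      have hsm' : ∀ (n : ℕ) u v, β u (n • v) = n • β u v := fun n u v => by
        rw [hsk, hsm, hsk v u]; simp
      have he1 : ∀ n : ℕ, e1 (n : F) = n • e1 1 := fun n => by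
        ext i; fin_cases i <;> simp [e1]
      have he2 : ∀ n : ℕ, e2 (n : F) = n • e2 1 := fun n => by
        ext i; fin_cases i <;> simp [e2]
      refine ⟨fun a b => ?_, fun a b => ?_, fun a b => ?_⟩ <;>
        obtain ⟨n, rfl⟩ := exists_natCast_of_card_three h3 a <;>
        obtain ⟨m, rfl⟩ := exists_natCast_of_card_three h3 b
      · rw [he1, he1, hsm, hsm', halt, smul_zero, smul_zero]
      · rw [he2, he2, hsm, hsm', halt, smul_zero, smul_zero]
      · rw [← Nat.cast_mul, he1, he2, he2, hsm, hsm', hsm', ← mul_smul]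
  obtain ⟨h11, h22, h12⟩ := key
  refine ⟨AddMonoidHom.mk' (fun c => β (e1 1) (e2 c)) fun c d => ?_, fun u v => ?_⟩
  · rw [← hr]
    congr 1
    ext i; fin_cases i <;> simp [e2]
  · have hd : ∀ w : Fin 2 → F, w = e1 (w 0) + e2 (w 1) := fun w => by
      ext i; fin_cases i <;> simp [e1, e2]
    conv_lhs => rw [hd u, hd v]
    rw [hl, hr, hr, h11, h22, h12 (u 0) (v 1), hsk (e2 (u 1)), h12 (v 0) (u 1), zero_add, add_zero]
    show _ = β (e1 1) (e2 (det2 u v))
    rw [← sub_eq_add_neg, sub_eq_iff_eq_add, ← hr]
    congr 1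
    ext i; fin_cases i <;> simp [e2, det2, mul_comm]

end CfsgLib.BlockNorm
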