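import Cfsg.Agent.Lib.BlockNorm.Basic
import Cfsg.Agent.Lib.BlockNorm.SL2Form

/-!
# The exceptional block: the data
-/

set_option autoImplicit false
set_option linter.unusedSectionVars false

open Matrix
open scoped MatrixGroups commutatorElement

namespace CfsgLib.BlockNorm

/-- An exceptional block `E` with `Q = O₃(E) = [O, E]` inside `O = O₃(N(W))`. -/
structure Ctx (G : Type*) [Group G] (F : Type*) [Field F] [Fintype F] where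
  E : Subgroup G
  Q : Subgroup G
  V : Subgroup G
  Z : Subgroup G
  W : Subgroup G
  O : Subgroup G
  e : G
  ρ : ↥E →* SpecialLinearGroup (Fin 2) F
  ρ2 : ↥E →* SpecialLinearGroup (Fin 2) F
  ψ : ↥V →* Multiplicative (Fin 2 → F)
  ψ2 : ↥Q →* Multiplicative (Fin 2 → F)
  hQE : Q ≤ E
  hEQ : E ≤ Subgroup.normalizer (Q : Set G)
  hQp : IsPGroup 3 ↥Q
  hVQ : V ≤ Q
  hEV : E ≤ Subgroup.normalizer (V : Set G)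
  hVab : ∀ v ∈ V, ∀ v' ∈ V, Commute v v'
  hV3 : ∀ v ∈ V, v ^ 3 = 1
  hVcQ : ∀ v ∈ V, ∀ q ∈ Q, Commute v q
  hZV : Z ≤ V
  hZE : ∀ z ∈ Z, ∀ x ∈ E, Commute z x
  hZcard : Nat.card ↥Z = Fintype.card F
  hQQ : ⁅Q, Q⁆ = Z
  hρ : ρ.range = commutator (SpecialLinearGroup (Fin 2) F)
  hρ2 : ρ2.range = commutator (SpecialLinearGroup (Fin 2) F)
  hρker : ∀ x : ↥E, ρ x = 1 ↔ (x : G) ∈ Q
  hρ2ker : ∀ x : ↥E, ρ2 x = 1 ↔ (x : G) ∈ Q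
  hψ : Function.Surjective ψ
  hψker : ∀ u : ↥V, ψ u = 1 ↔ (u : G) ∈ Z
  hψeq : ∀ (x : ↥E) (u : ↥V), ∃ w : ↥V, (w : G) = (x : G) * u * (x : G)⁻¹ ∧
    (ψ w).toAdd = (ρ x : Matrix (Fin 2) (Fin 2) F).mulVec (ψ u).toAdd
  hψ2 : Function.Surjective ψ2
  hψ2ker : ∀ u : ↥Q, ψ2 u = 1 ↔ (u : G) ∈ V
  hψ2eq : ∀ (x : ↥E) (u : ↥Q), ∃ w : ↥Q, (w : G) = (x : G) * u * (x : G)⁻¹ ∧
    (ψ2 w).toAdd = (ρ2 x : Matrix (Fin 2) (Fin 2) F).mulVec (ψ2 u).toAdd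
  he : e ∈ E
  he2 : e * e = 1
  hρe : ρ ⟨e, he⟩ = -1
  hρ2e : ρ2 ⟨e, he⟩ = -1
  hWV : W ≤ V
  hWsup : ∀ v ∈ V, ∃ w ∈ W, ∃ z ∈ Z, v = w * z
  hWZ : ∀ w ∈ W, w ∈ Z → w = 1
  hWe : ∀ w ∈ W, e * w * e⁻¹ = w⁻¹
  hEW : E ≤ Subgroup.normalizer (W : Set G)
  hOp : IsPGroup 3 ↥O
  hON : Subgroup.normalizer (W : Set G) ≤ Subgroup.normalizer (O : Set G)
  hOW : O ≤ Subgroup.normalizer (W : Set G)
  hOself : Subgroup.centralizer (O : Set G) ≤ O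
  hOmax : ∀ P : Subgroup G, P ≤ Subgroup.normalizer (W : Set G) → IsPGroup 3 ↥P →
    Subgroup.normalizer (W : Set G) ≤ Subgroup.normalizer (P : Set G) → P ≤ O
  hQO : Q ≤ O
  hVO : ∀ v ∈ V, ∀ o ∈ O, Commute v o
  hQOV : ∀ q ∈ Q, ∀ o ∈ O, q * o * q⁻¹ * o⁻¹ ∈ V
  hQcent : ∀ q ∈ Q, (∀ o ∈ O, Commute q o) → q ∈ V
  hEO : ∀ x ∈ E, ∀ o ∈ O, x * o * x⁻¹ * o⁻¹ ∈ Q
  hEZ0 : ∀ x ∈ E, ∀ o ∈ O, (∀ o' ∈ O, Commute o o') → x * o * x⁻¹ * o⁻¹ ∈ W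

end CfsgLib.BlockNorm
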