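import Cfsg.Agent.Lib.BlockNorm.KLemma
import Cfsg.Agent.Lib.PLocal.Unipotent

/-!
# The exceptional block: an element of `B(T)` quadratic on `W` and cubic on `Q`
-/

set_option autoImplicit false
set_option linter.unusedSectionVars false

open Matrix
open scoped MatrixGroups commutatorElement

namespace CfsgLib.BlockNorm

/-- Some element of `J(T)` acts quadratically and nontrivially on `W`. -/
theorem exists_quadratic {G : Type*} [Group G] [Finite G] {p : ℕ} [Fact p.Prime] (T : Sylow p G)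
    {W : Subgroup G} (hWT : W ≤ (T : Subgroup G)) (hW : Cfsg.IsElementaryAbelian p W)
    (hBW : Cfsg.baumannSubgroupOf p (T : Subgroup G) ≤ Subgroup.normalizer (W : Set G))
    (hne : ⁅W, Cfsg.thompsonSubgroupOf p (T : Subgroup G)⁆ ≠ ⊥) :
    ∃ b ∈ Cfsg.baumannSubgroupOf p (T : Subgroup G), b ∉ Subgroup.centralizer (W : Set G) ∧
      b ^ p = 1 ∧
      ∀ w ∈ W, b * (b * w * b⁻¹ * w⁻¹) * b⁻¹ * (b * w * b⁻¹ * w⁻¹)⁻¹ = 1 := by
  set J := Cfsg.thompsonSubgroupOf p (T : Subgroup G) with hJ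
  obtain ⟨A, hA, hAW⟩ : ∃ A ∈ CfsgLib.PLocal.maxEAIn p (T : Subgroup G),
      ¬ A ≤ Subgroup.centralizer (W : Set G) := by
    by_contra! h
    refine hne (Subgroup.commutator_eq_bot_iff_le_centralizer.mpr
      (Subgroup.le_centralizer_iff.mp ?_))
    rw [hJ, CfsgLib.PLocal.thompsonSubgroupOf_eq]
    exact sSup_le h
  have hAJ : A ≤ J := by
    rw [hJ, CfsgLib.PLocal.thompsonSubgroupOf_eq]
    exact le_sSup hA
  have hAB : A ≤ Cfsg.baumannSubgroupOf p (T : Subgroup G) :=
    hAJ.trans (CfsgLib.LocalEven.BBlock.thompson_le_baumann _)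
  have hAN : A ≤ Subgroup.normalizer (W : Set G) := hAB.trans hBW
  obtain ⟨-, hfix, -⟩ := CfsgLib.PLocal.bestOffender_replacement hW.1 hAN
    (CfsgLib.PLocal.maxEA_isBestOffenderOn hW (CfsgLib.PLocal.maxEAIn_sylow_subset hA))
    (U := W) le_rfl
  obtain ⟨b, hb, hbW⟩ : ∃ b ∈ A ⊓ Subgroup.centralizer ((⁅W, A⁆ : Subgroup G) : Set G),
      b ∉ Subgroup.centralizer (W : Set G) := by
    by_contra! h
    have hle : W ≤ Subgroup.centralizer
        ((A ⊓ Subgroup.centralizer ((⁅W, A⁆ : Subgroup G) : Set G) : Subgroup G) : Set G) :=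
      Subgroup.le_centralizer_iff.mp h
    rw [inf_eq_left.mpr hle] at hfix
    have hWAW : ⁅W, A⁆ ≤ W := CfsgLib.LocalEven.BBlock.commutator_le_of_le_normalizer hAN
    have hWA : ⁅⁅W, A⁆, A⁆ = ⁅W, A⁆ := by
      refine le_antisymm (Subgroup.commutator_mono hWAW le_rfl)
        (Subgroup.commutator_le.mpr fun w hw a ha => ?_)
      have hw' : w ∈ ⁅W, A⁆ ⊔ (W ⊓ Subgroup.centralizer (A : Set G)) := hfix ▸ hw
      rw [← SetLike.mem_coe, Subgroup.coe_mul_of_right_le_normalizer_left _ _ (fun z hz =>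
        CfsgLib.LocalEven.BBlock.mem_normalizer_of_le fun y hy => by
          rwa [(CfsgLib.PLocal.commute_of_mem_comm hW.1 hz.1 (hWAW hy)).eq,
            mul_inv_cancel_right])] at hw'
      obtain ⟨m, hm, z, hz, rfl⟩ := hw'
      have hza : a * z = z * a := hz.2 a ha
      have e : ⁅m * z, a⁆ = ⁅m, a⁆ := by
        rw [commutatorElement_def, commutatorElement_def,
          show m * z * a * (m * z)⁻¹ = m * (z * a * z⁻¹) * m⁻¹ by group, ← hza,
          mul_inv_cancel_right]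
      rw [e]
      exact Subgroup.commutator_mem_commutator hm ha
    refine hAW (Subgroup.le_centralizer_iff.mp (Subgroup.commutator_eq_bot_iff_le_centralizer.mp ?_))
    exact CfsgLib.PLocal.eq_bot_of_commutator_eq_self_pgroup (T.2.to_le (hWAW.trans hWT))
      (T.2.to_le hA.1) (CfsgLib.LocalEven.BBlock.le_normalizer_commutator hAN) hWA
  refine ⟨b, hAB hb.1, hbW, hA.2.1.2 b hb.1, fun w hw => ?_⟩
  have h1 : b * w * b⁻¹ * w⁻¹ ∈ ⁅W, A⁆ := by
    have := inv_mem (Subgroup.commutator_mem_commutator hw hb.1)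
    rwa [commutatorElement_inv, commutatorElement_def] at this
  rw [← hb.2 _ h1, mul_inv_cancel_right, mul_inv_cancel]

variable {F : Type*} [Field F]

/-- An additive map of `F²` commuting with `SL₂(F)` is a scalar. -/
theorem exists_scalar_of_commute (S : (Fin 2 → F) →+ (Fin 2 → F))
    (h : ∀ (g : SpecialLinearGroup (Fin 2) F) u,
      S ((g : Matrix (Fin 2) (Fin 2) F).mulVec u) = (g : Matrix (Fin 2) (Fin 2) F).mulVec (S u)) :
    ∃ k : F, ∀ u, S u = k • u := by
  have hu : ∀ (t : F) u, S ![u 0 + t * u 1, u 1] = ![S u 0 + t * S u 1, S u 1] := by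
    intro t u
    have := h ⟨!![1, t; 0, 1], by simp [det_fin_two]⟩ u
    simpa [mulVec, dotProduct, Fin.sum_univ_two] using this
  have hl : ∀ (t : F) u, S ![u 0, t * u 0 + u 1] = ![S u 0, t * S u 0 + S u 1] := by
    intro t u
    have := h ⟨!![1, 0; t, 1], by simp [det_fin_two]⟩ u
    simpa [mulVec, dotProduct, Fin.sum_univ_two] using this
  have hg : ∀ a, S ![a, 0] 1 = 0 := by
    intro a
    have := congrFun (hu 1 ![a, 0]) 0
    simpa using this
  have hb : ∀ a, S ![0, a] 0 = 0 := by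
    intro a
    have := congrFun (hl 1 ![0, a]) 1
    simpa using this
  have key : ∀ t a, S ![t * a, 0] 0 = t * S ![0, a] 1 := by
    intro t a
    have h1 := congrFun (hu t ![0, a]) 0
    simp only [Matrix.cons_val_zero, Matrix.cons_val_one, zero_add, hb] at h1
    rw [show (![t * a, a] : Fin 2 → F) = ![t * a, 0] + ![0, a] by ext i; fin_cases i <;> simp,
      map_add, Pi.add_apply, hb, add_zero] at h1
    exact h1
  refine ⟨S ![0, 1] 1, fun u => ?_⟩
  conv_lhs => rw [show u = ![u 0, 0] + ![0, u 1] by ext i; fin_cases i <;> simp]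
  rw [map_add]
  ext i
  fin_cases i
  · show S ![u 0, 0] 0 + S ![0, u 1] 0 = S ![0, 1] 1 * u 0
    rw [hb, add_zero, show u 0 = u 0 * 1 from (mul_one _).symm, key]
    ring
  · show S ![u 0, 0] 1 + S ![0, u 1] 1 = S ![0, 1] 1 * u 1
    have h1 := key 1 (u 1)
    have h2 := key (u 1) 1
    rw [one_mul] at h1
    rw [mul_one] at h2
    rw [hg, zero_add, mul_comm, ← h2]
    linear_combination -h1

/-- A semilinear quadratic map is linear, with determinant `1`. -/
theorem exists_sl2_of_quadratic (h2 : (2 : F) ≠ 0) (A : (Fin 2 → F) ≃+ (Fin 2 → F))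
    (hsemi : ∀ t : F, ∃ s : F, ∀ u, A (t • u) = s • A u)
    (hq : ∀ u, A (A u) - A u - (A u - u) = 0) :
    ∃ g : SpecialLinearGroup (Fin 2) F, ∀ u, (g : Matrix (Fin 2) (Fin 2) F).mulVec u = A u := by
  choose σ hσ using hsemi
  have hsq : ∀ u, A (A u) = A u + A u - u := fun u => by
    have h := hq u
    rw [sub_eq_zero] at h
    rw [sub_eq_iff_eq_add.mp h]
    abel
  have hlin : ∀ (t : F) u, A (t • u) = t • A u := by
    suffices hid : ∀ t, σ t = t from fun t u => by rw [hσ, hid]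
    intro t
    by_cases hall : ∀ u, ∃ k : F, A u = k • u
    · obtain ⟨k1, hk1⟩ := hall ![1, 0]
      obtain ⟨k2, hk2⟩ := hall ![0, 1]
      obtain ⟨k3, hk3⟩ := hall (![1, 0] + ![0, 1])
      obtain ⟨k4, hk4⟩ := hall (![1, 0] + t • ![0, 1])
      rw [map_add, hk1, hk2] at hk3
      rw [map_add, hσ, hk1, hk2] at hk4
      have a0 : k1 = k3 := by simpa using congrFun hk3 0
      have a1 : k2 = k3 := by simpa using congrFun hk3 1
      have b0 : k1 = k4 := by simpa using congrFun hk4 0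
      have b1 : σ t * k2 = k4 * t := by simpa using congrFun hk4 1
      have hk : k2 ≠ 0 := by
        intro h0
        rw [h0, zero_smul, ← map_zero A] at hk2
        simpa using congrFun (A.injective hk2) 1
      have hk4' : k4 = k2 := by rw [← b0, a0, ← a1]
      rw [hk4', mul_comm] at b1
      exact mul_left_cancel₀ hk b1
    · push Not at hall
      obtain ⟨u, hu⟩ := hall
      have e1 := hsq (t • u)
      rw [hσ, hσ, hsq] at e1
      have e2 : ((2 : F) * σ (σ t) - 2 * σ t) • A u = (σ (σ t) - t) • u := by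
        linear_combination (norm := module) e1
      by_cases hc : (2 : F) * σ (σ t) - 2 * σ t = 0
      · rw [hc, zero_smul, eq_comm, smul_eq_zero] at e2
        rcases e2 with e2 | e2
        · apply mul_left_cancel₀ h2
          linear_combination (2 : F) * e2 - hc
        · exact absurd (by rw [e2, map_zero, smul_zero]) (hu 0)
      · exact absurd (by rw [← inv_smul_smul₀ hc (A u), e2, smul_smul])
          (hu ((((2 : F) * σ (σ t) - 2 * σ t))⁻¹ * (σ (σ t) - t)))
  set a := A ![1, 0] with ha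
  set b := A ![0, 1] with hb
  have hAu : ∀ u, A u = u 0 • a + u 1 • b := fun u => by
    conv_lhs => rw [show u = u 0 • ![1, 0] + u 1 • ![0, 1] by ext i; fin_cases i <;> simp]
    rw [map_add, hlin, hlin]
  have q1 := hsq ![1, 0]
  have q2 := hsq ![0, 1]
  rw [← ha, hAu a] at q1
  rw [← hb, hAu b] at q2
  have e00 : a 0 * a 0 + a 1 * b 0 = a 0 + a 0 - 1 := by simpa using congrFun q1 0
  have e10 : a 0 * a 1 + a 1 * b 1 = a 1 + a 1 := by simpa using congrFun q1 1
  have e01 : b 0 * a 0 + b 1 * b 0 = b 0 + b 0 := by simpa using congrFun q2 0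
  have e11 : b 0 * a 1 + b 1 * b 1 = b 1 + b 1 - 1 := by simpa using congrFun q2 1
  have htr : a 0 + b 1 = 2 := by
    by_cases hab : a 1 = 0 ∧ b 0 = 0
    · obtain ⟨h10, h01⟩ := hab
      have ha0 : (a 0 - 1) * (a 0 - 1) = 0 := by linear_combination e00 - b 0 * h10
      have hb1 : (b 1 - 1) * (b 1 - 1) = 0 := by linear_combination e11 - b 0 * h10
      linear_combination mul_self_eq_zero.mp ha0 + mul_self_eq_zero.mp hb1
    · rcases not_and_or.mp hab with h | h
      · apply mul_left_cancel₀ h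
        linear_combination e10
      · apply mul_left_cancel₀ h
        linear_combination e01
  have hdet : (!![a 0, b 0; a 1, b 1]).det = 1 := by
    rw [det_fin_two_of]
    linear_combination a 0 * htr - e00
  refine ⟨⟨_, hdet⟩, fun u => ?_⟩
  rw [hAu]
  ext i
  fin_cases i <;> simp [mulVec, dotProduct, Fin.sum_univ_two, mul_comm]

variable [Fintype F] [CharP F 3]

theorem eq_one_of_pow_three {k : F} (h : k ^ 3 = 1) : k = 1 := by
  have h3 := three_eq_zero (F := F)
  have : (k - 1) ^ 3 = 0 := by linear_combination h + (k - k ^ 2) * h3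
  exact sub_eq_zero.mp (pow_eq_zero_iff (by norm_num) |>.mp this)

theorem quadratic_of_pow_three {g : SpecialLinearGroup (Fin 2) F} (h : g * g * g = 1) (u : Fin 2 → F) :
    (g : Matrix (Fin 2) (Fin 2) F).mulVec ((g : Matrix (Fin 2) (Fin 2) F).mulVec u - u) -
      ((g : Matrix (Fin 2) (Fin 2) F).mulVec u - u) = 0 := by
  set N := (g : Matrix (Fin 2) (Fin 2) F) - 1 with hN
  have h3 := three_eq_zero (F := F)
  have hg : (g : Matrix (Fin 2) (Fin 2) F) * g * g = 1 :=
    congrArg (fun m : SpecialLinearGroup (Fin 2) F => (m : Matrix (Fin 2) (Fin 2) F)) h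
  have hN3 : N * N * N = 0 := by
    have e : N * N * N = (g : Matrix (Fin 2) (Fin 2) F) * g * g - 1 +
        (3 : F) • ((g : Matrix (Fin 2) (Fin 2) F) - (g : Matrix (Fin 2) (Fin 2) F) * g) := by
      rw [hN]
      simp only [sub_mul, mul_sub, one_mul, mul_one, smul_sub]
      module
    rw [e, hg, sub_self, h3, zero_smul, add_zero]
  have hdN : N 0 0 * N 1 1 - N 0 1 * N 1 0 = 0 := by
    have := congrArg Matrix.det hN3
    rw [det_mul, det_mul, det_zero] at this
    rw [← det_fin_two]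
    simpa using this
  have hNN : N * N = (N 0 0 + N 1 1) • N := by
    ext i j
    fin_cases i <;> fin_cases j <;> simp [Matrix.mul_apply, Fin.sum_univ_two]
    · linear_combination -hdN
    · ring
    · ring
    · linear_combination -hdN
  have hN2 : N * N = 0 := by
    rcases eq_or_ne (N 0 0 + N 1 1) 0 with ht | ht
    · rw [hNN, ht, zero_smul]
    · rw [hNN, smul_mul_assoc, hNN, smul_smul, smul_eq_zero] at hN3
      rcases hN3 with h0 | h0
      · exact absurd (mul_self_eq_zero.mp h0) ht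
      · rw [h0, mul_zero]
  have e : ∀ v, (g : Matrix (Fin 2) (Fin 2) F).mulVec v - v = N.mulVec v := fun v => by
    rw [hN, sub_mulVec, one_mulVec]
  rw [e, e, mulVec_mulVec, hN2, zero_mulVec]

/-- An additive map of order three on a group of order nine is quadratic. -/
theorem quadratic_of_card_nine (h3 : Fintype.card F = 3)
    (B : (Fin 2 → F) →+ (Fin 2 → F)) (hB : ∀ u, B (B (B u)) = u) (u : Fin 2 → F) :
    B (B u - u) - (B u - u) = 0 := by
  classical
  set N : (Fin 2 → F) →+ (Fin 2 → F) := B - AddMonoidHom.id _ with hN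
  have hNu : ∀ v, N v = B v - v := fun v => by simp [hN]
  have hthree : ∀ v : Fin 2 → F, v + v + v = 0 := fun v => funext fun i => by
    show v i + v i + v i = 0
    linear_combination v i * three_eq_zero (F := F)
  have hN3 : ∀ v, N (N (N v)) = 0 := fun v => by
    simp only [hNu, map_sub, hB]
    linear_combination (norm := abel) hthree (B v) - hthree (B (B v))
  have hcard : Nat.card (Fin 2 → F) = 3 ^ 2 := by
    rw [Nat.card_eq_fintype_card, Fintype.card_fun, h3, Fintype.card_fin]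
  suffices h : N (N u) = 0 by rwa [hNu, hNu] at h
  set R := N.range with hR
  have hRt : R ≠ ⊤ := by
    intro ht
    have hs : Function.Surjective N := AddMonoidHom.range_eq_top.mp ht
    obtain ⟨x, hx⟩ := (hs.comp (hs.comp hs)) ![1, 0]
    simp only [Function.comp_apply, hN3] at hx
    simpa using congrFun hx 0
  obtain ⟨k, hk, hRcard⟩ := (Nat.dvd_prime_pow Nat.prime_three).mp
    (hcard ▸ AddSubgroup.card_addSubgroup_dvd_card R)
  have hk2 : k ≠ 2 := fun hk2 => hRt (AddSubgroup.eq_top_of_card_eq R (by rw [hRcard, hk2, hcard]))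
  set R' := R.map N with hR'
  have hR'R : R' ≤ R := by
    rintro _ ⟨y, -, rfl⟩
    exact ⟨y, rfl⟩
  have hNu' : N (N u) ∈ R' := ⟨N u, ⟨u, rfl⟩, rfl⟩
  by_cases hb : R' = ⊥
  · rw [hb] at hNu'
    exact hNu'
  have hRle : Nat.card R ≤ 3 := by
    rw [hRcard]
    exact (Nat.pow_le_pow_right (by norm_num) (by omega : k ≤ 1))
  have hR'3 : 3 ≤ Nat.card R' := by
    obtain ⟨m, hm, hm'⟩ := (Nat.dvd_prime_pow Nat.prime_three).mp
      (hcard ▸ AddSubgroup.card_addSubgroup_dvd_card R')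
    rw [hm']
    rcases Nat.eq_zero_or_pos m with rfl | hm0
    · exact absurd (AddSubgroup.eq_bot_of_card_eq R' (by rw [hm', pow_zero])) hb
    · calc 3 = 3 ^ 1 := rfl
        _ ≤ 3 ^ m := Nat.pow_le_pow_right (by norm_num) hm0
  have hEq : R' = R := AddSubgroup.eq_of_le_of_card_ge hR'R (hRle.trans hR'3)
  have hall : ∀ y ∈ R, ∃ z ∈ R, N z = y := fun y hy => by
    rw [← hEq] at hy
    exact hy
  obtain ⟨z, ⟨z0, rfl⟩, hz⟩ := hall (N (N u)) ⟨_, rfl⟩
  obtain ⟨z1, ⟨z2, rfl⟩, hz1⟩ := hall (N z0) ⟨_, rfl⟩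
  rw [← hz, ← hz1]
  exact hN3 _

namespace Ctx

variable {G : Type*} [Group G] [Finite G] {F : Type*} [Field F] [Fintype F] [CharP F 3]
  (c : Ctx G F)

theorem hasCubic {b : G} (hbE : b ∈ Subgroup.normalizer (c.E : Set G)) (hbN : b ∈ c.NW)
    (hbQ : b ∈ Subgroup.normalizer (c.Q : Set G)) (hbV : b ∈ Subgroup.normalizer (c.V : Set G))
    (hbZ : b ∈ Subgroup.normalizer (c.Z : Set G)) (hb3 : b ^ 3 = 1)
    (hbW : ∀ w ∈ c.W, b * (b * w * b⁻¹ * w⁻¹) * b⁻¹ * (b * w * b⁻¹ * w⁻¹)⁻¹ = 1)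
    (hbad : ¬ ⁅⁅c.Q, Subgroup.zpowers b⁆, Subgroup.zpowers b⁆ ≤ c.Z) : c.HasCubic := by
  classical
  refine ⟨b, hbN, hbQ, hbZ, hbW, ?_, ?_⟩
  · -- quadratic on `Q / V`
    let fV : ↥c.Q →* Multiplicative (Fin 2 → F) :=
      { toFun := fun q => c.ψ2 ⟨b * q * b⁻¹, conj_mem' hbQ q.2⟩
        map_one' := by
          rw [← map_one c.ψ2]
          congr 1
          exact Subtype.ext (by simp)
        map_mul' := fun q q' => by
          rw [← map_mul]
          congr 1
          exact Subtype.ext (by simp [mul_assoc]) }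
    let B : (Fin 2 → F) →+ (Fin 2 → F) := AddMonoidHom.mk' (fun u => (fV (c.lift u)).toAdd)
      fun u v => by
        have h : (c.lift u * c.lift v)⁻¹ * c.lift (u + v) ∈ fV.ker := by
          refine (c.hψ2ker ⟨_, conj_mem' hbQ (Subtype.mem _)⟩).mpr (conj_mem' hbV ?_)
          refine (c.hψ2ker _).mp ?_
          rw [map_mul, map_inv, map_mul, c.lift_spec, c.lift_spec, c.lift_spec, ← ofAdd_add,
            inv_mul_cancel]
        rw [MonoidHom.mem_ker, map_mul, map_inv, inv_mul_eq_one, map_mul] at h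
        rw [← h, toAdd_mul]
    have hB : ∀ q : ↥c.Q, (c.ψ2 ⟨b * q * b⁻¹, conj_mem' hbQ q.2⟩).toAdd = B (c.ψ2 q).toAdd := by
      intro q
      have h : (c.lift (c.ψ2 q).toAdd)⁻¹ * q ∈ fV.ker := by
        refine (c.hψ2ker ⟨_, conj_mem' hbQ (Subtype.mem _)⟩).mpr (conj_mem' hbV ?_)
        refine (c.hψ2ker _).mp ?_
        rw [map_mul, map_inv, c.lift_spec, ofAdd_toAdd, inv_mul_cancel]
      rw [MonoidHom.mem_ker, map_mul, map_inv, inv_mul_eq_one] at h
      exact congrArg Multiplicative.toAdd h.symm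
    have hB3 : ∀ u, B (B (B u)) = u := by
      intro u
      obtain ⟨q, hq⟩ := c.hψ2 (Multiplicative.ofAdd u)
      have hqu : (c.ψ2 q).toAdd = u := by rw [hq, toAdd_ofAdd]
      conv_lhs => rw [← hqu, ← hB, ← hB, ← hB]
      conv_rhs => rw [← hqu]
      congr 2
      apply Subtype.ext
      show b * (b * (b * q * b⁻¹) * b⁻¹) * b⁻¹ = (q : G)
      rw [show b * (b * (b * (q : G) * b⁻¹) * b⁻¹) * b⁻¹ = b ^ 3 * q * (b ^ 3)⁻¹ by
        simp [pow_succ, mul_assoc], hb3]
      simp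
    suffices hquad : ∀ u, B (B u - u) - (B u - u) = 0 by
      intro x hx
      have hD : b * x * b⁻¹ * x⁻¹ ∈ c.Q := mul_mem (conj_mem' hbQ hx) (inv_mem hx)
      refine (c.hψ2ker ⟨_, mul_mem (conj_mem' hbQ hD) (inv_mem hD)⟩).mp
        (Multiplicative.toAdd.injective ?_)
      rw [show (⟨_, mul_mem (conj_mem' hbQ hD) (inv_mem hD)⟩ : ↥c.Q) =
        (⟨_, conj_mem' hbQ hD⟩ : ↥c.Q) * (⟨_, hD⟩ : ↥c.Q)⁻¹ from rfl, map_mul, map_inv, toAdd_mul,
        toAdd_inv, hB ⟨_, hD⟩,
        show (⟨_, hD⟩ : ↥c.Q) = (⟨_, conj_mem' hbQ hx⟩ : ↥c.Q) * (⟨x, hx⟩ : ↥c.Q)⁻¹ from rfl,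
        map_mul, map_inv, toAdd_mul, toAdd_inv, hB ⟨x, hx⟩, ← sub_eq_add_neg, ← sub_eq_add_neg,
        toAdd_one]
      exact hquad _
    by_cases h3 : Fintype.card F = 3
    · exact quadratic_of_card_nine h3 B hB3
    have h4 : 4 ≤ Fintype.card F := by
      have h1 := Fintype.one_lt_card (α := F)
      have h2 : Fintype.card F ≠ 2 := by
        intro h2
        have := FiniteField.cast_card_eq_zero F
        rw [h2] at this
        exact one_ne_zero (α := F) (by linear_combination three_eq_zero (F := F) - this)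
      omega
    have htop := commutator_eq_top h4
    have hsurj : ∀ (f : ↥c.E →* SpecialLinearGroup (Fin 2) F),
        f.range = commutator (SpecialLinearGroup (Fin 2) F) → Function.Surjective f := fun f hf =>
      MonoidHom.range_eq_top.mp (hf.trans htop)
    -- the action on `V / Z`
    let fZ : ↥c.V →* Multiplicative (Fin 2 → F) :=
      { toFun := fun q => c.ψ ⟨b * q * b⁻¹, conj_mem' hbV q.2⟩
        map_one' := by
          rw [← map_one c.ψ]
          congr 1
          exact Subtype.ext (by simp)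
        map_mul' := fun q q' => by
          rw [← map_mul]
          congr 1
          exact Subtype.ext (by simp [mul_assoc]) }
    choose lV hlV using fun u => c.hψ (Multiplicative.ofAdd u)
    have hfZ : ∀ q q' : ↥c.V, c.ψ q = c.ψ q' → fZ q = fZ q' := by
      intro q q' h
      refine inv_mul_eq_one.mp ?_
      rw [← map_inv, ← map_mul]
      refine (c.hψker ⟨_, conj_mem' hbV (Subtype.mem _)⟩).mpr (conj_mem' hbZ ((c.hψker _).mp ?_))
      rw [map_mul, map_inv, h, inv_mul_cancel]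
    let A0 : (Fin 2 → F) →+ (Fin 2 → F) := AddMonoidHom.mk' (fun u => (fZ (lV u)).toAdd)
      fun u v => by
        rw [hfZ (lV (u + v)) (lV u * lV v) (by rw [map_mul, hlV, hlV, hlV, ofAdd_add]), map_mul,
          toAdd_mul]
    have hA : ∀ q : ↥c.V, (c.ψ ⟨b * q * b⁻¹, conj_mem' hbV q.2⟩).toAdd = A0 (c.ψ q).toAdd := fun q =>
      congrArg Multiplicative.toAdd (hfZ q (lV (c.ψ q).toAdd) (by rw [hlV, ofAdd_toAdd]))
    have hA3 : ∀ u, A0 (A0 (A0 u)) = u := by
      intro u
      obtain ⟨q, hq⟩ := c.hψ (Multiplicative.ofAdd u)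
      have hqu : (c.ψ q).toAdd = u := by rw [hq, toAdd_ofAdd]
      conv_lhs => rw [← hqu, ← hA, ← hA, ← hA]
      conv_rhs => rw [← hqu]
      congr 2
      apply Subtype.ext
      show b * (b * (b * q * b⁻¹) * b⁻¹) * b⁻¹ = (q : G)
      rw [show b * (b * (b * (q : G) * b⁻¹) * b⁻¹) * b⁻¹ = b ^ 3 * q * (b ^ 3)⁻¹ by
        simp [pow_succ, mul_assoc], hb3]
      simp
    let A : (Fin 2 → F) ≃+ (Fin 2 → F) :=
      { toFun := A0
        invFun := fun u => A0 (A0 u)
        left_inv := fun u => hA3 u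
        right_inv := fun u => hA3 u
        map_add' := fun u v => map_add A0 u v }
    have hAq : ∀ u, A (A u) - A u - (A u - u) = 0 := by
      intro u
      obtain ⟨q, hq⟩ := c.hψ (Multiplicative.ofAdd u)
      obtain ⟨w, hw, z, hz, hqwz⟩ := c.hWsup q q.2
      have hwu : (c.ψ ⟨w, c.hWV hw⟩).toAdd = u := by
        have : q = ⟨w, c.hWV hw⟩ * ⟨z, c.hZV hz⟩ := Subtype.ext hqwz
        rw [this, map_mul, (c.hψker ⟨z, c.hZV hz⟩).mpr hz, mul_one] at hq
        rw [hq, toAdd_ofAdd]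
      have hD : b * w * b⁻¹ * w⁻¹ ∈ c.V :=
        mul_mem (conj_mem' hbV (c.hWV hw)) (inv_mem (c.hWV hw))
      have h1 : c.ψ ((⟨_, conj_mem' hbV hD⟩ : ↥c.V) * (⟨_, hD⟩ : ↥c.V)⁻¹) = 1 := by
        rw [← map_one c.ψ]
        congr 1
        exact Subtype.ext (hbW w hw)
      have h2 := congrArg Multiplicative.toAdd h1
      rw [map_mul, map_inv, toAdd_mul, toAdd_inv, hA ⟨_, hD⟩,
        show (⟨_, hD⟩ : ↥c.V) =
          (⟨_, conj_mem' hbV (c.hWV hw)⟩ : ↥c.V) * (⟨w, c.hWV hw⟩ : ↥c.V)⁻¹ from rfl,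
        map_mul, map_inv, toAdd_mul, toAdd_inv, hA ⟨w, c.hWV hw⟩, hwu, ← sub_eq_add_neg,
        ← sub_eq_add_neg, map_sub, toAdd_one] at h2
      exact h2
    -- equivariance
    have hAx : ∀ (x : ↥c.E) u, A ((c.ρ x : Matrix (Fin 2) (Fin 2) F).mulVec u) =
        (c.ρ ⟨b * x * b⁻¹, conj_mem' hbE x.2⟩ : Matrix (Fin 2) (Fin 2) F).mulVec (A u) := by
      intro x u
      obtain ⟨q, hq⟩ := c.hψ (Multiplicative.ofAdd u)
      have hqu : (c.ψ q).toAdd = u := by rw [hq, toAdd_ofAdd]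
      obtain ⟨w, hw, hw2⟩ := c.hψeq x q
      obtain ⟨w', hw', hw2'⟩ := c.hψeq ⟨b * x * b⁻¹, conj_mem' hbE x.2⟩ ⟨b * q * b⁻¹, conj_mem' hbV q.2⟩
      show A0 _ = _
      rw [← hqu, ← hw2, ← hA, ← show A0 (c.ψ q).toAdd = A (c.ψ q).toAdd from rfl, ← hA, ← hw2']
      congr 2
      apply Subtype.ext
      rw [hw']
      show b * (w : G) * b⁻¹ = _
      rw [hw]
      group
    have hBx : ∀ (x : ↥c.E) u, B ((c.ρ2 x : Matrix (Fin 2) (Fin 2) F).mulVec u) =
        (c.ρ2 ⟨b * x * b⁻¹, conj_mem' hbE x.2⟩ : Matrix (Fin 2) (Fin 2) F).mulVec (B u) := by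
      intro x u
      obtain ⟨q, hq⟩ := c.hψ2 (Multiplicative.ofAdd u)
      have hqu : (c.ψ2 q).toAdd = u := by rw [hq, toAdd_ofAdd]
      obtain ⟨w, hw, hw2⟩ := c.hψ2eq x q
      obtain ⟨w', hw', hw2'⟩ :=
        c.hψ2eq ⟨b * x * b⁻¹, conj_mem' hbE x.2⟩ ⟨b * q * b⁻¹, conj_mem' hbQ q.2⟩
      rw [← hqu, ← hw2, ← hB, ← hB, ← hw2']
      congr 2
      apply Subtype.ext
      rw [hw']
      show b * (w : G) * b⁻¹ = _
      rw [hw]
      group
    have hconj : ∀ x' : ↥c.E, ∃ x : ↥c.E,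
        x' = ⟨b * x * b⁻¹, conj_mem' hbE x.2⟩ := fun x' => by
      refine ⟨⟨b⁻¹ * x' * b, by simpa using conj_mem' (inv_mem hbE) x'.2⟩, Subtype.ext ?_⟩
      show (x' : G) = b * (b⁻¹ * x' * b) * b⁻¹
      group
    obtain ⟨M, hM⟩ := exists_sl2_of_quadratic (F := F) (by
        intro h
        exact one_ne_zero (α := F) (by linear_combination three_eq_zero (F := F) - h)) A
      (fun t => by
        obtain ⟨s, hs⟩ := exists_scalar_of_commute
          (AddMonoidHom.mk' (fun u => A (t • A.symm u))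
            fun u v => by rw [map_add, smul_add, map_add])
          fun g u => by
            obtain ⟨x', rfl⟩ := hsurj c.ρ c.hρ g
            obtain ⟨x, rfl⟩ := hconj x'
            show A (t • A.symm _) = _
            obtain ⟨v, rfl⟩ := A.surjective u
            rw [← hAx, A.symm_apply_apply, ← mulVec_smul, hAx]
            show _ = (c.ρ _).1.mulVec (A (t • A.symm (A v)))
            rw [A.symm_apply_apply]
        exact ⟨s, fun u => by simpa using hs (A u)⟩)
      hAq
    obtain ⟨x0, hx0⟩ := hsurj c.ρ c.hρ M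
    have hsame : ∀ x : ↥c.E, c.ρ2 ⟨b * x * b⁻¹, conj_mem' hbE x.2⟩ = c.ρ2 (x0 * x * x0⁻¹) := by
      intro x
      have h1 : c.ρ ⟨b * x * b⁻¹, conj_mem' hbE x.2⟩ = c.ρ (x0 * x * x0⁻¹) := by
        refine Subtype.ext (Matrix.ext_of_mulVec_single fun i => ?_)
        obtain ⟨u, hu⟩ := A.surjective (Pi.single i 1)
        rw [← hu]
        show _ = (c.ρ (x0 * x * x0⁻¹)).1.mulVec (A u)
        rw [map_mul, map_mul, map_inv, hx0, ← hM u]
        show _ = (M * c.ρ x * M⁻¹).1.mulVec (M.1.mulVec u)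
        have e : (M * c.ρ x * M⁻¹).1.mulVec (M.1.mulVec u) = M.1.mulVec ((c.ρ x).1.mulVec u) := by
          rw [← mulVec_mul, inv_mul_cancel_right, mulVec_mul]
        rw [e, hM, hM, hAx]
      refine inv_mul_eq_one.mp ?_
      rw [← map_inv, ← map_mul]
      refine (c.hρ2ker _).mpr ((c.hρker _).mp ?_)
      rw [map_mul, map_inv, h1, inv_mul_cancel]
    obtain ⟨k, hk⟩ := exists_scalar_of_commute
      (AddMonoidHom.mk' (fun u => ((c.ρ2 x0)⁻¹).1.mulVec (B u))
        fun u v => by rw [map_add, mulVec_add])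
      fun g u => by
        obtain ⟨x, rfl⟩ := hsurj c.ρ2 c.hρ2 g
        show ((c.ρ2 x0)⁻¹).1.mulVec (B _) = (c.ρ2 x).1.mulVec (((c.ρ2 x0)⁻¹).1.mulVec (B u))
        rw [hBx, hsame, ← mulVec_mul, ← mulVec_mul, map_mul, map_mul, map_inv]
        congr 2
        simp only [mul_assoc, inv_mul_cancel_left]
        rfl
    have hBk : ∀ u, B u = k • (c.ρ2 x0).1.mulVec u := fun u => by
      rw [← mulVec_smul, ← hk]
      show _ = (c.ρ2 x0).1.mulVec (((c.ρ2 x0)⁻¹).1.mulVec (B u))
      rw [← mulVec_mul, mul_inv_cancel, mulVec_one']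
    have hx3 : c.ρ x0 * c.ρ x0 * c.ρ x0 = 1 := by
      rw [hx0]
      refine Subtype.ext (Matrix.ext_of_mulVec_single fun i => ?_)
      rw [mulVec_mul, mulVec_mul, hM, hM, hM, mulVec_one']
      exact hA3 _
    have hg3 : c.ρ2 x0 * c.ρ2 x0 * c.ρ2 x0 = 1 := by
      rw [← map_mul, ← map_mul] at hx3 ⊢
      exact (c.hρ2ker _).mpr ((c.hρker _).mp hx3)
    have hk1 : k = 1 := by
      have h := hB3 ![1, 0]
      simp only [hBk, mulVec_smul, smul_smul] at h
      rw [← mulVec_mul, ← mulVec_mul, hg3, mulVec_one'] at h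
      have h0 := congrFun h 0
      simp at h0
      refine eq_one_of_pow_three ?_
      linear_combination h0
    intro u
    rw [hBk, hBk, hk1, one_smul, one_smul]
    exact quadratic_of_pow_three hg3 u
  · -- not killed
    by_contra! h
    apply hbad
    have hpow : ∀ {y : G}, y ∈ Subgroup.zpowers b → ∃ n : ℕ, b ^ n = y := fun {y} hy =>
      ((isOfFinOrder_of_finite b).mem_powers_iff_mem_zpowers).mpr hy
    have hZc : ∀ z ∈ c.Z, ∀ q ∈ c.Q, Commute z q := fun z hz q hq => c.hVcQ z (c.hZV hz) q hq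
    let S1 : Subgroup G :=
      { carrier := {y | y ∈ c.Q ∧ b * y * b⁻¹ * y⁻¹ ∈ c.Z}
        one_mem' := ⟨one_mem _, by simp⟩
        mul_mem' := fun {x y} hx hy => ⟨mul_mem hx.1 hy.1, by
          rw [show b * (x * y) * b⁻¹ * (x * y)⁻¹ =
            (b * x * b⁻¹ * x⁻¹) * (x * (b * y * b⁻¹ * y⁻¹) * x⁻¹) by group,
            ← (hZc _ hy.2 x hx.1).eq, mul_inv_cancel_right]
          exact mul_mem hx.2 hy.2⟩
        inv_mem' := fun {x} hx => ⟨inv_mem hx.1, by
          rw [show b * x⁻¹ * b⁻¹ * x⁻¹⁻¹ = x⁻¹ * (b * x * b⁻¹ * x⁻¹)⁻¹ * x by group,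
            ← (hZc _ (inv_mem hx.2) x⁻¹ (inv_mem hx.1)).eq, inv_mul_cancel_right]
          exact inv_mem hx.2⟩ }
    have hbS : b ∈ Subgroup.normalizer (S1 : Set G) :=
      CfsgLib.LocalEven.BBlock.mem_normalizer_of_le fun y hy => ⟨conj_mem' hbQ hy.1, by
        rw [show b * (b * y * b⁻¹) * b⁻¹ * (b * y * b⁻¹)⁻¹ = b * (b * y * b⁻¹ * y⁻¹) * b⁻¹ by group]
        exact conj_mem' hbZ hy.2⟩
    have step : ∀ (X Y : Subgroup G), (∀ x ∈ X, b * x * b⁻¹ * x⁻¹ ∈ Y) →
        b ∈ Subgroup.normalizer (Y : Set G) → ⁅X, Subgroup.zpowers b⁆ ≤ Y := by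
      intro X Y hXY hY
      refine Subgroup.commutator_le.mpr fun q hq y hy => ?_
      obtain ⟨n, rfl⟩ := hpow hy
      induction n with
      | zero => simp
      | succ n ih =>
        rw [show ⁅q, b ^ (n + 1)⁆ = ⁅q, b ^ n⁆ * (b ^ n * (b * q * b⁻¹ * q⁻¹)⁻¹ * (b ^ n)⁻¹) by
          rw [commutatorElement_def, commutatorElement_def, pow_succ]; group]
        exact mul_mem (ih (Subgroup.pow_mem _ (Subgroup.mem_zpowers b) n))
          (conj_mem' (pow_mem hY n) (inv_mem (hXY q hq)))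
    refine (Subgroup.commutator_mono (step c.Q S1 (fun q hq =>
      ⟨mul_mem (conj_mem' hbQ hq) (inv_mem hq), h q hq⟩) hbS) le_rfl).trans ?_
    exact step S1 c.Z (fun q hq => hq.2) hbZ

end Ctx

end CfsgLib.BlockNorm
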