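import Mathlib.Algebra.Group.End
import Mathlib.Algebra.Module.Equiv.Basic
import Mathlib.GroupTheory.OrderOfElement
import Mathlib.Data.ZMod.Basic
import Mathlib.Tactic

/-!
# An element inverted by an involution with small moved space

`e`, `i`, `x` act on a module of exponent three, `e = i²` is an involution, `i` fixes every point
fixed by `e`, `e` inverts `x`, `x ^ r = 1` for a prime `r ≥ 5`, and the commutator of `x` with
`i x i⁻¹` commutes with both and with `e`. Then `x = 1`.
-/

set_option autoImplicit false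

namespace CfsgLib.BlockNorm

/-- The automorphism group of an abelian group, with composition as multiplication. -/
abbrev Op (M : Type*) [AddCommGroup M] := M ≃ₗ[ℤ] M

variable {M : Type*} [AddCommGroup M]

theorem one_apply (v : M) : (1 : Op M) v = v := rfl

theorem inv_apply_self (u : Op M) (v : M) : u⁻¹ (u v) = v := by
  rw [← LinearEquiv.mul_apply, inv_mul_cancel]; rfl

theorem apply_inv_self (u : Op M) (v : M) : u (u⁻¹ v) = v := by
  rw [← LinearEquiv.mul_apply, mul_inv_cancel]; rfl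

theorem smul_eq_zero_of_coprime_three (h3 : ∀ m : M, (3 : ℕ) • m = 0) {r : ℕ}
    (hr : r.Coprime 3) {d : M} (h : r • d = 0) : d = 0 := by
  have h1 : addOrderOf d ∣ r := addOrderOf_dvd_iff_nsmul_eq_zero.mpr h
  have h2 : addOrderOf d ∣ 3 := addOrderOf_dvd_iff_nsmul_eq_zero.mpr (h3 d)
  exact AddMonoid.addOrderOf_eq_one_iff.mp (Nat.eq_one_of_dvd_coprimes hr h1 h2)

/-- An automorphism of order prime to three stabilizing a series of length two is trivial. -/
theorem fixed_of_stable (h3 : ∀ m : M, (3 : ℕ) • m = 0) {r : ℕ} (hr : r.Coprime 3)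
    {u : Op M} (hu : u ^ r = 1) {m : M} (h : u (u m - m) = u m - m) : u m = m := by
  set d := u m - m with hd
  have key : ∀ k : ℕ, (u ^ k) m = m + k • d := by
    intro k
    induction k with
    | zero => simp
    | succ k ih =>
      rw [pow_succ', LinearEquiv.mul_apply, ih, map_add, map_nsmul, h, succ_nsmul]
      rw [show u m = m + d by rw [hd]; abel]
      abel
  have h1 := key r
  rw [hu] at h1
  have h2 : r • d = 0 := by simpa using h1
  exact sub_eq_zero.mp (smul_eq_zero_of_coprime_three h3 hr h2)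

theorem fixed_pow {u : Op M} {v : M} (h : u v = v) (k : ℕ) : (u ^ k) v = v := by
  induction k with
  | zero => simp
  | succ k ih => rw [pow_succ, LinearEquiv.mul_apply, h, ih]

theorem fixed_zpow {u : Op M} {v : M} (h : u v = v) (k : ℤ) : (u ^ k) v = v := by
  rcases Int.eq_nat_or_neg k with ⟨n, rfl | rfl⟩
  · rw [zpow_natCast]; exact fixed_pow h n
  · rw [zpow_neg, zpow_natCast]
    have h1 := fixed_pow h n
    conv_lhs => rw [← h1]
    rw [← LinearEquiv.mul_apply, inv_mul_cancel]
    rfl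

theorem fixed_of_zpow {r : ℕ} (hr : r.Prime) {u : Op M} (hu : u ^ r = 1) {c : ℤ}
    (hc : ¬ (r : ℤ) ∣ c) {w : M} (h : (u ^ c) w = w) : u w = w := by
  have hcop : IsCoprime c (r : ℤ) :=
    ((Nat.prime_iff_prime_int.mp hr).coprime_iff_not_dvd.mpr hc).symm
  obtain ⟨a, b, hab⟩ := hcop
  have : u = (u ^ c) ^ a * (u ^ (r : ℤ)) ^ b := by
    rw [← zpow_mul, ← zpow_mul, ← zpow_add, mul_comm c a, mul_comm (r : ℤ) b, hab, zpow_one]
  rw [this, zpow_natCast, hu, one_zpow, mul_one]
  exact fixed_zpow h a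

theorem fixed_of_zpow_sub (h3 : ∀ m : M, (3 : ℕ) • m = 0) {r : ℕ} (hr : r.Prime)
    (hr3 : r.Coprime 3) {u : Op M} (hu : u ^ r = 1) {a b : ℤ} (hc : ¬ (r : ℤ) ∣ a - b) {w : M}
    (h : u ((u ^ a) w - (u ^ b) w) = (u ^ a) w - (u ^ b) w) : u w = w := by
  refine fixed_of_zpow hr hu hc (fixed_of_stable h3 hr3 ?_ ?_)
  · rw [← zpow_natCast, ← zpow_mul, mul_comm, zpow_mul, zpow_natCast, hu, one_zpow]
  · refine fixed_zpow ?_ (a - b)
    have h1 : (u ^ (a - b)) w - w = (u ^ (-b)) ((u ^ a) w - (u ^ b) w) := by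
      rw [map_sub, ← LinearEquiv.mul_apply, ← LinearEquiv.mul_apply, ← zpow_add, ← zpow_add, neg_add_cancel,
        zpow_zero, show -b + a = a - b by ring]
      rfl
    rw [h1, ← LinearEquiv.mul_apply, Commute.eq (Commute.zpow_right (Commute.refl u) (-b)),
      LinearEquiv.mul_apply, h]

variable (h3 : ∀ m : M, (3 : ℕ) • m = 0) {r : ℕ} (hr : r.Prime) (hr5 : 5 ≤ r)
  {e i : Op M} (he : e * e = 1) (hi : i * i = e) (hfix : ∀ m, e m = m → i m = m)

include hfix in
/-- The basic identity on the fixed points of `e`. -/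
theorem sum_eq {x : Op M} (hx : e * x * e⁻¹ = x⁻¹) {m : M} (hm : e m = m) :
    (i * x * i⁻¹) m + (i * x * i⁻¹)⁻¹ m = x m + x⁻¹ m := by
  have hex : ∀ v, e (x v) = x⁻¹ (e v) := fun v => by
    rw [← LinearEquiv.mul_apply, ← LinearEquiv.mul_apply, ← hx, inv_mul_cancel_right]
  have hex' : ∀ v, e (x⁻¹ v) = x (e v) := fun v => by
    have h1 := hex (x⁻¹ v)
    rw [apply_inv_self] at h1
    have h2 := congrArg x h1
    rw [apply_inv_self] at h2
    exact h2.symm
  have h1 : e (x m + x⁻¹ m) = x m + x⁻¹ m := by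
    rw [map_add, hex, hex', hm, add_comm]
  have h2 := hfix _ h1
  have him : i⁻¹ m = m := by
    conv_lhs => rw [← hfix m hm]
    rw [← LinearEquiv.mul_apply, inv_mul_cancel]
    rfl
  rw [map_add] at h2
  rw [show (i * x * i⁻¹)⁻¹ = i * x⁻¹ * i⁻¹ by group]
  simp only [LinearEquiv.mul_apply, him]
  exact h2

include h3 hr hr5 he hi hfix in
/-- The commuting case. -/
theorem eq_one_of_commute {x : Op M} (hx : e * x * e⁻¹ = x⁻¹) (hxr : x ^ r = 1)
    (hc : Commute x (i * x * i⁻¹)) : x = 1 := by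
  have hr3 : r.Coprime 3 := by
    rw [Nat.coprime_primes hr Nat.prime_three]
    omega
  set y := i * x * i⁻¹ with hy
  have hei : Commute e i := by rw [← hi]; exact (Commute.refl i).mul_left (Commute.refl i)
  have hiy : i * y * i⁻¹ = x⁻¹ := by
    rw [hy, ← hx, ← hi]; group
  have hyr : y ^ r = 1 := by rw [hy, conj_pow, hxr, mul_one, mul_inv_cancel]
  have hey : e * y * e⁻¹ = y⁻¹ := by
    rw [hy, show (i * x * i⁻¹)⁻¹ = i * (x⁻¹) * i⁻¹ by group, ← hx]
    rw [show e * (i * x * i⁻¹) * e⁻¹ = (e * i) * x * (e * i)⁻¹ by group, hei.eq]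
    group
  -- the product `(z - 1) (z' - 1)` kills the module
  have hP : ∀ (a b : Op M), e * a * e⁻¹ = a⁻¹ → a ^ r = 1 → b = i * a * i⁻¹ → Commute a b →
      e * b * e⁻¹ = b⁻¹ → b ^ r = 1 → ∀ m : M,
      (a * a) m - (a * b⁻¹) m - (a * b) m + m = 0 := by
    intro a b ha har hb hab heb hbr m
    let P : M →ₗ[ℤ] M := (a * a).toLinearMap - (a * b⁻¹).toLinearMap - (a * b).toLinearMap
      + LinearMap.id
    have hPdef : ∀ v, P v = (a * a) v - (a * b⁻¹) v - (a * b) v + v := fun v => rfl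
    rw [← hPdef]
    have hF : ∀ v, e v = v → P v = 0 := by
      intro v hv
      have h1 := sum_eq hfix ha hv
      rw [← hb] at h1
      have h2 := congrArg a h1
      rw [map_add, map_add, ← LinearEquiv.mul_apply a a⁻¹, mul_inv_cancel] at h2
      rw [hPdef]
      simp only [LinearEquiv.mul_apply, one_apply] at h2 ⊢
      linear_combination (norm := abel) -h2
    have hcomm : ∀ c : Op M, Commute c a → Commute c b → ∀ v, c (P v) = P (c v) := by
      intro c hca hcb v
      rw [hPdef, hPdef, map_add, map_sub, map_sub]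
      simp only [← LinearEquiv.mul_apply]
      rw [(hca.mul_right hca).eq, (hca.mul_right hcb.inv_right).eq, (hca.mul_right hcb).eq]
    have hinv : ∀ c : Op M, e * c * e⁻¹ = c⁻¹ → c ^ r = 1 → Commute c a → Commute c b →
        ∀ g, e g = -g → c (P g) = P g := by
      intro c hce hcr hca hcb g hg
      have hc1 : e (c g) = -(c⁻¹ g) := by
        rw [← LinearEquiv.mul_apply, show e * c = c⁻¹ * e by rw [← hce]; group, LinearEquiv.mul_apply, hg,
          map_neg]
      have hc2 : e (c⁻¹ g) = -(c g) := by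
        rw [← LinearEquiv.mul_apply, show e * c⁻¹ = c * e by
          have h0 : e * c⁻¹ * e⁻¹ = c := by
            rw [show e * c⁻¹ * e⁻¹ = (e * c * e⁻¹)⁻¹ by group, hce, inv_inv]
          conv_rhs => rw [← h0]
          group, LinearEquiv.mul_apply, hg, map_neg]
      have h0 := hF (c g - c⁻¹ g) (by rw [map_sub, hc1, hc2]; abel)
      rw [map_sub, ← hcomm c hca hcb, ← hcomm c⁻¹ hca.inv_left hcb.inv_left, sub_eq_zero] at h0
      have h1 : (c ^ (2 : ℤ)) (P g) = P g := by
        rw [zpow_two, LinearEquiv.mul_apply, h0, ← LinearEquiv.mul_apply, mul_inv_cancel]; rfl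
      refine fixed_of_zpow hr hcr ?_ h1
      intro hdvd
      have := Int.le_of_dvd (by norm_num) hdvd
      omega
    obtain ⟨f, g, hf, hg, rfl⟩ : ∃ f g : M, e f = f ∧ e g = -g ∧ m = f + g := by
      have hee : e (e m) = m := by rw [← LinearEquiv.mul_apply, he]; rfl
      refine ⟨-(m + e m), -(m - e m), ?_, ?_, ?_⟩
      · rw [map_neg, map_add, hee, add_comm]
      · rw [map_neg, map_sub, hee]; abel
      · have := h3 m
        rw [show (3 : ℕ) • m = m + m + m by abel] at this
        linear_combination (norm := abel) this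
    rw [map_add, hF f hf, zero_add]
    have hxa := hinv a ha har (Commute.refl a) hab g hg
    have hxb := hinv b heb hbr hab.symm (Commute.refl b) g hg
    have hz : (a * b⁻¹) (P g) = P g := by
      rw [LinearEquiv.mul_apply]
      nth_rw 1 [← hxb]
      rw [← LinearEquiv.mul_apply b⁻¹, inv_mul_cancel]
      exact hxa
    have hstep : P g = (a * b⁻¹) ((a * b) g - g) - ((a * b) g - g) := by
      rw [hPdef, map_sub, ← LinearEquiv.mul_apply (a * b⁻¹),
        show a * b⁻¹ * (a * b) = a * a by rw [hab.eq]; group]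
      abel
    rw [hstep] at hz ⊢
    have hzr : (a * b⁻¹) ^ r = 1 := by rw [hab.inv_right.mul_pow, har, inv_pow, hbr, inv_one, mul_one]
    rw [fixed_of_stable h3 hr3 hzr hz, sub_self]
  have hxy1 : ∀ m : M, (x * y) m = m := by
    intro m
    have hP1 := hP x y hx hxr hy hc hey hyr m
    set h := (x * y) m - m with hh
    have hxh : (x * y⁻¹) h = h := by
      rw [hh, map_sub, ← LinearEquiv.mul_apply (x * y⁻¹),
        show x * y⁻¹ * (x * y) = x * x by rw [hc.eq]; group]
      linear_combination (norm := abel) hP1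
    have hyh : y h = x h := by
      conv_lhs => rw [← hxh, ← LinearEquiv.mul_apply, show y * (x * y⁻¹) = x by rw [← mul_assoc, ← hc.eq]; group]
    have hyk : ∀ k : ℕ, (y ^ k) h = (x ^ k) h := by
      intro k
      induction k with
      | zero => rfl
      | succ k ih =>
        rw [pow_succ, LinearEquiv.mul_apply, hyh, ← LinearEquiv.mul_apply, (hc.pow_right k).eq.symm,
          LinearEquiv.mul_apply, ih, ← LinearEquiv.mul_apply, ← pow_succ']
    set a := x * x * y with ha
    set b := y * y * x⁻¹ with hb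
    have hab : b = i * a * i⁻¹ := by
      rw [hb, ha, ← hiy, hy]; group
    have hea : e * a * e⁻¹ = a⁻¹ := by
      rw [ha, show e * (x * x * y) * e⁻¹ = (e * x * e⁻¹) * (e * x * e⁻¹) * (e * y * e⁻¹) by group,
        hx, hey, show (x * x * y)⁻¹ = y⁻¹ * (x⁻¹ * x⁻¹) by group]
      exact ((hc.inv_inv).mul_left hc.inv_inv).eq
    have hca : Commute a b := by
      rw [ha, hb]
      have h1 : Commute (x * x * y) y := (hc.mul_left hc).mul_left (Commute.refl y)
      have h2 : Commute (x * x * y) x := ((Commute.refl x).mul_left (Commute.refl x)).mul_left hc.symm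
      exact (h1.mul_right h1).mul_right h2.inv_right
    have har : a ^ r = 1 := by
      rw [ha, (hc.mul_left hc).mul_pow, (Commute.refl x).mul_pow, hxr, hyr, one_mul, one_mul]
    have hbr : b ^ r = 1 := by rw [hab, conj_pow, har, mul_one, mul_inv_cancel]
    have heb : e * b * e⁻¹ = b⁻¹ := by
      rw [hab, show e * (i * a * i⁻¹) * e⁻¹ = (e * i) * a * (e * i)⁻¹ by group, hei.eq,
        show (i * a * i⁻¹)⁻¹ = i * a⁻¹ * i⁻¹ by group, ← hea]
      group
    have hP2 := hP a b hea har hab hca heb hbr h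
    have e2 : (a * a) h = (x ^ 6) h := by
      rw [show a * a = x ^ 4 * y ^ 2 by
        rw [ha, show x * x * y * (x * x * y) = x * x * (y * (x * x)) * y by group,
          ← (hc.mul_left hc).eq]; simp only [pow_succ, pow_zero, one_mul, mul_assoc], LinearEquiv.mul_apply, hyk, ← LinearEquiv.mul_apply, ← pow_add]
    have e3 : (a * b⁻¹) h = (x ^ 2) h := by
      have h1 : a * b⁻¹ * y = x ^ 3 := by
        rw [ha, hb, show (y * y * x⁻¹)⁻¹ = x * y⁻¹ * y⁻¹ by group,
          show x * x * y * (x * y⁻¹ * y⁻¹) * y = x * x * (y * x) * y⁻¹ by group, ← hc.eq]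
        simp [pow_succ, mul_assoc]
      have h2 : (a * b⁻¹) (x h) = (x ^ 3) h := by rw [← hyh, ← LinearEquiv.mul_apply, h1]
      have h3' : Commute (a * b⁻¹) x := by
        rw [ha, hb]
        have h1 : Commute x (x * x * y) := ((Commute.refl x).mul_right (Commute.refl x)).mul_right hc
        have h2 : Commute x (y * y * x⁻¹) := (hc.mul_right hc).mul_right (Commute.refl x).inv_right
        exact (h1.mul_right h2.inv_right).symm
      rw [← LinearEquiv.mul_apply, h3'.eq, LinearEquiv.mul_apply, pow_succ' x 2, LinearEquiv.mul_apply] at h2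
      exact x.injective h2
    have e4 : (a * b) h = (x ^ 4) h := by
      rw [show a * b = x * y ^ 3 by
        rw [ha, hb, show x * x * y * (y * y * x⁻¹) = x * x * (y ^ 3 * x⁻¹) by
          simp only [pow_succ, pow_zero, one_mul, mul_assoc],
          ← (hc.inv_left.pow_right 3).eq]; group, LinearEquiv.mul_apply, hyk, ← LinearEquiv.mul_apply,
        ← pow_succ']
    rw [e2, e3, e4] at hP2
    have h6 : (x ^ 4) ((x ^ 2) h - h) = (x ^ 2) h - h := by
      rw [map_sub, ← LinearEquiv.mul_apply, ← pow_add]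
      linear_combination (norm := abel) hP2
    have h2x : ¬ (r : ℤ) ∣ 2 := fun hd => by have := Int.le_of_dvd (by norm_num) hd; omega
    have h4x : ¬ (r : ℤ) ∣ 4 := fun hd => by have := Int.le_of_dvd (by norm_num) hd; omega
    have h7 := fixed_of_zpow hr hxr h4x (by exact_mod_cast h6)
    have h8 : (x ^ 2) h = h :=
      fixed_of_stable h3 hr3 (by rw [← pow_mul, mul_comm, pow_mul, hxr, one_pow]) (fixed_pow h7 2)
    have h9 := fixed_of_zpow hr hxr h2x (by exact_mod_cast h8)
    have h10 : (x * y) h = h := by rw [LinearEquiv.mul_apply, hyh, h9, h9]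
    exact fixed_of_stable h3 hr3 (by rw [hc.mul_pow, hxr, hyr, mul_one]) h10
  have hy' : y = x⁻¹ := eq_inv_of_mul_eq_one_right (by ext m; exact hxy1 m)
  have h2 : x ^ 2 = 1 := by
    have h := hiy
    rw [hy', show i * x⁻¹ * i⁻¹ = (i * x * i⁻¹)⁻¹ by group, ← hy, hy', inv_inv] at h
    rw [pow_two]
    nth_rw 2 [h]
    exact mul_inv_cancel x
  have h1 := (hr.coprime_iff_not_dvd.mpr fun hd => by
    have := Nat.le_of_dvd (by norm_num) hd; omega : r.Coprime 2)
  exact orderOf_eq_one_iff.mp (Nat.eq_one_of_dvd_coprimes h1 (orderOf_dvd_of_pow_eq_one hxr)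
    (orderOf_dvd_of_pow_eq_one h2))

include h3 hr hr5 he hi hfix in
/-- An element inverted by `e` whose commutator with its `i`-conjugate is central is trivial. -/
theorem eq_one_of_inverted {x : Op M} (hx : e * x * e⁻¹ = x⁻¹) (hxr : x ^ r = 1)
    (hzx : Commute (x * (i * x * i⁻¹) * x⁻¹ * (i * x * i⁻¹)⁻¹) x)
    (hzy : Commute (x * (i * x * i⁻¹) * x⁻¹ * (i * x * i⁻¹)⁻¹) (i * x * i⁻¹))
    (hzr : (x * (i * x * i⁻¹) * x⁻¹ * (i * x * i⁻¹)⁻¹) ^ r = 1) : x = 1 := by
  have hr3 : r.Coprime 3 := by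
    rw [Nat.coprime_primes hr Nat.prime_three]
    omega
  have hei : Commute e i := by rw [← hi]; exact (Commute.refl i).mul_left (Commute.refl i)
  set y := i * x * i⁻¹ with hy
  set z := x * y * x⁻¹ * y⁻¹ with hz
  have hxy : x * y = z * y * x := by rw [hz]; group
  have hyr : y ^ r = 1 := by rw [hy, conj_pow, hxr, mul_one, mul_inv_cancel]
  have hey : e * y * e⁻¹ = y⁻¹ := by
    rw [hy, show (i * x * i⁻¹)⁻¹ = i * (x⁻¹) * i⁻¹ by group, ← hx]
    rw [show e * (i * x * i⁻¹) * e⁻¹ = (e * i) * x * (e * i)⁻¹ by group, hei.eq]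
    group
  refine eq_one_of_commute h3 hr hr5 he hi hfix hx hxr ?_
  rw [← hy]
  suffices hz1 : z = 1 by
    show x * y = y * x
    rw [hxy, hz1, one_mul]
  have hxyk : ∀ k : ℕ, x * y ^ k = z ^ k * y ^ k * x := by
    intro k
    induction k with
    | zero => simp
    | succ k ih =>
      rw [pow_succ y, ← mul_assoc, ih, show z ^ k * y ^ k * x * y = z ^ k * y ^ k * (x * y) by group,
        hxy, show z ^ k * y ^ k * (z * y * x) = z ^ k * (y ^ k * z) * y * x by group,
        ← (hzy.pow_right k).eq]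
      group
  have hxykz : ∀ k : ℤ, x * y ^ k = z ^ k * y ^ k * x := by
    intro k
    rcases Int.eq_nat_or_neg k with ⟨n, rfl | rfl⟩
    · simp only [zpow_natCast]; exact hxyk n
    · simp only [zpow_neg, zpow_natCast]
      have h1 := hxyk n
      calc x * (y ^ n)⁻¹ = (z ^ n)⁻¹ * (z ^ n * (x * (y ^ n)⁻¹)) := by group
        _ = (z ^ n)⁻¹ * (y ^ n)⁻¹ * (y ^ n * z ^ n * x) * (y ^ n)⁻¹ := by group
        _ = (z ^ n)⁻¹ * (y ^ n)⁻¹ * (z ^ n * y ^ n * x) * (y ^ n)⁻¹ := by
          rw [((hzy.pow_left n).pow_right n).eq]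
        _ = (z ^ n)⁻¹ * (y ^ n)⁻¹ * x := by rw [← h1]; group
  have hex : ∀ v, e (y v) = y⁻¹ (e v) := fun v => by
    rw [← LinearEquiv.mul_apply, ← LinearEquiv.mul_apply, ← hey, inv_mul_cancel_right]
  have hexx : ∀ v, x v = v → x (e v) = e v := fun v hv => by
    have h0 : e⁻¹ = e := inv_eq_of_mul_eq_one_right he
    have h1 : x * e = e * x⁻¹ := by
      rw [← hx, ← mul_assoc, ← mul_assoc, he, one_mul, h0]
    have h2 : x⁻¹ v = v := by
      conv_lhs => rw [← hv]
      rw [← LinearEquiv.mul_apply, inv_mul_cancel]; rfl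
    rw [← LinearEquiv.mul_apply, h1, LinearEquiv.mul_apply, h2]
  -- `z` fixes the points fixed by `x`
  have hcore : ∀ μ : M, x μ = μ → z μ = μ := by
    intro μ hμ
    set μ' := e μ with hμ'
    have hμ'x : x μ' = μ' := hexx μ hμ
    set m := y μ + y⁻¹ μ' with hm
    have hem : e m = m := by
      have h1 : e (y⁻¹ μ') = y μ := by
        have h2 := congrArg e (hex μ)
        rw [← LinearEquiv.mul_apply e e, he] at h2
        exact h2.symm
      rw [hm, map_add, hex, ← hμ', h1, add_comm]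
    have hS := sum_eq hfix hx hem
    rw [← hy] at hS
    -- the eigenvectors of `x`
    have hev : ∀ (k : ℤ) (v : M), x v = v → x ((y ^ k) v) = (z ^ k) ((y ^ k) v) := by
      intro k v hv
      rw [← LinearEquiv.mul_apply x, hxykz, LinearEquiv.mul_apply, hv, LinearEquiv.mul_apply]
    have hevi : ∀ (k : ℤ) (v : M), x v = v → x⁻¹ ((y ^ k) v) = (z ^ (-k)) ((y ^ k) v) := by
      intro k v hv
      apply x.injective
      rw [apply_inv_self, ← LinearEquiv.mul_apply x (z ^ (-k)), ← (hzx.zpow_left (-k)).eq,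
        LinearEquiv.mul_apply, hev k v hv, zpow_neg, inv_apply_self]
    have e1 := hev 1 μ hμ
    have e2 := hev (-1) μ' hμ'x
    have e3 := hevi 1 μ hμ
    have e4 := hevi (-1) μ' hμ'x
    simp only [zpow_one, zpow_neg_one, neg_neg] at e1 e2 e3 e4
    set A := y μ with hA
    set B := y⁻¹ μ' with hB
    have hyA : y A = (y ^ (2 : ℤ)) μ := by rw [hA, zpow_two]; rfl
    have hyA' : y⁻¹ A = μ := by rw [hA, ← LinearEquiv.mul_apply, inv_mul_cancel]; rfl
    have hyB : y B = μ' := by rw [hB, ← LinearEquiv.mul_apply, mul_inv_cancel]; rfl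
    have hyB' : y⁻¹ B = (y ^ (-2 : ℤ)) μ' := by
      rw [hB, zpow_neg, zpow_two, mul_inv_rev]; rfl
    set C := (y ^ (2 : ℤ)) μ with hC
    set D := (y ^ (-2 : ℤ)) μ' with hD
    rw [hm, map_add, map_add, map_add, map_add, hyA, hyA', hyB, hyB', e1, e2, e3, e4] at hS
    -- apply `x - z ^ c` for several `c`
    let T : ℤ → M →ₗ[ℤ] M := fun c => x.toLinearMap - (z ^ c).toLinearMap
    have hT : ∀ c v, T c v = x v - (z ^ c) v := fun c v => rfl
    have hTz : ∀ (c d : ℤ) (v : M), T c ((z ^ d) v) = (z ^ d) (T c v) := by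
      intro c d v
      rw [hT, hT, map_sub]
      simp only [← LinearEquiv.mul_apply]
      rw [← (hzx.zpow_left d).eq, ← zpow_add, ← zpow_add, add_comm]
    have hTA : T 1 A = 0 := by rw [hT, e1, zpow_one, sub_self]
    have hTB : T (-1) B = 0 := by rw [hT, e2, zpow_neg_one, sub_self]
    have hTμ : ∀ v, x v = v → T 0 v = 0 := fun v hv => by
      rw [hT, hv, zpow_zero]; exact sub_self _
    have hTD : T (-2) D = 0 := by rw [hT, hev (-2) μ' hμ'x, sub_self]
    have hTC : ∀ c, T c C = (z ^ (2 : ℤ)) C - (z ^ c) C := fun c => by rw [hT, hev 2 μ hμ]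
    have hTT : ∀ c d v, T c (T d v) = T d (T c v) := by
      intro c d v
      simp only [hT, map_sub]
      simp only [← LinearEquiv.mul_apply]
      rw [← (hzx.zpow_left d).eq, (hzx.zpow_left c).eq, ← zpow_add, ← zpow_add, add_comm d c]
      abel
    have hall := congrArg (fun v => T (-2) (T 0 (T (-1) (T 1 v)))) hS
    have k1 : ∀ d : ℤ, T 1 ((z ^ d) A) = 0 := fun d => by rw [hTz, hTA, map_zero]
    have k2 : ∀ d : ℤ, T (-1) (T 1 ((z ^ d) B)) = 0 := fun d => by
      rw [hTT, hTz, hTB, map_zero, map_zero]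
    have k3 : ∀ v, x v = v → T 0 (T (-1) (T 1 v)) = 0 := fun v hv => by
      rw [hTT 0, hTT 0 1, hTμ v hv, map_zero, map_zero]
    have k4 : T (-2) (T 0 (T (-1) (T 1 D))) = 0 := by
      rw [hTT (-2), hTT (-2) (-1), hTT (-2) 1, hTD, map_zero, map_zero, map_zero]
    have zA1 : z A = (z ^ (1 : ℤ)) A := by rw [zpow_one]
    have zA2 : z⁻¹ A = (z ^ (-1 : ℤ)) A := by rw [zpow_neg_one]
    have zB1 : z⁻¹ B = (z ^ (-1 : ℤ)) B := by rw [zpow_neg_one]
    have zB2 : z B = (z ^ (1 : ℤ)) B := by rw [zpow_one]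
    rw [zA1, zA2, zB1, zB2] at hall
    simp only [map_add, k1, k2, k3 μ hμ, k3 μ' hμ'x, k4, map_zero, add_zero] at hall
    let Gd : ℤ → M →ₗ[ℤ] M := fun c => (z ^ (2 : ℤ)).toLinearMap - (z ^ c).toLinearMap
    have hGd : ∀ c v, Gd c v = (z ^ (2 : ℤ)) v - (z ^ c) v := fun c v => rfl
    have hTGd : ∀ c d v, T c (Gd d v) = Gd d (T c v) := fun c d v => by
      rw [hGd, hGd, map_sub, hTz, hTz]
    have hTC' : ∀ c, T c C = Gd c C := fun c => by rw [hTC, hGd]
    simp only [hTC', hTGd] at hall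
    have hnd : ∀ c : ℤ, 0 < c → c < 5 → ¬ (r : ℤ) ∣ c := fun c h0 h5 hd => by
      have := Int.le_of_dvd h0 hd; omega
    have hpeel : ∀ c : ℤ, 0 < 2 - c → 2 - c < 5 → ∀ v, z (Gd c v) = Gd c v → z v = v :=
      fun c h0 h5 v hv => fixed_of_zpow_sub h3 hr hr3 hzr (hnd _ h0 h5) (by rw [← hGd]; exact hv)
    have f0 : z C = C := hpeel (-2) (by norm_num) (by norm_num) _ (hpeel 0 (by norm_num) (by norm_num) _
      (hpeel (-1) (by norm_num) (by norm_num) _ (hpeel 1 (by norm_num) (by norm_num) _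
        (by rw [hall, map_zero]))))
    rw [hC, ← LinearEquiv.mul_apply, (hzy.zpow_right 2).eq, LinearEquiv.mul_apply] at f0
    exact (y ^ (2 : ℤ)).injective f0
  -- the conjugates of `x` under `y` cover the module
  have hcov : ∀ (a : ℕ) (v : M), (x * z ^ a) v = v → z v = v := by
    intro a v hv
    have h1 : x ((y ^ a) v) = (y ^ a) v := by
      rw [← LinearEquiv.mul_apply x, hxyk, show z ^ a * y ^ a * x = y ^ a * (x * z ^ a) by
        rw [((hzy.pow_left a).pow_right a).eq, mul_assoc, ((hzx.pow_left a)).eq], LinearEquiv.mul_apply, hv]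
    have h2 := hcore _ h1
    rw [← LinearEquiv.mul_apply, (hzy.pow_right a).eq, LinearEquiv.mul_apply] at h2
    exact (y ^ a).injective h2
  ext m
  show z m = m
  refine fixed_of_stable h3 hr3 hzr ?_
  set m' := z m - m with hm'
  have hcyc : ∀ (u : Op M), u ^ r = 1 → ∀ v : M,
      u (∑ b ∈ Finset.range r, (u ^ b) v) = ∑ b ∈ Finset.range r, (u ^ b) v := by
    intro u hu v
    rw [map_sum]
    have h1 : ∀ b, u ((u ^ b) v) = (u ^ (b + 1)) v := fun b => by rw [pow_succ']; rfl
    simp only [h1]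
    have h2 := Finset.sum_range_succ (fun b => (u ^ b) v) r
    rw [Finset.sum_range_succ' (fun b => (u ^ b) v) r] at h2
    simp only [hu, pow_zero] at h2
    exact add_right_cancel h2
  let Φ : M := ∑ a ∈ Finset.range r, ∑ b ∈ Finset.range r, ((x * z ^ a) ^ b) m'
  have hΦ1 : z Φ = Φ := by
    rw [map_sum]
    refine Finset.sum_congr rfl fun a _ => hcov a _ (hcyc _ ?_ m')
    rw [(hzx.symm.pow_right a).mul_pow, hxr, ← pow_mul, mul_comm, pow_mul, hzr, one_pow, mul_one]
  have hΦ2 : Φ = r • m' := by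
    show ∑ a ∈ Finset.range r, ∑ b ∈ Finset.range r, ((x * z ^ a) ^ b) m' = r • m'
    rw [Finset.sum_comm, Finset.sum_eq_single_of_mem 0 (Finset.mem_range.mpr hr.pos)]
    · simp
    · intro b hb hb0
      have h1 : ∀ a : ℕ, ((x * z ^ a) ^ b) m' = (x ^ b) (((z ^ b) ^ a) m') := fun a => by
        rw [(hzx.symm.pow_right a).mul_pow, ← pow_mul, mul_comm a b, pow_mul]; rfl
      simp only [h1]
      rw [← map_sum]
      have hzb : (z ^ b) ^ r = 1 := by rw [← pow_mul, mul_comm, pow_mul, hzr, one_pow]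
      set s := ∑ a ∈ Finset.range r, ((z ^ b) ^ a) m with hs
      have hsb : z s = s := by
        refine fixed_of_zpow hr hzr (c := b) ?_ (by rw [zpow_natCast]; exact hcyc _ hzb m)
        rw [Int.natCast_dvd_natCast]
        exact fun hd => hb0 (Nat.eq_zero_of_dvd_of_lt hd (Finset.mem_range.mp hb))
      have h2 : ∑ a ∈ Finset.range r, ((z ^ b) ^ a) m' = z s - s := by
        rw [hs, map_sum, ← Finset.sum_sub_distrib]
        refine Finset.sum_congr rfl fun a _ => ?_
        rw [hm', map_sub, ← LinearEquiv.mul_apply, ← LinearEquiv.mul_apply,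
          ((Commute.refl z).pow_left b).pow_left a |>.eq]
      rw [h2, hsb, sub_self, map_zero]
  rw [hΦ2, map_nsmul] at hΦ1
  exact sub_eq_zero.mp (smul_eq_zero_of_coprime_three h3 hr3 (by rw [nsmul_sub, hΦ1, sub_self]))

end CfsgLib.BlockNorm
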