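import Cfsg.Agent.Lib.BlockNorm.Ctx
import Cfsg.Agent.Lib.Solvable.CoprimeAction

/-!
# The exceptional block: obtaining the data
-/

set_option autoImplicit false
set_option linter.unusedSectionVars false

open Matrix
open scoped MatrixGroups commutatorElement

namespace CfsgLib.BlockNorm

open CfsgLib.LocalEven CfsgLib.LocalEven.BBlock

variable {G : Type*} [Group G] [Finite G]

theorem map_conj_omegaOneCenter (p : ℕ) {H : Subgroup G} {g : G}
    (hg : g ∈ Subgroup.normalizer (H : Set G)) :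
    g ∈ Subgroup.normalizer (Cfsg.omegaOneCenter p H : Set G) := by
  refine CfsgLib.PLocal.mem_normalizer_of_map_conj_eq ?_
  rw [Cfsg.omegaOneCenter, CfsgLib.PLocal.omegaOne_map (MulEquiv.injective _)]
  congr 1
  refine Subgroup.eq_of_le_of_card_ge ?_ (Subgroup.card_map_of_injective (MulEquiv.injective _)).ge
  rintro _ ⟨w, hw, rfl⟩
  refine ⟨conj_mem' hg hw.1, fun y hy => ?_⟩
  have h1 : g⁻¹ * y * g ∈ H := by simpa using conj_mem' (inv_mem hg) hy
  have h2 := hw.2 _ h1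
  simp only [MulEquiv.coe_toMonoidHom, MulAut.conj_apply]
  calc y * (g * w * g⁻¹) = g * (g⁻¹ * y * g * w) * g⁻¹ := by group
    _ = g * (w * (g⁻¹ * y * g)) * g⁻¹ := by rw [h2]
    _ = g * w * g⁻¹ * y := by group

theorem conj_mem_commutator {H K : Subgroup G} {g : G} (hH : g ∈ Subgroup.normalizer (H : Set G))
    (hK : g ∈ Subgroup.normalizer (K : Set G)) :
    g ∈ Subgroup.normalizer ((⁅H, K⁆ : Subgroup G) : Set G) := by
  refine CfsgLib.PLocal.mem_normalizer_of_map_conj_eq ?_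
  rw [Subgroup.map_commutator, CfsgLib.PLocal.map_conj_eq_of_mem_normalizer hH,
    CfsgLib.PLocal.map_conj_eq_of_mem_normalizer hK]

/-- For an exceptional block, either `E` acts trivially on `O_p(G)` modulo `W` or the data
exist. -/
theorem exists_ctx [Fact (Nat.Prime 3)]
    (hG : Subgroup.centralizer (Cfsg.pCore 3 G : Set G) ≤ Cfsg.pCore 3 G)
    (T : Sylow 3 G) {E : Subgroup G} (hE : Cfsg.IsBaumannBlock 3 (T : Subgroup G) E)
    {F : Type*} [Field F] [Fintype F] {n : ℕ} (hn : Fintype.card F = 3 ^ n)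
    (hiso : Nonempty (↥E ⧸ Cfsg.pCore 3 ↥E ≃* ↥(commutator (SpecialLinearGroup (Fin 2) F))))
    (hact : Cfsg.ActsAsSL2OnSection F (commutator (SpecialLinearGroup (Fin 2) F)) E
      (Cfsg.omegaOneCenter 3 (Cfsg.pCoreOf 3 E))
      (Cfsg.omegaOneCenter 3 (Cfsg.pCoreOf 3 E) ⊓ Subgroup.centralizer (E : Set G)))
    (hact2 : Cfsg.ActsAsSL2OnSection F (commutator (SpecialLinearGroup (Fin 2) F)) E
      (Cfsg.pCoreOf 3 E) (Cfsg.omegaOneCenter 3 (Cfsg.pCoreOf 3 E)))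
    (hQQ : ⁅Cfsg.pCoreOf 3 E, Cfsg.pCoreOf 3 E⁆ =
      Cfsg.omegaOneCenter 3 (Cfsg.pCoreOf 3 E) ⊓ Subgroup.centralizer (E : Set G))
    (hZEE : E ⊓ Subgroup.centralizer (E : Set G) =
      Cfsg.omegaOneCenter 3 (Cfsg.pCoreOf 3 E) ⊓ Subgroup.centralizer (E : Set G))
    (hcard : Nat.card ↥(E ⊓ Subgroup.centralizer (E : Set G)) = 3 ^ n) [CharP F 3] :
    (∀ o ∈ Cfsg.pCore 3 G, ∀ x ∈ E,
        x * o * x⁻¹ * o⁻¹ ∈ ⁅Cfsg.omegaOneCenter 3 (Cfsg.pCoreOf 3 E), E⁆) ∨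
      ∃ c : Ctx G F, c.E = E ∧ c.Q = Cfsg.pCoreOf 3 E ∧
        c.V = Cfsg.omegaOneCenter 3 (Cfsg.pCoreOf 3 E) ∧
        c.Z = Cfsg.omegaOneCenter 3 (Cfsg.pCoreOf 3 E) ⊓ Subgroup.centralizer (E : Set G) ∧
        c.W = ⁅Cfsg.omegaOneCenter 3 (Cfsg.pCoreOf 3 E), E⁆ ∧
        c.O = Cfsg.pCoreOf 3 (Subgroup.normalizer
          ((⁅Cfsg.omegaOneCenter 3 (Cfsg.pCoreOf 3 E), E⁆ : Subgroup G) : Set G)) := by
  classical
  obtain ⟨hblockOE, hblockW, -⟩ := block_module hG T hE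
  obtain ⟨hres, hEB, -, -, -⟩ := hE
  have hQE : Cfsg.pCoreOf 3 E ≤ E := pCoreOf_le 3 E
  have hQp := pCoreOf_isPGroup 3 E
  set Q := Cfsg.pCoreOf 3 E with hQdef
  set V := Cfsg.omegaOneCenter 3 Q with hVdef
  set Z := V ⊓ Subgroup.centralizer (E : Set G) with hZdef
  set W := ⁅V, E⁆ with hWdef
  have hEQ : E ≤ Subgroup.normalizer (Q : Set G) := le_normalizer_pCoreOf 3 E
  obtain ⟨hEV, -, ρ, ψ, hρ, hψ, hψker, hψeq⟩ := hact
  have hact2' := hact2
  obtain ⟨-, hVQ, ρ2, ψ2, hρ2, hψ2, hψ2ker, hψ2eq⟩ := hact2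
  have hVEA : Cfsg.IsElementaryAbelian 3 V := CfsgLib.PLocal.omegaCenter_isEA Q
  have hVcQ : ∀ v ∈ V, ∀ q ∈ Q, Commute v q := fun v hv q hq =>
    (((CfsgLib.PLocal.omegaOne_le 3 _) hv).2 q hq).symm
  have hV3 : ∀ v ∈ V, v ^ 3 = 1 := hVEA.2
  have hVab : ∀ v ∈ V, ∀ v' ∈ V, Commute v v' := fun v hv v' hv' =>
    CfsgLib.PLocal.commute_of_mem_comm hVEA.1 hv hv'
  -- the kernels
  obtain ⟨θ⟩ := hiso
  have hcardE : Nat.card ↥E = Nat.card ↥Q * Nat.card ↥(commutator (SpecialLinearGroup (Fin 2) F)) := by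
    rw [← Nat.card_congr θ.toEquiv, hQdef, Cfsg.pCoreOf,
      Subgroup.card_map_of_injective E.subtype_injective, mul_comm]
    exact Subgroup.card_eq_card_quotient_mul_card_subgroup _
  have hker : ∀ (f : ↥E →* SpecialLinearGroup (Fin 2) F),
      f.range = commutator (SpecialLinearGroup (Fin 2) F) →
      (∀ x : ↥E, (x : G) ∈ Q → f x = 1) → ∀ x : ↥E, f x = 1 ↔ (x : G) ∈ Q := by
    intro f hf hle
    have h1 : Q.subgroupOf E ≤ f.ker := fun x hx => hle x hx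
    have h2 : Nat.card f.ker * Nat.card f.range = Nat.card ↥E := by
      rw [← Subgroup.index_ker, Subgroup.card_mul_index]
    rw [hf, hcardE] at h2
    have h3 := Nat.eq_of_mul_eq_mul_right Nat.card_pos h2
    rw [← Nat.card_congr (Subgroup.subgroupOfEquivOfLe hQE).toEquiv] at h3
    have h4 := Subgroup.eq_of_le_of_card_ge h1 h3.le
    exact fun x => by rw [← MonoidHom.mem_ker, ← h4]; rfl
  have hext : ∀ a : SpecialLinearGroup (Fin 2) F,
      (∀ v, (a : Matrix (Fin 2) (Fin 2) F).mulVec v = v) → a = 1 := fun a h =>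
    Subtype.ext (Matrix.ext_of_mulVec_single fun i => (h _).trans (one_mulVec _).symm)
  have hρker := hker ρ hρ fun x hx => hext _ fun v => by
    obtain ⟨u, hu⟩ := hψ (Multiplicative.ofAdd v)
    obtain ⟨w, hw, hw2⟩ := hψeq x u
    have : w = u := Subtype.ext (by
      rw [hw, ← (hVcQ u u.2 x hx).eq, mul_inv_cancel_right])
    rw [this, hu] at hw2
    exact hw2.symm
  have hρ2ker := hker ρ2 hρ2 fun x hx => hext _ fun v => by
    obtain ⟨u, hu⟩ := hψ2 (Multiplicative.ofAdd v)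
    obtain ⟨w, hw, hw2⟩ := hψ2eq x u
    have : w = (⟨x, hx⟩ : ↥Q) * u * (⟨x, hx⟩ : ↥Q)⁻¹ := Subtype.ext hw
    have h9 : ψ2 w = ψ2 u := by
      rw [this, map_mul, map_mul, map_inv]
      exact mul_inv_eq_of_eq_mul (mul_comm _ _)
    rw [h9, hu] at hw2
    exact hw2.symm
  -- the involution
  obtain ⟨x0, hx0⟩ : (-1 : SpecialLinearGroup (Fin 2) F) ∈ ρ.range := hρ ▸ neg_one_mem
  have hneg1 : (-1 : SpecialLinearGroup (Fin 2) F) ≠ 1 := fun h => by
    have h1 := congrArg (fun m : SpecialLinearGroup (Fin 2) F => (m : Matrix (Fin 2) (Fin 2) F) 0 0) h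
    simp at h1
    exact neg_one_ne_one h1
  obtain ⟨e, he, he2, hene⟩ : ∃ e ∈ E, e * e = 1 ∧ e ≠ 1 := by
    have h2 : 2 ∣ Nat.card ↥E := by
      have h1 : orderOf (-1 : SpecialLinearGroup (Fin 2) F) = 2 :=
        orderOf_eq_prime (by rw [pow_two, neg_mul_neg, one_mul]) hneg1
      rw [← h1, ← hx0]
      exact (orderOf_map_dvd ρ x0).trans (orderOf_dvd_natCard x0)
    obtain ⟨x, hx⟩ := exists_prime_orderOf_dvd_card' 2 h2
    refine ⟨x, x.2, ?_, fun h => ?_⟩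
    · have h := pow_orderOf_eq_one x
      rw [hx, pow_two] at h
      exact congrArg Subtype.val h
    · rw [show x = 1 from Subtype.ext h, orderOf_one] at hx
      omega
  have heQ : e ∉ Q := fun h => hene (by
    obtain ⟨k, hk⟩ := hQp ⟨e, h⟩
    exact orderOf_eq_one_iff.mp (Nat.eq_one_of_dvd_coprimes
      ((by norm_num : Nat.Coprime 2 3).pow_right k)
      (orderOf_dvd_of_pow_eq_one (by rw [pow_two, he2]))
      (orderOf_dvd_of_pow_eq_one (congrArg Subtype.val hk))))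
  have hee : (⟨e, he⟩ : ↥E) * ⟨e, he⟩ = 1 := Subtype.ext he2
  have hρe : ρ ⟨e, he⟩ = -1 :=
    eq_neg_one_of_sq (by rw [← map_mul, hee, map_one]) fun h => heQ ((hρker _).mp h)
  have hρ2e : ρ2 ⟨e, he⟩ = -1 :=
    eq_neg_one_of_sq (by rw [← map_mul, hee, map_one]) fun h => heQ ((hρ2ker _).mp h)
  -- `W`
  have hZE : ∀ z ∈ Z, ∀ x ∈ E, Commute z x := fun z hz x hx => (hz.2 x hx).symm
  have hEW : E ≤ Subgroup.normalizer (W : Set G) := le_normalizer_commutator hEV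
  have hWV : W ≤ V := commutator_le_of_le_normalizer hEV
  let Inv : Subgroup G :=
    { carrier := {v | v ∈ V ∧ e * v * e⁻¹ = v⁻¹}
      one_mem' := ⟨one_mem _, by simp⟩
      mul_mem' := fun {a b} ha hb => ⟨mul_mem ha.1 hb.1, by
        rw [show e * (a * b) * e⁻¹ = e * a * e⁻¹ * (e * b * e⁻¹) by group, ha.2, hb.2,
          _root_.mul_inv_rev, ((hVab a ha.1 b hb.1).inv_inv).eq]⟩
      inv_mem' := fun {a} ha => ⟨inv_mem ha.1, by
        rw [show e * a⁻¹ * e⁻¹ = (e * a * e⁻¹)⁻¹ by group, ha.2]⟩ }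
  have hdec : ∀ v ∈ V, ∃ b ∈ Inv, ∃ z ∈ Z, b ∈ W ∧ v = b * z := by
    intro v hv
    have hv' : e * v * e⁻¹ ∈ V := conj_mem' (hEV he) hv
    set v' := e * v * e⁻¹ with hv'def
    have hev' : e * v' * e⁻¹ = v := by
      rw [hv'def, show e * (e * v * e⁻¹) * e⁻¹ = (e * e) * v * (e * e)⁻¹ by group, he2]
      group
    have hc : Commute v v' := hVab v hv v' hv'
    have hb : v * v'⁻¹ ∈ W := by
      rw [hv'def, show v * (e * v * e⁻¹)⁻¹ = ⁅v, e⁆ by rw [commutatorElement_def]; group]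
      exact Subgroup.commutator_mem_commutator hv he
    refine ⟨(v * v'⁻¹) ^ 2, ⟨pow_mem (mul_mem hv (inv_mem hv')) 2, ?_⟩, (v * v') ^ 2,
      pow_mem ?_ 2, pow_mem hb 2, ?_⟩
    · rw [← conj_pow, show e * (v * v'⁻¹) * e⁻¹ = e * v * e⁻¹ * (e * v' * e⁻¹)⁻¹ by group,
        ← hv'def, hev', ← inv_pow, _root_.mul_inv_rev, inv_inv]
    · have hmem := mul_mem hv hv'
      refine (hψker ⟨_, hmem⟩).mp ?_
      obtain ⟨w, hw, hw2⟩ := hψeq ⟨e, he⟩ ⟨v, hv⟩
      rw [show (⟨_, hmem⟩ : ↥V) = ⟨v, hv⟩ * w from Subtype.ext (by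
        show v * v' = v * (w : G); rw [hw]), map_mul]
      refine Multiplicative.toAdd.injective ?_
      rw [toAdd_mul, hw2, hρe, toAdd_one]
      show (ψ ⟨v, hv⟩).toAdd + (-(1 : Matrix (Fin 2) (Fin 2) F)).mulVec (ψ ⟨v, hv⟩).toAdd = 0
      rw [neg_mulVec, one_mulVec, add_neg_cancel]
    · rw [(hc.inv_right).mul_pow, hc.mul_pow, mul_assoc (v ^ 2), ← mul_assoc ((v'⁻¹) ^ 2),
        ((hc.symm.inv_left).pow_pow 2 2).eq, mul_assoc, ← mul_assoc (v ^ 2) (v ^ 2), inv_pow,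
        inv_mul_cancel, mul_one, ← pow_add]
      rw [show 2 + 2 = 3 + 1 by rfl, pow_succ, hV3 v hv, one_mul]
  have hWInv : W ≤ Inv := by
    refine Subgroup.commutator_le.mpr fun v hv x hx => ?_
    obtain ⟨b, hb, a, ha, -, rfl⟩ := hdec v hv
    have hax := (hZE a ha x hx).eq
    have hq : x⁻¹ * e * x * e⁻¹ ∈ Q := by
      refine (hρker ⟨_, mul_mem (mul_mem (mul_mem (inv_mem hx) he) hx) (inv_mem he)⟩).mp ?_
      rw [show (⟨_, mul_mem (mul_mem (mul_mem (inv_mem hx) he) hx) (inv_mem he)⟩ : ↥E) =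
        (⟨x, hx⟩ : ↥E)⁻¹ * ⟨e, he⟩ * ⟨x, hx⟩ * (⟨e, he⟩ : ↥E)⁻¹ from rfl, map_mul, map_mul, map_mul,
        map_inv, map_inv, hρe]
      simp
    have hxb : x * b⁻¹ * x⁻¹ ∈ Inv := by
      refine ⟨conj_mem' (hEV hx) (inv_mem hb.1), ?_⟩
      set q := x⁻¹ * e * x * e⁻¹ with hqdef
      have hebe : e * b⁻¹ * e⁻¹ = b := by
        rw [show e * b⁻¹ * e⁻¹ = (e * b * e⁻¹)⁻¹ by group, hb.2, inv_inv]
      rw [show e * (x * b⁻¹ * x⁻¹) * e⁻¹ = x * (q * (e * b⁻¹ * e⁻¹) * q⁻¹) * x⁻¹ by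
        rw [hqdef]; group, hebe, ← (hVcQ b hb.1 q hq).eq, mul_inv_cancel_right]
      group
    rw [show ⁅b * a, x⁆ = b * (a * x) * a⁻¹ * b⁻¹ * x⁻¹ by rw [commutatorElement_def]; group,
      hax, show b * (x * a) * a⁻¹ * b⁻¹ * x⁻¹ = b * (x * b⁻¹ * x⁻¹) by group]
    exact mul_mem hb hxb
  have hWe : ∀ w ∈ W, e * w * e⁻¹ = w⁻¹ := fun w hw => (hWInv hw).2
  have hWZ : ∀ w ∈ W, w ∈ Z → w = 1 := fun w hw hz => by
    have h1 := hWe w hw
    rw [show e * w * e⁻¹ = w by rw [← (hZE w hz e he).eq, mul_inv_cancel_right]] at h1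
    exact orderOf_eq_one_iff.mp (Nat.eq_one_of_dvd_coprimes (by norm_num : Nat.Coprime 2 3)
      (orderOf_dvd_of_pow_eq_one (by rw [pow_two]; exact mul_eq_one_iff_eq_inv.mpr h1))
      (orderOf_dvd_of_pow_eq_one (hV3 w (hWV hw))))
  have hWsup : ∀ v ∈ V, ∃ w ∈ W, ∃ z ∈ Z, v = w * z := fun v hv => by
    obtain ⟨b, -, z, hz, hbW, h⟩ := hdec v hv
    exact ⟨b, hbW, z, hz, h⟩
  have hWne : W ≠ ⊥ := by
    intro h
    obtain ⟨u, hu⟩ := hψ (Multiplicative.ofAdd ![1, 0])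
    obtain ⟨w, hw, z, hz, huv⟩ := hWsup u u.2
    rw [h, Subgroup.mem_bot] at hw
    rw [hw, one_mul] at huv
    rw [(hψker u).mpr (huv ▸ hz)] at hu
    have := congrFun (congrArg Multiplicative.toAdd hu) 0
    simp at this
  -- `O`
  set N := Subgroup.normalizer (W : Set G) with hNdef
  set O := Cfsg.pCoreOf 3 N with hOdef
  set OG := Cfsg.pCore 3 G with hOGdef
  have hWcOG : ∀ w ∈ W, ∀ o ∈ OG, Commute w o := fun w hw o ho =>
    ((CfsgLib.PLocal.omegaOne_le 3 _) (hblockW hw)).2 o ho |>.symm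
  have hOGN : OG ≤ N := fun o ho => mem_normalizer_of_le fun w hw => by
    rwa [← (hWcOG w hw o ho).eq, mul_inv_cancel_right]
  have hOGn : ∀ g, g ∈ Subgroup.normalizer (OG : Set G) := fun g =>
    mem_normalizer_of_le fun y hy => (core_normal 3 G).conj_mem y hy g
  have hOGO : OG ≤ O := le_pCoreOf hOGN (fun g _ => hOGn g) (core_isPGroup 3 G)
  have hWOG : W ≤ OG := hblockW.trans ((CfsgLib.PLocal.omegaOne_le 3 _).trans inf_le_left)
  have hON : N ≤ Subgroup.normalizer (O : Set G) := le_normalizer_pCoreOf 3 N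
  have hOp := pCoreOf_isPGroup 3 N
  have hBW : Cfsg.baumannSubgroupOf 3 (T : Subgroup G) ≤ N := by
    intro b hb
    have hbE := le_normalizer_of_commutator_eq hEB hb
    exact conj_mem_commutator
      (map_conj_omegaOneCenter 3 (normalizer_le_normalizer_pCoreOf E hbE)) hbE
  have hOE : O ≤ Subgroup.normalizer (E : Set G) :=
    le_normalizer_block T hres hEB hOp (hBW.trans hON) (hEW.trans hON)
  have hEO : ∀ x ∈ E, ∀ o ∈ O, x * o * x⁻¹ * o⁻¹ ∈ Q := by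
    intro x hx o ho
    have h1 : E ⊓ O ≤ Q := le_pCoreOf inf_le_left
      (fun g hg => mem_normalizer_of_le fun y hy =>
        ⟨E.mul_mem (E.mul_mem hg hy.1) (E.inv_mem hg), conj_mem' (hON (hEW hg)) hy.2⟩)
      (hOp.to_le inf_le_right)
    refine h1 ⟨?_, O.mul_mem (conj_mem' (hON (hEW hx)) ho) (O.inv_mem ho)⟩
    rw [show x * o * x⁻¹ * o⁻¹ = x * (o * x⁻¹ * o⁻¹) by group]
    exact mul_mem hx (conj_mem' (hOE ho) (inv_mem hx))
  by_cases hstab : ∀ o ∈ OG, ∀ x ∈ E, x * o * x⁻¹ * o⁻¹ ∈ W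
  · exact Or.inl hstab
  right
  have hWO : W ≤ O := hWOG.trans hOGO
  -- `W` is central in `O`
  have hEOn : E ≤ Subgroup.normalizer (O : Set G) := hEW.trans hON
  have hWcO : ∀ w ∈ W, ∀ o ∈ O, Commute w o := by
    set L := W ⊓ Subgroup.centralizer (O : Set G) with hL
    have hEL : E ≤ Subgroup.normalizer (L : Set G) := fun x hx => mem_normalizer_of_le fun y hy =>
      ⟨conj_mem' (hEW hx) hy.1, fun o ho => by
        have h1 : x⁻¹ * o * x ∈ O := by simpa using conj_mem' (inv_mem (hEOn hx)) ho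
        have h2 := hy.2 _ h1
        calc o * (x * y * x⁻¹) = x * (x⁻¹ * o * x * y) * x⁻¹ := by group
          _ = x * (y * (x⁻¹ * o * x)) * x⁻¹ := by rw [h2]
          _ = x * y * x⁻¹ * o := by group⟩
    have hEZ : E ≤ Subgroup.normalizer (Z : Set G) := fun x hx => mem_normalizer_of_le fun y hy => by
      rwa [← (hZE y hy x hx).eq, mul_inv_cancel_right]
    have hWn : (W.subgroupOf O).Normal :=
      (Subgroup.normal_subgroupOf_iff_le_normalizer hWO).mpr (pCoreOf_le 3 N)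
    obtain ⟨l, hl, hl1⟩ := CfsgLib.Solvable.exists_ne_one_mem_inf_center_of_normal hOp
      (N := W.subgroupOf O) fun h => hWne (by
        rwa [Subgroup.subgroupOf_eq_bot, disjoint_iff, inf_eq_left.mpr hWO] at h)
    have hlL : (l : G) ∈ L := ⟨hl.1, fun o ho =>
      congrArg Subtype.val (Subgroup.mem_center_iff.mp hl.2 ⟨o, ho⟩)⟩
    have htop : L ⊔ Z = V := by
      refine section_simple_sl2 ⟨hEV, inf_le_left, ρ, ψ, hρ, hψ, hψker, hψeq⟩ le_sup_right
        (sup_le (inf_le_left.trans hWV) inf_le_left) ?_ fun h => hl1 (Subtype.ext ?_)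
      · intro x hx
        refine CfsgLib.PLocal.mem_normalizer_of_map_conj_eq ?_
        rw [Subgroup.map_sup, CfsgLib.PLocal.map_conj_eq_of_mem_normalizer (hEL hx),
          CfsgLib.PLocal.map_conj_eq_of_mem_normalizer (hEZ hx)]
      · exact hWZ _ hl.1 (h (Subgroup.mem_sup_left hlL))
    intro w hw o ho
    have hw' : w ∈ L ⊔ Z := htop.symm ▸ hWV hw
    rw [← SetLike.mem_coe, Subgroup.coe_mul_of_right_le_normalizer_left L Z (fun z hz =>
      mem_normalizer_of_le fun y hy => by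
        rwa [(hVab z hz.1 y (hWV hy.1)).eq, mul_inv_cancel_right])] at hw'
    obtain ⟨l', hl', z, hz, rfl⟩ := hw'
    have hz1 : z = 1 := hWZ z (by
      have := W.mul_mem (W.inv_mem hl'.1) hw
      simpa using this) hz
    show Commute (l' * z) o
    rw [hz1, mul_one]
    exact (hl'.2 o ho).symm
  -- `Q = [O, E]`
  set R := ⁅O, E⁆ with hR
  have hRO : R ≤ O := commutator_le_of_le_normalizer hEOn
  have hRQ : R ≤ Q := Subgroup.commutator_le.mpr fun o ho x hx => by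
    rw [show ⁅o, x⁆ = (x * o * x⁻¹ * o⁻¹)⁻¹ by rw [commutatorElement_def]; group]
    exact inv_mem (hEO x hx o ho)
  have hERn : E ≤ Subgroup.normalizer (R : Set G) := le_normalizer_commutator hEOn
  have hcoprime : ∀ o : G, (∀ x ∈ E, x * o * x⁻¹ * o⁻¹ ∈ V) →
      ∀ x ∈ E, x * o * x⁻¹ * o⁻¹ ∈ W := by
    intro o ho
    let S : Subgroup G :=
      { carrier := {x | x ∈ E ∧ x * o * x⁻¹ * o⁻¹ ∈ W}
        one_mem' := ⟨one_mem _, by simp⟩
        mul_mem' := fun {a b} ha hb => ⟨mul_mem ha.1 hb.1, by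
          rw [show a * b * o * (a * b)⁻¹ * o⁻¹ =
            a * (b * o * b⁻¹ * o⁻¹) * a⁻¹ * (a * o * a⁻¹ * o⁻¹) by group]
          exact mul_mem (conj_mem' (hEW ha.1) hb.2) ha.2⟩
        inv_mem' := fun {a} ha => ⟨inv_mem ha.1, by
          have h := conj_mem' (inv_mem (hEW ha.1)) (inv_mem ha.2)
          rw [show a⁻¹ * (a * o * a⁻¹ * o⁻¹)⁻¹ * a⁻¹⁻¹ = a⁻¹ * o * a * o⁻¹ by group] at h
          rwa [inv_inv]⟩ }
    intro x hx
    refine (residual_induction hres (R := S) (fun y hy hcop => ⟨hy, ?_⟩) hx).2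
    refine stable_mem (o := o) (hEW hy) hcop (fun w hw => hVab w (hWV hw) _ (ho y hy)) (k := 1)
      (by rw [pow_one]; exact hV3 _ (ho y hy)) (by group) ?_
    have hm := Subgroup.commutator_mem_commutator (ho y hy) hy
    have hm2 := inv_mem hm
    rwa [commutatorElement_inv, commutatorElement_def] at hm2
  have hRV : ¬ R ≤ V := fun h => hstab fun o ho x hx => hcoprime o (fun y hy => by
    have := inv_mem (h (Subgroup.commutator_mem_commutator (hOGO ho) hy))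
    rwa [commutatorElement_inv, commutatorElement_def] at this) x hx
  have hRVQ : R ⊔ V = Q := section_simple_sl2 hact2' le_sup_right (sup_le hRQ hVQ) (fun x hx => by
    refine CfsgLib.PLocal.mem_normalizer_of_map_conj_eq ?_
    rw [Subgroup.map_sup, CfsgLib.PLocal.map_conj_eq_of_mem_normalizer (hERn hx),
      CfsgLib.PLocal.map_conj_eq_of_mem_normalizer (hEV hx)]) fun h => hRV (le_sup_left.trans h)
  have hQQ' : ⁅Q, Q⁆ = Z := hQQ
  have hZR : Z ≤ R := by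
    rw [← hQQ']
    refine Subgroup.commutator_le.mpr fun a ha b hb => ?_
    rw [← hRVQ, ← SetLike.mem_coe, Subgroup.coe_mul_of_right_le_normalizer_left R V
      ((hVQ.trans hQE).trans hERn)] at ha hb
    obtain ⟨r, hr, v, hv, rfl⟩ := ha
    obtain ⟨r', hr', v', hv', rfl⟩ := hb
    have e1 : ⁅r * v, r' * v'⁆ = r * (r' * v') * r⁻¹ * (r' * v')⁻¹ := by
      rw [commutatorElement_def, show r * v * (r' * v') * (r * v)⁻¹ =
        r * (v * (r' * v') * v⁻¹) * r⁻¹ by group,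
        (hVcQ v hv _ (mul_mem (hRQ hr') (hVQ hv'))).eq, mul_inv_cancel_right]
    rw [e1, show r * (r' * v') * r⁻¹ * (r' * v')⁻¹ = r * r' * (v' * r⁻¹ * v'⁻¹) * r'⁻¹ by group,
      (hVcQ v' hv' _ (inv_mem (hRQ hr))).eq, mul_inv_cancel_right]
    exact mul_mem (mul_mem (mul_mem hr hr') (inv_mem hr)) (inv_mem hr')
  have hWR : W ≤ R := fun w hw => by
    have h := pow_mem (Subgroup.commutator_mem_commutator (hWO hw) he : ⁅w, e⁆ ∈ R) 2
    rw [commutatorElement_def, show w * e * w⁻¹ * e⁻¹ = w * (e * w * e⁻¹)⁻¹ by group, hWe w hw,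
      inv_inv, pow_two, show w * w * (w * w) = w ^ (3 + 1) by
        simp only [pow_succ, pow_zero, one_mul, mul_assoc], pow_succ, hV3 w (hWV hw), one_mul] at h
    exact h
  have hVR : V ≤ R := fun v hv => by
    obtain ⟨w, hw, z, hz, rfl⟩ := hWsup v hv
    exact mul_mem (hWR hw) (hZR hz)
  have hQR : Q ≤ R := by rw [← hRVQ]; exact sup_le le_rfl hVR
  have hQO : Q ≤ O := hQR.trans hRO
  -- `V` is central in `O`
  have hOQ : O ≤ Subgroup.normalizer (Q : Set G) := fun o ho =>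
    normalizer_le_normalizer_pCoreOf E (hOE ho)
  have hOV : O ≤ Subgroup.normalizer (V : Set G) := fun o ho => map_conj_omegaOneCenter 3 (hOQ ho)
  let M : Subgroup G :=
    { carrier := {q | q ∈ Q ∧ ∀ o ∈ O, q * o * q⁻¹ * o⁻¹ ∈ V}
      one_mem' := ⟨one_mem _, fun o _ => by simp⟩
      mul_mem' := fun {a b} ha hb => ⟨mul_mem ha.1 hb.1, fun o ho => by
        rw [show a * b * o * (a * b)⁻¹ * o⁻¹ =
          a * (b * o * b⁻¹ * o⁻¹) * a⁻¹ * (a * o * a⁻¹ * o⁻¹) by group]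
        exact mul_mem (conj_mem' (hEV (hQE ha.1)) (hb.2 o ho)) (ha.2 o ho)⟩
      inv_mem' := fun {a} ha => ⟨inv_mem ha.1, fun o ho => by
        have h := inv_mem (ha.2 (a⁻¹ * o * a) (by
          simpa using conj_mem' (inv_mem (hEOn (hQE ha.1))) ho))
        simpa [mul_assoc] using h⟩ }
  have hMQ : M = Q := by
    refine section_simple_sl2 hact2' (fun v hv => ⟨hVQ hv, fun o ho => ?_⟩) (fun m hm => hm.1)
      (fun x hx => mem_normalizer_of_le fun m hm => ⟨conj_mem' (hEQ hx) hm.1, fun o ho => ?_⟩) ?_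
    · rw [show v * o * v⁻¹ * o⁻¹ = v * (o * v⁻¹ * o⁻¹) by group]
      exact mul_mem hv (conj_mem' (hOV ho) (inv_mem hv))
    · rw [show x * m * x⁻¹ * o * (x * m * x⁻¹)⁻¹ * o⁻¹ =
        x * (m * (x⁻¹ * o * x) * m⁻¹ * (x⁻¹ * o * x)⁻¹) * x⁻¹ by group]
      exact conj_mem' (hEV hx) (hm.2 _ (by simpa using conj_mem' (inv_mem (hEOn hx)) ho))
    · intro hle
      haveI : (V.subgroupOf O).Normal :=
        (Subgroup.normal_subgroupOf_iff_le_normalizer (hVQ.trans hQO)).mpr hOV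
      haveI : (Q.subgroupOf O).Normal :=
        (Subgroup.normal_subgroupOf_iff_le_normalizer hQO).mpr hOQ
      let π := QuotientGroup.mk' (V.subgroupOf O)
      haveI : ((Q.subgroupOf O).map π).Normal :=
        Subgroup.Normal.map inferInstance π (QuotientGroup.mk'_surjective _)
      obtain ⟨z, hz, hz1⟩ := CfsgLib.Solvable.exists_ne_one_mem_inf_center_of_normal
        (hOp.to_quotient (V.subgroupOf O)) (N := (Q.subgroupOf O).map π) fun h => by
          rw [Subgroup.map_eq_bot_iff, QuotientGroup.ker_mk'] at h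
          refine hRV fun r hr => ?_
          exact h (show (⟨r, hRO hr⟩ : ↥O) ∈ Q.subgroupOf O from hRQ hr)
      obtain ⟨u, huQ, rfl⟩ := hz.1
      refine hz1 ((QuotientGroup.eq_one_iff _).mpr (hle ⟨huQ, fun o ho => ?_⟩))
      have h2 := Subgroup.mem_center_iff.mp hz.2 (π ⟨o, ho⟩)
      rw [← map_mul, ← map_mul] at h2
      have h3 : π (u * ⟨o, ho⟩ * u⁻¹ * (⟨o, ho⟩ : ↥O)⁻¹) = 1 := by
        rw [map_mul, map_mul, ← h2, map_mul, map_inv, map_inv]
        group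
      exact Subgroup.mem_subgroupOf.mp ((QuotientGroup.eq_one_iff (N := V.subgroupOf O) _).mp h3)
  have hQOV : ∀ q ∈ Q, ∀ o ∈ O, q * o * q⁻¹ * o⁻¹ ∈ V := fun q hq => (hMQ.ge hq).2
  have hZcO : ∀ z ∈ Z, ∀ o ∈ O, Commute z o := by
    intro z hz o ho
    have hz' : z ∈ ⁅Q, Q⁆ := hQQ'.symm ▸ hz
    have : ⁅Q, Q⁆ ≤ Subgroup.centralizer ({o} : Set G) := by
      refine Subgroup.commutator_le.mpr fun a ha b hb => Subgroup.mem_centralizer_singleton_iff.mpr ?_
      set va := a * o * a⁻¹ * o⁻¹ with hva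
      set vb := b * o * b⁻¹ * o⁻¹ with hvb
      have hc1 := hVcQ _ (inv_mem (hQOV a ha o ho))
      have hc2 := hVcQ _ (inv_mem (hQOV b hb o ho))
      have e1 : o * a * o⁻¹ = va⁻¹ * a := by rw [hva]; group
      have e2 : o * b * o⁻¹ = vb⁻¹ * b := by rw [hvb]; group
      have key : o * ⁅a, b⁆ * o⁻¹ = ⁅a, b⁆ := by
        rw [commutatorElement_def, show o * (a * b * a⁻¹ * b⁻¹) * o⁻¹ = (o * a * o⁻¹) * (o * b * o⁻¹) *
          (o * a * o⁻¹)⁻¹ * (o * b * o⁻¹)⁻¹ by group, e1, e2]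
        calc va⁻¹ * a * (vb⁻¹ * b) * (va⁻¹ * a)⁻¹ * (vb⁻¹ * b)⁻¹
            = va⁻¹ * (a * (vb⁻¹ * b) * a⁻¹) * va⁻¹⁻¹ * (b⁻¹ * vb⁻¹⁻¹) := by group
          _ = a * (vb⁻¹ * b) * a⁻¹ * (b⁻¹ * vb⁻¹⁻¹) := by
              rw [(hc1 _ (mul_mem (mul_mem ha (mul_mem (inv_mem (hVQ (hQOV b hb o ho))) hb))
                (inv_mem ha))).eq, mul_inv_cancel_right]
          _ = vb⁻¹ * (a * b * a⁻¹ * b⁻¹) * vb⁻¹⁻¹ := by
              rw [← mul_assoc a, ← (hc2 a ha).eq]; simp only [hvb]; group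
          _ = a * b * a⁻¹ * b⁻¹ := by
              rw [(hc2 _ (mul_mem (mul_mem (mul_mem ha hb) (inv_mem ha)) (inv_mem hb))).eq,
                mul_inv_cancel_right]
      exact (mul_inv_eq_iff_eq_mul.mp key).symm
    exact Subgroup.mem_centralizer_singleton_iff.mp (this hz')
  have hVO : ∀ v ∈ V, ∀ o ∈ O, Commute v o := fun v hv o ho => by
    obtain ⟨w, hw, z, hz, rfl⟩ := hWsup v hv
    exact (hWcO w hw o ho).mul_left (hZcO z hz o ho)
  have hQcent : ∀ q ∈ Q, (∀ o ∈ O, Commute q o) → q ∈ V := by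
    intro q hq hqc
    by_contra hqV
    let L : Subgroup G := Q ⊓ Subgroup.centralizer (O : Set G)
    have hL : L = Q := section_simple_sl2 hact2'
      (fun v hv => ⟨hVQ hv, fun o ho => ((hVO v hv o ho).eq).symm⟩) inf_le_left
      (fun x hx => mem_normalizer_of_le fun y hy => ⟨conj_mem' (hEQ hx) hy.1, fun o ho => by
        have h1 : x⁻¹ * o * x ∈ O := by simpa using conj_mem' (inv_mem (hEOn hx)) ho
        have h2 := hy.2 _ h1
        calc o * (x * y * x⁻¹) = x * (x⁻¹ * o * x * y) * x⁻¹ := by group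
          _ = x * (y * (x⁻¹ * o * x)) * x⁻¹ := by rw [h2]
          _ = x * y * x⁻¹ * o := by group⟩)
      (fun h => hqV (h ⟨hq, fun o ho => (hqc o ho).eq.symm⟩))
    have hZ1 : Z = ⊥ := by
      rw [← hQQ', Subgroup.commutator_eq_bot_iff_le_centralizer]
      conv_lhs => rw [← hL]
      exact inf_le_right.trans (Subgroup.centralizer_le hQO)
    rw [hZEE, hZ1, Subgroup.card_bot] at hcard
    have hn0 : n ≠ 0 := by
      intro h0
      rw [h0, pow_zero] at hn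
      exact (Fintype.one_lt_card (α := F)).ne' hn
    exact (Nat.one_lt_pow hn0 (by norm_num)).ne hcard
  have hEZ0 : ∀ x ∈ E, ∀ o ∈ O, (∀ o' ∈ O, Commute o o') → x * o * x⁻¹ * o⁻¹ ∈ W := by
    intro x hx o ho hc
    refine hcoprime o (fun y hy => hQcent _ (hEO y hy o ho) fun o' ho' => ?_) x hx
    have h1 : Commute (y * o * y⁻¹) o' := by
      have h2 : y⁻¹ * o' * y ∈ O := by simpa using conj_mem' (inv_mem (hEOn hy)) ho'
      have h3 := (hc _ h2).eq
      show y * o * y⁻¹ * o' = o' * (y * o * y⁻¹)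
      calc y * o * y⁻¹ * o' = y * (o * (y⁻¹ * o' * y)) * y⁻¹ := by group
        _ = y * (y⁻¹ * o' * y * o) * y⁻¹ := by rw [h3]
        _ = o' * (y * o * y⁻¹) := by group
    exact h1.mul_left (hc o' ho').inv_left
  refine ⟨
    { E, Q, V, Z, W, O, e, ρ, ρ2, ψ, ψ2, hQE, hEQ, hQp, hVQ, hEV, hVab, hV3, hVcQ,
      hZV := inf_le_left, hZE,
      hZcard := by rw [hn, ← hcard, hZEE]
      hQQ := hQQ', hρ, hρ2, hρker, hρ2ker, hψ, hψker, hψeq, hψ2, hψ2ker, hψ2eq, he, he2,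
      hρe, hρ2e, hWV, hWsup, hWZ, hWe, hEW, hOp, hON,
      hOW := pCoreOf_le 3 N
      hOself := fun g hg => hOGO (hG (Subgroup.centralizer_le hOGO hg))
      hOmax := fun P hPN hP hNP => le_pCoreOf hPN hNP hP
      hQO, hVO, hQOV, hQcent, hEO, hEZ0 }, rfl, rfl, rfl, rfl, rfl, rfl⟩

end CfsgLib.BlockNorm
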