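import Cfsg.Agent.Lib.BlockNorm.Main
import Cfsg.Agent.Lib.BlockNorm.Cubic
import Cfsg.Agent.Lib.BlockNorm.Setup
import Cfsg.Agent.Lib.BlockNorm.Operator
import Cfsg.Agent.Lib.Solvable.CoprimeAction

/-!
# The exceptional block: `[C(W), e]` is a `3`-group
-/

set_option autoImplicit false
set_option linter.unusedSectionVars false
set_option linter.style.haveILetI false

open Matrix
open scoped MatrixGroups commutatorElement Pointwise

namespace CfsgLib.BlockNorm

/-- An automorphism of an abelian group as a linear map. -/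
noncomputable def toOp {A : Type*} [CommGroup A] (φ : MulAut A) : Op (Additive A) :=
  (MulEquiv.toAdditive φ).toIntLinearEquiv

namespace Model

variable {F : Type*} [Field F] [Fintype F] [CharP F 3] {M : Type*} [Group M] [Finite M]
  {ι : (Fin 2 → F) → M} {e : MulAut M} {K : Subgroup (MulAut M)}

/-- An automorphism of order `r` inverted by `e` is trivial, if its commutator with its conjugate
under a square root of `e` is central enough. -/
theorem eq_one_of_inverted (h : Model ι e K) (hM : IsPGroup 3 M) {i x : MulAut M} (hi : i * i = e)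
    (hfix : ∀ m, e m = m → i m = m) {r : ℕ} (hr : r.Prime) (hr5 : 5 ≤ r)
    (hx : e * x * e⁻¹ = x⁻¹) (hxr : x ^ r = 1)
    (hzx : Commute (x * (i * x * i⁻¹) * x⁻¹ * (i * x * i⁻¹)⁻¹) x)
    (hzy : Commute (x * (i * x * i⁻¹) * x⁻¹ * (i * x * i⁻¹)⁻¹) (i * x * i⁻¹))
    (hzr : (x * (i * x * i⁻¹) * x⁻¹ * (i * x * i⁻¹)⁻¹) ^ r = 1) : x = 1 := by
  classical
  have hee : ∀ m, e (e m) = m := by
    intro m
    obtain ⟨u, v, hv, rfl⟩ := h.decomp m
    rw [map_mul, h.e_apply, hv, map_mul, h.e_apply, hv, neg_neg]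
  -- the derived subgroup and the cubes are fixed by `e`
  set N1 : Subgroup M :=
    Subgroup.closure ({m | ∃ a, m = a ^ 3} ∪ {m | ∃ a b, m = a * b * a⁻¹ * b⁻¹}) with hN1
  have hu3 : ∀ u, (ι u) ^ 3 = 1 := fun u => by
    rw [pow_succ, pow_two, ← h.map_add, ← h.map_add, ← h.map_zero]
    congr 1
    ext k
    show u k + u k + u k = 0
    linear_combination u k * three_eq_zero (F := F)
  have hN1e : ∀ m ∈ N1, e m = m := by
    intro m hm
    let S : Subgroup M :=
      { carrier := {m | e m = m}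
        one_mem' := map_one e
        mul_mem' := fun {a b} ha hb => by
          show e (a * b) = a * b
          rw [map_mul, show e a = a from ha, show e b = b from hb]
        inv_mem' := fun {a} ha => by
          show e a⁻¹ = a⁻¹
          rw [map_inv, show e a = a from ha] }
    refine ((Subgroup.closure_le S).mpr ?_) hm
    rintro _ (⟨a, rfl⟩ | ⟨a, b, rfl⟩)
    · obtain ⟨u, v, hv, rfl⟩ := h.decomp a
      show e _ = _
      rw [(show Commute (ι u) v from h.central u v).mul_pow, hu3, one_mul, map_pow, hv]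
    · obtain ⟨u, v, hv, rfl⟩ := h.decomp a
      obtain ⟨u', v', hv', rfl⟩ := h.decomp b
      have e1 : ι u * v * (ι u' * v') * (ι u * v)⁻¹ * (ι u' * v')⁻¹ = v * v' * v⁻¹ * v'⁻¹ := by
        calc ι u * v * (ι u' * v') * (ι u * v)⁻¹ * (ι u' * v')⁻¹
            = ι u * (v * ι u') * v' * v⁻¹ * ((ι u)⁻¹ * (v'⁻¹ * (ι u')⁻¹)) := by group
          _ = ι u * (ι u' * v) * v' * v⁻¹ * (v'⁻¹ * (ι u')⁻¹ * (ι u)⁻¹) := by
              rw [← h.central u' v, (show Commute (ι u) (v'⁻¹ * (ι u')⁻¹) from h.central u _).inv_left.eq]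
          _ = (ι u * ι u') * (v * v' * v⁻¹ * v'⁻¹) * (ι u * ι u')⁻¹ := by group
          _ = v * v' * v⁻¹ * v'⁻¹ := by rw [← h.map_add, h.central, mul_inv_cancel_right]
      show e _ = _
      rw [e1, map_mul, map_mul, map_mul, map_inv, map_inv, hv, hv']
  haveI hchar : N1.Characteristic := Subgroup.characteristic_iff_map_le.mpr fun a => by
    rw [hN1, MonoidHom.map_closure, Subgroup.closure_le]
    rintro _ ⟨_, (⟨b, rfl⟩ | ⟨b, b', rfl⟩), rfl⟩
    · exact Subgroup.subset_closure (Or.inl ⟨a b, map_pow a b 3⟩)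
    · exact Subgroup.subset_closure (Or.inr ⟨a b, a b', by simp⟩)
  letI : CommGroup (M ⧸ N1) := { (inferInstance : Group (M ⧸ N1)) with
    mul_comm := fun a b => by
      induction a using QuotientGroup.induction_on with
      | H a =>
        induction b using QuotientGroup.induction_on with
        | H b =>
          rw [← QuotientGroup.mk_mul, ← QuotientGroup.mk_mul, QuotientGroup.eq]
          exact Subgroup.subset_closure (Or.inr ⟨b⁻¹, a⁻¹, by group⟩) }
  let T : MulAut M → Op (Additive (M ⧸ N1)) := fun a =>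
    toOp (QuotientGroup.congr N1 N1 a (Subgroup.characteristic_iff_map_eq.mp hchar a))
  have hT : ∀ (a : MulAut M) (m : M),
      T a (Additive.ofMul (m : M ⧸ N1)) = Additive.ofMul ((a m : M) : M ⧸ N1) := fun a m => rfl
  have hmk : ∀ v : Additive (M ⧸ N1), ∃ m : M, v = Additive.ofMul (m : M ⧸ N1) := fun v => by
    obtain ⟨m, hm⟩ := QuotientGroup.mk_surjective (Additive.toMul v)
    exact ⟨m, Additive.toMul.injective hm.symm⟩
  have hTmul : ∀ a b, T (a * b) = T a * T b := fun a b => LinearEquiv.ext fun v => by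
    obtain ⟨m, rfl⟩ := hmk v
    rw [LinearEquiv.mul_apply, hT, hT, hT, MulAut.mul_apply]
  have hT1 : T 1 = 1 := LinearEquiv.ext fun v => by
    obtain ⟨m, rfl⟩ := hmk v
    rw [hT]
    rfl
  have hTinv : ∀ a, T a⁻¹ = (T a)⁻¹ := fun a =>
    eq_inv_of_mul_eq_one_left (by rw [← hTmul, inv_mul_cancel, hT1])
  let Th : MulAut M →* Op (Additive (M ⧸ N1)) := { toFun := T, map_one' := hT1, map_mul' := hTmul }
  have he2 : e * e = 1 := MulEquiv.ext fun m => by rw [MulAut.mul_apply, hee]; rfl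
  have hop := CfsgLib.BlockNorm.eq_one_of_inverted (M := Additive (M ⧸ N1)) (fun v => by
      obtain ⟨m, rfl⟩ := hmk v
      rw [← ofMul_pow, ← QuotientGroup.mk_pow, (QuotientGroup.eq_one_iff (N := N1) (m ^ 3)).mpr
        (Subgroup.subset_closure (Or.inl ⟨m, rfl⟩))]
      rfl)
    hr hr5 (e := Th e) (i := Th i)
    (by rw [← map_mul, he2, map_one]) (by rw [← map_mul, hi])
    (fun v hv => by
      obtain ⟨m, rfl⟩ := hmk v
      obtain ⟨u, w, hw, rfl⟩ := h.decomp m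
      change Additive.ofMul ((e (ι u * w) : M) : M ⧸ N1) = _ at hv
      have h1 := (QuotientGroup.eq (s := N1)).mp (Additive.ofMul.injective hv).symm
      rw [map_mul, h.e_apply, hw, show (ι u * w)⁻¹ * (ι (-u) * w) = w⁻¹ * ((ι u)⁻¹ * ι (-u)) * w by
        group, ← h.map_neg, ← h.map_add, show w⁻¹ * ι (-u + -u) * w = ι (-u + -u) by
        rw [mul_assoc, h.central, inv_mul_cancel_left]] at h1
      have h2 := h.eq_one_of_fixed (hN1e _ h1)
      rw [h.map_add] at h2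
      have h3 := h.eq_one_of_sq h2
      rw [h.map_neg, inv_eq_one] at h3
      change Additive.ofMul ((i (ι u * w) : M) : M ⧸ N1) = _
      rw [h3, one_mul, hfix w hw])
    (x := Th x) (by rw [← map_inv, ← map_mul, ← map_mul, hx, map_inv]) (by rw [← map_pow, hxr, map_one])
    (by simp only [← map_inv, ← map_mul]; exact hzx.map Th)
    (by simp only [← map_inv, ← map_mul]; exact hzy.map Th)
    (by simp only [← map_inv, ← map_mul, ← map_pow, hzr, map_one])
  have hxN : ∀ n ∈ N1, x n = n := by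
    intro n hn
    have h1 : x n ∈ N1 := Subgroup.characteristic_iff_map_le.mp hchar x ⟨n, hn, rfl⟩
    have h2 : e (x n) = x⁻¹ n := by
      have : (e * x) n = (x⁻¹ * e) n := by rw [← hx, inv_mul_cancel_right]
      rw [MulAut.mul_apply, MulAut.mul_apply, hN1e n hn] at this
      exact this
    rw [hN1e _ h1] at h2
    have h3 : (x ^ 2) n = n := by rw [pow_two, MulAut.mul_apply, h2, MulAut.apply_inv_self]
    have h4 : ∀ k : ℕ, (x ^ (2 * k)) n = n := by
      intro k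
      induction k with
      | zero => rfl
      | succ k ih => rw [Nat.mul_succ, pow_add, MulAut.mul_apply, h3, ih]
    obtain ⟨k, hk⟩ := hr.odd_of_ne_two (by omega)
    have h5 := h4 (k + 1)
    rw [show 2 * (k + 1) = r + 1 by omega, pow_add, hxr, one_mul, pow_one] at h5
    exact h5
  refine MulEquiv.ext fun m => ?_
  set d := x m * m⁻¹ with hd
  have hdN : d ∈ N1 := by
    have h1 := LinearEquiv.congr_fun hop (Additive.ofMul (m : M ⧸ N1))
    change Additive.ofMul ((x m : M) : M ⧸ N1) = Additive.ofMul (m : M ⧸ N1) at h1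
    have h2 := Additive.ofMul.injective h1
    rw [hd, ← QuotientGroup.eq_one_iff, QuotientGroup.mk_mul, QuotientGroup.mk_inv, h2, mul_inv_cancel]
  have hk : ∀ k : ℕ, (x ^ k) m = d ^ k * m := by
    intro k
    induction k with
    | zero => simp
    | succ k ih =>
      rw [pow_succ', MulAut.mul_apply, ih, map_mul, map_pow, hxN d hdN, pow_succ, mul_assoc, hd]
      group
  have h1 := hk r
  rw [hxr, MulAut.one_apply, eq_comm, mul_eq_right] at h1
  obtain ⟨j, hj⟩ := hM d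
  have h2 : d = 1 := orderOf_eq_one_iff.mp (Nat.eq_one_of_dvd_coprimes
    (((Nat.coprime_primes hr Nat.prime_three).mpr (by omega)).pow_right j)
    (orderOf_dvd_of_pow_eq_one h1) (orderOf_dvd_of_pow_eq_one hj))
  exact mul_inv_eq_one.mp h2

end Model

namespace Ctx

variable {G : Type*} [Group G] [Finite G] {F : Type*} [Field F] [Fintype F] [CharP F 3]
  (c : Ctx G F)

theorem D_le_X : c.D ≤ c.X := inf_le_right.trans (Subgroup.map_subtype_le _)

theorem exists_Q_conj {x : G} (hx : x ∈ c.E) : ∃ s ∈ c.Q, x * c.e * x⁻¹ = s * c.e * s⁻¹ := by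
  have hee := c.he2
  set q := x * c.e * x⁻¹ * c.e⁻¹ with hqd
  have hq : q ∈ c.Q := c.comm_e_mem hx
  have heq : c.e * q * c.e⁻¹ = q⁻¹ := by
    rw [hqd, c.e_inv, show c.e * (x * c.e * x⁻¹ * c.e) * c.e =
      c.e * x * c.e * x⁻¹ * (c.e * c.e) by group, hee, mul_one, _root_.mul_inv_rev,
      c.e_inv, _root_.mul_inv_rev, inv_inv, _root_.mul_inv_rev, c.e_inv]
    group
  obtain ⟨n, hn⟩ := c.hQp ⟨q, hq⟩
  obtain ⟨m, hm⟩ := exists_pow_eq_self_of_coprime (x := q) (n := 2)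
    (((by norm_num : Nat.Coprime 2 3).pow_right n).coprime_dvd_right
      (orderOf_dvd_of_pow_eq_one (congrArg Subtype.val hn)))
  refine ⟨q ^ m, pow_mem hq m, ?_⟩
  have h1 : c.e * q ^ m * c.e⁻¹ = (q ^ m)⁻¹ := by rw [← conj_pow, heq, inv_pow]
  have h2 : c.e * (q ^ m)⁻¹ * c.e⁻¹ = q ^ m := by
    rw [show c.e * (q ^ m)⁻¹ * c.e⁻¹ = (c.e * q ^ m * c.e⁻¹)⁻¹ by group, h1, inv_inv]
  calc x * c.e * x⁻¹ = q * c.e := by rw [hqd]; group
    _ = q ^ m * q ^ m * c.e := by rw [← pow_add, ← two_mul, pow_mul, hm]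
    _ = q ^ m * (c.e * (q ^ m)⁻¹ * c.e⁻¹) * c.e := by rw [h2]
    _ = _ := by group

theorem act_commute {a b : G} (ha : a ∈ c.NO) (hb : b ∈ c.NO) (h : Commute a b) :
    Commute (c.act a) (c.act b) := by
  rw [commute_iff_eq, ← c.act_mul ha hb, h.eq, c.act_mul hb ha]

/-- An `e`-invariant Sylow `r`-subgroup of `D` is invariant under a square root of `e`. -/
theorem exists_invariant_sqrt [Fact (Nat.Prime 3)] (hb : c.HasCubic) {r : ℕ} [Fact r.Prime]
    (R : Sylow r ↥c.D)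
    (hR : Subgroup.zpowers c.e ≤ Subgroup.normalizer ((R : Subgroup ↥c.D).map c.D.subtype : Set G)) :
    ∃ i : G, i ∈ c.NO ∧ i ∈ Subgroup.normalizer ((R : Subgroup ↥c.D).map c.D.subtype : Set G) ∧
      Commute i c.e ∧ c.act i * c.act i = c.act c.e ∧
      ∀ m, c.act c.e m = m → c.act i m = m := by
  classical
  obtain ⟨w, hw, hw2⟩ := exists_sqrt_neg_one (F := F)
  rw [← c.hρ] at hw
  obtain ⟨⟨x0, hx0⟩, hρx0⟩ := hw
  obtain ⟨s, hs, hse⟩ := c.exists_Q_conj hx0
  set i0 := s⁻¹ * x0 with hi0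
  have hi0E : i0 ∈ c.E := mul_mem (inv_mem (c.hQE hs)) hx0
  have hi0e : i0 * c.e * i0⁻¹ = c.e := by
    rw [hi0, show s⁻¹ * x0 * c.e * (s⁻¹ * x0)⁻¹ = s⁻¹ * (x0 * c.e * x0⁻¹) * s by group, hse]
    group
  have hi0O := c.E_le_NO hi0E
  have heO := c.E_le_NO c.he
  have hi02 : c.act i0 * c.act i0 = c.act c.e := by
    have h1 : c.ρ ⟨i0, hi0E⟩ = w := by
      rw [show (⟨i0, hi0E⟩ : ↥c.E) = (⟨s, c.hQE hs⟩ : ↥c.E)⁻¹ * ⟨x0, hx0⟩ from rfl, map_mul,
        map_inv, (c.hρker ⟨s, c.hQE hs⟩).mpr hs, hρx0, inv_one, one_mul]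
    have h2 : (i0 * i0) * c.e⁻¹ ∈ c.Q := by
      refine (c.hρker ⟨_, mul_mem (mul_mem hi0E hi0E) (inv_mem c.he)⟩).mp ?_
      rw [show (⟨_, mul_mem (mul_mem hi0E hi0E) (inv_mem c.he)⟩ : ↥c.E) =
        ⟨i0, hi0E⟩ * ⟨i0, hi0E⟩ * (⟨c.e, c.he⟩ : ↥c.E)⁻¹ from rfl, map_mul, map_mul, map_inv, h1,
        hw2, c.hρe, mul_inv_cancel]
    have h3 := c.act_Q h2
    rwa [c.act_mul (mul_mem hi0O hi0O) (inv_mem heO), c.act_mul hi0O hi0O, c.act_inv heO,
      mul_inv_eq_one] at h3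
  set A := Subgroup.zpowers c.e with hA
  have hAD : A ≤ Subgroup.normalizer (c.D : Set G) :=
    Subgroup.zpowers_le.mpr (c.EC_le_normalizer_D (Subgroup.mem_sup_left c.he))
  have hcop : (Nat.card A).Coprime (Nat.card ↥c.D) := by
    rw [hA, Nat.card_zpowers, c.orderOf_e]
    exact Nat.coprime_two_left.mpr c.D_odd
  let φ : MulAut ↥c.D := c.D.normalizerMonoidHom ⟨i0, c.EC_le_normalizer_D (Subgroup.mem_sup_left hi0E)⟩
  have hRm : ((φ • R : Sylow r ↥c.D) : Subgroup ↥c.D).map c.D.subtype =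
      ((R : Subgroup ↥c.D).map c.D.subtype).map (MulAut.conj i0).toMonoidHom := by
    show ((R : Subgroup ↥c.D).map φ.toMonoidHom).map c.D.subtype = _
    rw [Subgroup.map_map, Subgroup.map_map]
    rfl
  obtain ⟨d, hd, hdR⟩ := CfsgLib.Solvable.exists_invariant_sylow_conj hAD hcop
    (Or.inl inferInstance) R (φ • R) hR (by
      rw [hRm]
      refine Subgroup.zpowers_le.mpr (CfsgLib.LocalEven.BBlock.mem_normalizer_of_le ?_)
      rintro _ ⟨y, hy, rfl⟩
      refine ⟨c.e * y * c.e⁻¹, conj_mem' (hR (Subgroup.mem_zpowers c.e)) hy, ?_⟩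
      simp only [MulEquiv.coe_toMonoidHom, MulAut.conj_apply]
      calc i0 * (c.e * y * c.e⁻¹) * i0⁻¹ = (i0 * c.e * i0⁻¹) * (i0 * y * i0⁻¹) * (i0 * c.e * i0⁻¹)⁻¹ := by
            group
        _ = c.e * (i0 * y * i0⁻¹) * c.e⁻¹ := by rw [hi0e])
  have hde : Commute (d : G) c.e := (hd c.e (Subgroup.mem_zpowers _)).symm
  have hdC : (d : G) ∈ c.C := d.2.1
  have hdO := c.hON (c.C_le_NW hdC)
  set i1 := (d : G)⁻¹ * i0 with hi1
  have hi1O : i1 ∈ c.NO := mul_mem (inv_mem hdO) hi0O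
  have hi1R : i1 ∈ Subgroup.normalizer ((R : Subgroup ↥c.D).map c.D.subtype : Set G) := by
    refine CfsgLib.LocalEven.BBlock.mem_normalizer_of_le fun y hy => ?_
    have h1 : i0 * y * i0⁻¹ ∈ ((φ • R : Sylow r ↥c.D) : Subgroup ↥c.D).map c.D.subtype := by
      rw [hRm]
      exact ⟨y, hy, rfl⟩
    rw [← hdR] at h1
    obtain ⟨z, hz, hzy⟩ := h1
    change z ∈ (MulAut.conj d • (R : Subgroup ↥c.D) : Subgroup ↥c.D) at hz
    rw [Subgroup.pointwise_smul_def] at hz
    obtain ⟨z', hz', rfl⟩ := hz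
    refine ⟨z', hz', ?_⟩
    show (z' : G) = i1 * y * i1⁻¹
    have hzy' : (d : G) * z' * (d : G)⁻¹ = i0 * y * i0⁻¹ := hzy
    rw [hi1, show (d : G)⁻¹ * i0 * y * ((d : G)⁻¹ * i0)⁻¹ = (d : G)⁻¹ * (i0 * y * i0⁻¹) * d by group,
      ← hzy']
    group
  have hi1e : Commute i1 c.e := hde.inv_left.mul_left (mul_inv_eq_iff_eq_mul.mp hi0e)
  have hdc : Commute (c.act (d : G)) (c.act i0) :=
    (c.comm_star hb hdC (c.act_commute hdO heO hde) hi0E).1
  set n := orderOf (d : G) with hn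
  have hnodd : Odd n := c.D_odd.of_dvd_nat (by
    rw [hn, Subgroup.orderOf_coe]; exact orderOf_dvd_natCard d)
  refine ⟨i1 ^ n, pow_mem hi1O n, pow_mem hi1R n, hi1e.pow_left n, ?_⟩
  have hact : c.act (i1 ^ n) = c.act (i0 ^ n) := by
    rw [c.act_pow hi1O, hi1, c.act_mul (inv_mem hdO) hi0O, c.act_inv hdO, hdc.inv_left.mul_pow,
      inv_pow, ← c.act_pow hdO, hn, pow_orderOf_eq_one, c.act_one, inv_one, one_mul, ← c.act_pow hi0O]
  refine ⟨?_, fun m hm => c.model.fix _ (hact ▸ c.act_mem_image (pow_mem hi0E n)) m hm⟩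
  rw [hact, c.act_pow hi0O, ← pow_add, ← two_mul, pow_mul, pow_two, hi02]
  obtain ⟨k, hk⟩ := hnodd
  rw [hk, pow_succ, pow_mul, pow_two, ← c.act_mul heO heO, c.he2, c.act_one, one_pow, one_mul]

/-- An `e`-invariant subgroup of `D` of prime power order prime to three is centralized by `e`. -/
theorem centralized_of_invariant [Fact (Nat.Prime 3)] (hb : c.HasCubic) {r : ℕ} [Fact r.Prime]
    (hr3 : r ≠ 3) (R : Sylow r ↥c.D)
    (hR : Subgroup.zpowers c.e ≤ Subgroup.normalizer ((R : Subgroup ↥c.D).map c.D.subtype : Set G)) :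
    (R : Subgroup ↥c.D).map c.D.subtype ≤ Subgroup.centralizer ({c.e} : Set G) := by
  classical
  set P := (R : Subgroup ↥c.D).map c.D.subtype with hP
  have hPD : P ≤ c.D := Subgroup.map_subtype_le _
  have hPp : IsPGroup r ↥P := R.2.map _
  rcases eq_or_ne P ⊥ with hbot | hPne
  · rw [hbot]; exact bot_le
  have hr : r.Prime := Fact.out
  have hrodd : r ≠ 2 := by
    rintro rfl
    obtain ⟨k, hk⟩ := hPp.exists_card_eq
    have h1 : Odd (Nat.card ↥P) := c.D_odd.of_dvd_nat (Subgroup.card_dvd_of_le hPD)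
    rw [hk] at h1
    rcases k with _ | k
    · exact hPne (Subgroup.card_eq_one.mp (by rw [hk, pow_zero]))
    · simp [Nat.odd_pow_iff] at h1
      exact absurd h1 (by decide)
  have hr5 : 5 ≤ r := by
    have h2 := hr.two_le
    have h4 : r ≠ 4 := by rintro rfl; exact absurd hr (by norm_num)
    omega
  obtain ⟨i, hiO, hiP, hie, hii, hifix⟩ := c.exists_invariant_sqrt hb R hR
  have heO := c.E_le_NO c.he
  have hoddP : ∀ x ∈ P, Odd (orderOf x) := fun x hx => c.D_odd.of_dvd_nat (by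
    rw [← Subgroup.orderOf_mk x (hPD hx)]; exact orderOf_dvd_natCard _)
  suffices key : ∀ m, ∀ S : Subgroup G, Nat.card ↥S ≤ m → S ≤ P →
      c.e ∈ Subgroup.normalizer (S : Set G) → i ∈ Subgroup.normalizer (S : Set G) →
      S ≤ Subgroup.centralizer ({c.e} : Set G) from
    key _ P le_rfl le_rfl (hR (Subgroup.mem_zpowers _)) hiP
  intro m
  induction m using Nat.strong_induction_on with
  | _ m ih =>
    intro S hm hSP heS hiS
    rcases eq_or_ne S ⊥ with hS0 | hS0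
    · rw [hS0]; exact bot_le
    have hSlt : ⁅S, S⁆ < S := lt_of_le_of_ne
      (CfsgLib.LocalEven.BBlock.commutator_le_of_le_normalizer Subgroup.le_normalizer)
      fun h => hS0 (CfsgLib.PLocal.eq_bot_of_commutator_eq_self_pgroup (hPp.to_le hSP) (hPp.to_le hSP)
        Subgroup.le_normalizer h)
    have hcardlt : Nat.card ↥⁅S, S⁆ < Nat.card ↥S := by
      by_contra! h
      exact hSlt.ne (Subgroup.eq_of_le_of_card_ge hSlt.le h)
    have hS' : ⁅S, S⁆ ≤ Subgroup.centralizer ({c.e} : Set G) :=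
      ih _ (hcardlt.trans_le hm) _ le_rfl (hSlt.le.trans hSP) (conj_mem_commutator heS heS)
        (conj_mem_commutator hiS hiS)
    have hfixS : ∀ s ∈ ⁅S, S⁆, c.e * s * c.e⁻¹ = s := fun s hs => by
      rw [← Subgroup.mem_centralizer_singleton_iff.mp (hS' hs), mul_inv_cancel_right]
    -- inverted elements centralize the derived subgroup
    have hcent : ∀ x ∈ S, c.e * x * c.e⁻¹ = x⁻¹ → ∀ s ∈ ⁅S, S⁆, Commute x s := by
      intro x hx hxe s hs
      have h1 : x * s * x⁻¹ ∈ ⁅S, S⁆ := conj_mem' (conj_mem_commutator (Subgroup.le_normalizer hx)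
        (Subgroup.le_normalizer hx)) hs
      have h2 := hfixS _ h1
      rw [show c.e * (x * s * x⁻¹) * c.e⁻¹ =
        (c.e * x * c.e⁻¹) * (c.e * s * c.e⁻¹) * (c.e * x * c.e⁻¹)⁻¹ by group, hxe, hfixS s hs,
        inv_inv] at h2
      have h3 : Commute (x ^ 2) s := by
        show x ^ 2 * s = s * x ^ 2
        calc x ^ 2 * s = x * (x * s * x⁻¹) * x := by rw [pow_two]; group
          _ = x * (x⁻¹ * s * x) * x := by rw [h2]
          _ = s * x ^ 2 := by rw [pow_two]; group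
      obtain ⟨k, hk⟩ := exists_pow_eq_self_of_coprime (x := x) (n := 2)
        (Nat.coprime_two_left.mpr (hoddP x (hSP hx)))
      rw [← hk]
      exact h3.pow_left k
    have hinv : ∀ x ∈ S, c.e * x * c.e⁻¹ = x⁻¹ → x = 1 := by
      -- elements of order `r`
      have hord : ∀ x ∈ S, c.e * x * c.e⁻¹ = x⁻¹ → x ^ r = 1 → x = 1 := by
        intro x hx hxe hxr
        set y := i * x * i⁻¹ with hy
        have hyS : y ∈ S := conj_mem' hiS hx
        have hye : c.e * y * c.e⁻¹ = y⁻¹ := by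
          rw [hy, show c.e * (i * x * i⁻¹) * c.e⁻¹ = (c.e * i) * x * (c.e * i)⁻¹ by group,
            ← hie.eq, show i * c.e * x * (i * c.e)⁻¹ = i * (c.e * x * c.e⁻¹) * i⁻¹ by group, hxe]
          group
        set z := x * y * x⁻¹ * y⁻¹ with hz
        have hzS : z ∈ ⁅S, S⁆ := by
          have := Subgroup.commutator_mem_commutator hx hyS
          rwa [commutatorElement_def] at this
        have hxz := hcent x hx hxe z hzS
        have hyz := hcent y hyS hye z hzS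
        have hzr : z ^ r = 1 := by
          have key : ∀ k : ℕ, x ^ k * y * (x ^ k)⁻¹ = z ^ k * y := by
            intro k
            induction k with
            | zero => simp
            | succ k ih =>
              calc x ^ (k + 1) * y * (x ^ (k + 1))⁻¹ = x * (x ^ k * y * (x ^ k)⁻¹) * x⁻¹ := by
                    rw [pow_succ']; group
                _ = z ^ k * (x * y * x⁻¹) := by rw [ih, ← mul_assoc, (hxz.pow_right k).eq]; group
                _ = z ^ (k + 1) * y := by rw [pow_succ, hz]; group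
          have h1 := key r
          rwa [hxr, one_mul, inv_one, mul_one, eq_comm, mul_eq_right] at h1
        have hxD : x ∈ c.D := hPD (hSP hx)
        have hxO : x ∈ c.NO := c.hON (c.C_le_NW hxD.1)
        have hyO : y ∈ c.NO := mul_mem (mul_mem hiO hxO) (inv_mem hiO)
        have hzO : z ∈ c.NO := mul_mem (mul_mem (mul_mem hxO hyO) (inv_mem hxO)) (inv_mem hyO)
        have hya : c.act y = c.act i * c.act x * (c.act i)⁻¹ := c.act_conj hiO hxO
        have hza : c.act z = c.act x * (c.act i * c.act x * (c.act i)⁻¹) * (c.act x)⁻¹ *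
            (c.act i * c.act x * (c.act i)⁻¹)⁻¹ := by
          rw [hz, c.act_mul (mul_mem (mul_mem hxO hyO) (inv_mem hxO)) (inv_mem hyO),
            c.act_conj hxO hyO, c.act_inv hyO, hya]
        have hxa : c.act x = 1 := by
          refine c.model.eq_one_of_inverted (c.hOp.to_quotient _) hii hifix hr hr5 ?_ ?_ ?_ ?_ ?_
          · rw [← c.act_conj heO hxO, hxe, c.act_inv hxO]
          · rw [← c.act_pow hxO, hxr, c.act_one]
          · rw [← hza]; exact c.act_commute hzO hxO hxz.symm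
          · rw [← hza, ← hya]; exact c.act_commute hzO hyO hyz.symm
          · rw [← hza, ← c.act_pow hzO, hzr, c.act_one]
        have hxK : x ∈ c.Kst := ⟨(c.D_le_X hxD).2, hxD.1, hxa⟩
        obtain ⟨k, hk⟩ := c.Kst_isPGroup ⟨x, hxK⟩
        exact orderOf_eq_one_iff.mp (Nat.eq_one_of_dvd_coprimes
          (((Nat.coprime_primes hr Nat.prime_three).mpr hr3).pow_right k)
          (orderOf_dvd_of_pow_eq_one hxr) (orderOf_dvd_of_pow_eq_one (congrArg Subtype.val hk)))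
      intro x hx hxe
      obtain ⟨k, hk⟩ := hPp ⟨x, hSP hx⟩
      have hk' : x ^ r ^ k = 1 := congrArg Subtype.val hk
      clear hk
      induction k with
      | zero => simpa using hk'
      | succ k ihk =>
        refine ihk (hord _ (pow_mem hx _) ?_ ?_)
        · rw [← conj_pow, hxe, inv_pow]
        · rw [← pow_mul, ← pow_succ, hk']
    intro s hs
    refine Subgroup.mem_centralizer_singleton_iff.mpr ?_
    have hu : s * (c.e * s⁻¹ * c.e⁻¹) = 1 := by
      refine hinv _ (mul_mem hs (conj_mem' heS (inv_mem hs))) ?_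
      rw [c.e_inv]
      calc c.e * (s * (c.e * s⁻¹ * c.e)) * c.e = c.e * s * c.e * s⁻¹ * (c.e * c.e) := by group
        _ = c.e⁻¹ * s * c.e⁻¹ * s⁻¹ := by rw [c.he2, mul_one, c.e_inv]
        _ = (s * (c.e * s⁻¹ * c.e))⁻¹ := by group
    exact mul_inv_eq_iff_eq_mul.mp (mul_inv_eq_one.mp (show s * c.e * s⁻¹ * c.e⁻¹ = 1 by
      rw [← hu]; group))

/-- `D` is a `3`-group times the centralizer of the involution. -/
theorem exists_three_group [Fact (Nat.Prime 3)] (hb : c.HasCubic) :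
    ∃ P : Subgroup G, P ≤ c.D ∧ IsPGroup 3 ↥P ∧ ∀ d ∈ c.D, d * c.e * d⁻¹ * c.e ∈ P := by
  classical
  set A := Subgroup.zpowers c.e with hA
  have hAD : A ≤ Subgroup.normalizer (c.D : Set G) :=
    Subgroup.zpowers_le.mpr (c.EC_le_normalizer_D (Subgroup.mem_sup_left c.he))
  have hcop : (Nat.card A).Coprime (Nat.card ↥c.D) := by
    rw [hA, Nat.card_zpowers, c.orderOf_e]
    exact Nat.coprime_two_left.mpr c.D_odd
  set D1 : Subgroup ↥c.D := (Subgroup.centralizer ({c.e} : Set G)).subgroupOf c.D with hD1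
  obtain ⟨R, hR⟩ := CfsgLib.Solvable.exists_invariant_sylow hAD hcop (Or.inl inferInstance) 3
  have hidx : ∀ q : ℕ, q.Prime → q ∣ D1.index → q = 3 := by
    intro q hq hdvd
    by_contra hq3
    haveI : Fact q.Prime := ⟨hq⟩
    obtain ⟨S, hS⟩ := CfsgLib.Solvable.exists_invariant_sylow hAD hcop (Or.inl inferInstance) q
    have hle := c.centralized_of_invariant hb hq3 S hS
    exact S.not_dvd_index (hdvd.trans (Subgroup.index_dvd_of_le fun y hy =>
      Subgroup.mem_subgroupOf.mpr (hle ⟨y, hy, rfl⟩)))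
  have hcopi : D1.index.Coprime (R : Subgroup ↥c.D).index := by
    refine Nat.coprime_of_dvd fun q hq h1 h2 => ?_
    rw [hidx q hq h1] at h2
    exact R.not_dvd_index h2
  refine ⟨(R : Subgroup ↥c.D).map c.D.subtype, Subgroup.map_subtype_le _, R.2.map _, fun d hd => ?_⟩
  -- `D = R D1`
  let f : ↥(R : Subgroup ↥c.D) → ↥c.D ⧸ D1 := fun y => ((y : ↥c.D) : ↥c.D ⧸ D1)
  have hsurj : Function.Surjective f := by
    haveI : MulAction.IsPretransitive ↥(R : Subgroup ↥c.D) (MulAction.orbit ↥(R : Subgroup ↥c.D) ((1 : ↥c.D) : ↥c.D ⧸ D1)) :=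
      inferInstance
    set St := MulAction.stabilizer ↥(R : Subgroup ↥c.D) ((1 : ↥c.D) : ↥c.D ⧸ D1) with hSt
    have hSteq : St = D1.subgroupOf (R : Subgroup ↥c.D) := by
      ext y
      rw [hSt, MulAction.mem_stabilizer_iff, Subgroup.mem_subgroupOf]
      show (((y : ↥c.D) * 1 : ↥c.D) : ↥c.D ⧸ D1) = _ ↔ _
      rw [mul_one, QuotientGroup.eq, mul_one, inv_mem_iff]
    have horb := MulAction.index_stabilizer ↥(R : Subgroup ↥c.D) ((1 : ↥c.D) : ↥c.D ⧸ D1)
    rw [← hSt, hSteq] at horb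
    have hrel : (D1.subgroupOf (R : Subgroup ↥c.D)).index * (R : Subgroup ↥c.D).index =
        (D1 ⊓ (R : Subgroup ↥c.D)).index := by
      rw [← Subgroup.relIndex_mul_index (inf_le_right : D1 ⊓ (R : Subgroup ↥c.D) ≤ R),
        Subgroup.inf_relIndex_right]
      rfl
    have hdvd : D1.index * (R : Subgroup ↥c.D).index ∣
        (D1.subgroupOf (R : Subgroup ↥c.D)).index * (R : Subgroup ↥c.D).index := by
      rw [hrel]
      exact hcopi.mul_dvd_of_dvd_of_dvd (Subgroup.index_dvd_of_le inf_le_left)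
        (Subgroup.index_dvd_of_le inf_le_right)
    have hge : D1.index ≤ (MulAction.orbit ↥(R : Subgroup ↥c.D) ((1 : ↥c.D) : ↥c.D ⧸ D1)).ncard := by
      rw [← horb]
      exact Nat.le_of_dvd (Nat.pos_of_ne_zero Subgroup.index_ne_zero_of_finite)
        (Nat.dvd_of_mul_dvd_mul_right (Nat.pos_of_ne_zero Subgroup.index_ne_zero_of_finite) hdvd)
    have huniv : MulAction.orbit ↥(R : Subgroup ↥c.D) ((1 : ↥c.D) : ↥c.D ⧸ D1) = Set.univ :=
      Set.eq_univ_of_univ_subset ((Set.eq_of_subset_of_ncard_le (Set.subset_univ _)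
        (by rwa [Set.ncard_univ, ← Subgroup.index_eq_card]) Set.finite_univ).ge)
    intro z
    obtain ⟨y, hy⟩ := huniv.ge (Set.mem_univ z)
    refine ⟨y, hy ▸ ?_⟩
    show ((y : ↥c.D) : ↥c.D ⧸ D1) = (((y : ↥c.D) * 1 : ↥c.D) : ↥c.D ⧸ D1)
    rw [mul_one]
  obtain ⟨y, hy⟩ := hsurj ((⟨d, hd⟩ : ↥c.D) : ↥c.D ⧸ D1)
  have h1 := QuotientGroup.eq.mp hy
  have h2 : ((y : ↥c.D) : G)⁻¹ * d * c.e = c.e * (((y : ↥c.D) : G)⁻¹ * d) :=
    Subgroup.mem_centralizer_singleton_iff.mp h1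
  have h3 : d * c.e * d⁻¹ = ((y : ↥c.D) : G) * c.e * ((y : ↥c.D) : G)⁻¹ := by
    calc d * c.e * d⁻¹ = ((y : ↥c.D) : G) * (((y : ↥c.D) : G)⁻¹ * d * c.e) * d⁻¹ := by group
      _ = ((y : ↥c.D) : G) * (c.e * (((y : ↥c.D) : G)⁻¹ * d)) * d⁻¹ := by rw [h2]
      _ = _ := by group
  rw [h3, mul_assoc, mul_assoc]
  refine mul_mem ⟨y, y.2, rfl⟩ ?_
  rw [← mul_assoc]
  conv_lhs => skip
  have h4 := conj_mem' (hR (Subgroup.mem_zpowers c.e))
    (inv_mem (⟨y, y.2, rfl⟩ : ((y : ↥c.D) : G) ∈ (R : Subgroup ↥c.D).map c.D.subtype))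
  rwa [c.e_inv] at h4

/-- `[C(W), E]` lies in a `3`-subgroup of `C(W)` normalized by `C(W)`. -/
theorem exists_commutator_pgroup [Fact (Nat.Prime 3)] (hb : c.HasCubic) :
    ∃ P : Subgroup G, P ≤ c.C ∧ IsPGroup 3 ↥P ∧ c.C ≤ Subgroup.normalizer (P : Set G) ∧
      ∀ x ∈ c.E, ∀ l ∈ c.C, l * x * l⁻¹ * x⁻¹ ∈ P := by
  classical
  obtain ⟨P, hPD, hPp, hP⟩ := c.exists_three_group hb
  have hsq : ∀ a ∈ c.C, ∃ s, s ∈ Subgroup.zpowers (a * c.e * a⁻¹ * c.e) ∧ s ∈ c.D ∧
      s * s = a * c.e * a⁻¹ * c.e ∧ c.e * s * c.e⁻¹ = s⁻¹ ∧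
      s * c.e * s⁻¹ * c.e = a * c.e * a⁻¹ * c.e := by
    intro a ha
    have hu := c.conj_e_mul_e_mem_D hb ha
    set u := a * c.e * a⁻¹ * c.e with hu'
    have hodd : Odd (orderOf u) := c.D_odd.of_dvd_nat (by
      rw [← Subgroup.orderOf_mk u hu]; exact orderOf_dvd_natCard _)
    obtain ⟨m, hm⟩ := exists_pow_eq_self_of_coprime (x := u) (n := 2)
      (Nat.coprime_two_left.mpr hodd)
    have heu : c.e * u * c.e⁻¹ = u⁻¹ := by
      rw [hu', c.e_inv]
      calc c.e * (a * c.e * a⁻¹ * c.e) * c.e = c.e * a * c.e * a⁻¹ * (c.e * c.e) := by group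
        _ = c.e⁻¹ * a * c.e⁻¹ * a⁻¹ := by rw [c.he2, mul_one, c.e_inv]
        _ = _ := by group
    have hes : c.e * u ^ m * c.e⁻¹ = (u ^ m)⁻¹ := by rw [← conj_pow, heu, inv_pow]
    refine ⟨u ^ m, ⟨m, zpow_natCast u m⟩, pow_mem hu m, ?_, hes, ?_⟩
    · rw [← pow_add, ← two_mul, pow_mul, hm]
    · calc u ^ m * c.e * (u ^ m)⁻¹ * c.e = u ^ m * (c.e * (u ^ m)⁻¹ * c.e⁻¹) * (c.e * c.e) := by group
        _ = u ^ m * u ^ m := by
            rw [show c.e * (u ^ m)⁻¹ * c.e⁻¹ = (c.e * u ^ m * c.e⁻¹)⁻¹ by group, hes, inv_inv,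
              c.he2, mul_one]
        _ = u := by rw [← pow_add, ← two_mul, pow_mul, hm]
  set K2 := Subgroup.closure {u | ∃ a ∈ c.C, u = a * c.e * a⁻¹ * c.e} with hK2
  have hgen : ∀ a ∈ c.C, a * c.e * a⁻¹ * c.e ∈ K2 := fun a ha => Subgroup.subset_closure ⟨a, ha, rfl⟩
  have hK2P : K2 ≤ P := (Subgroup.closure_le P).mpr (by
    rintro _ ⟨a, ha, rfl⟩
    obtain ⟨s, -, hs, -, -, hs2⟩ := hsq a ha
    rw [← hs2]
    exact hP s hs)
  have hCK2 : ∀ l ∈ c.C, ∀ y ∈ K2, l * y * l⁻¹ ∈ K2 := by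
    intro l hl
    refine fun y hy => (?_ : K2 ≤ K2.comap (MulAut.conj l).toMonoidHom) hy
    conv_lhs => rw [hK2]
    refine (Subgroup.closure_le _).mpr ?_
    rintro _ ⟨a, ha, rfl⟩
    show l * (a * c.e * a⁻¹ * c.e) * l⁻¹ ∈ K2
    have e : l * (a * c.e * a⁻¹ * c.e⁻¹) * l⁻¹ =
        (l * a * c.e * (l * a)⁻¹ * c.e) * (l * c.e * l⁻¹ * c.e)⁻¹ := by group
    rw [c.e_inv] at e
    rw [e]
    exact mul_mem (hgen _ (mul_mem hl ha)) (inv_mem (hgen _ hl))
  have hEK2 : ∀ x ∈ c.E, ∀ y ∈ K2, x * y * x⁻¹ ∈ K2 := by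
    intro x hx
    refine fun y hy => (?_ : K2 ≤ K2.comap (MulAut.conj x).toMonoidHom) hy
    conv_lhs => rw [hK2]
    refine (Subgroup.closure_le _).mpr ?_
    rintro _ ⟨a, ha, rfl⟩
    show x * (a * c.e * a⁻¹ * c.e) * x⁻¹ ∈ K2
    obtain ⟨q, hq, hqe⟩ := c.exists_Q_conj hx
    have e : x * (a * c.e * a⁻¹ * c.e) * x⁻¹ =
        (x * a * x⁻¹) * (x * c.e * x⁻¹) * (x * a * x⁻¹)⁻¹ * (x * c.e * x⁻¹) := by group
    rw [e, hqe, show x * a * x⁻¹ * (q * c.e * q⁻¹) * (x * a * x⁻¹)⁻¹ * (q * c.e * q⁻¹) =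
      q * ((q⁻¹ * (x * a * x⁻¹) * q) * c.e * (q⁻¹ * (x * a * x⁻¹) * q)⁻¹ * c.e) * q⁻¹ by group]
    exact hCK2 q (c.Q_le_C hq) _ (hgen _ (mul_mem (mul_mem (inv_mem (c.Q_le_C hq))
      (c.C_conj (c.hEW hx) ha)) (c.Q_le_C hq)))
  have hK2K : K2 ≤ Subgroup.normalizer (c.Kst : Set G) := fun y hy =>
    CfsgLib.LocalEven.BBlock.mem_normalizer_of_le fun z hz =>
      c.Kst_conj (c.C_le_NW (hPD (hK2P hy)).1) hz
  have hKC : c.Kst ≤ c.C := fun y hy => hy.2.1
  refine ⟨K2 ⊔ c.Kst, sup_le (fun y hy => (hPD (hK2P hy)).1) hKC,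
    IsPGroup.to_sup_of_normal_right' (hPp.to_le hK2P) c.Kst_isPGroup hK2K, fun l hl => ?_, fun x hx l hl => ?_⟩
  · refine CfsgLib.PLocal.mem_normalizer_of_map_conj_eq ?_
    rw [Subgroup.map_sup, CfsgLib.PLocal.map_conj_eq_of_mem_normalizer
        (CfsgLib.LocalEven.BBlock.mem_normalizer_of_le (hCK2 l hl)),
      CfsgLib.PLocal.map_conj_eq_of_mem_normalizer
        (CfsgLib.LocalEven.BBlock.mem_normalizer_of_le fun z hz => c.Kst_conj (c.C_le_NW hl) hz)]
  · obtain ⟨s, hsu, hsD, hss, hse, -⟩ := hsq l hl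
    have hsK : s ∈ K2 := Subgroup.zpowers_le.mpr (hgen l hl) hsu
    set l2 := s⁻¹ * l with hl2
    have hl2C : l2 ∈ c.C := mul_mem (inv_mem hsD.1) hl
    have hl2e : Commute l2 c.e := by
      refine mul_inv_eq_iff_eq_mul.mp ?_
      have h1 : l * c.e * l⁻¹ = s * s * c.e := by
        rw [hss]
        calc l * c.e * l⁻¹ = l * c.e * l⁻¹ * (c.e * c.e) := by rw [c.he2, mul_one]
          _ = _ := by group
      rw [hl2, show s⁻¹ * l * c.e * (s⁻¹ * l)⁻¹ = s⁻¹ * (l * c.e * l⁻¹) * s by group, h1]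
      calc s⁻¹ * (s * s * c.e) * s = s * (c.e * s * c.e⁻¹) * c.e := by group
        _ = c.e := by rw [hse]; group
    have hK := (c.comm_star hb hl2C (c.act_commute (c.hON (c.C_le_NW hl2C)) (c.E_le_NO c.he) hl2e) hx).2
    rw [show l * x * l⁻¹ * x⁻¹ = s * (l2 * x * l2⁻¹ * x⁻¹) * (x * s⁻¹ * x⁻¹) by rw [hl2]; group]
    exact mul_mem (mul_mem (Subgroup.mem_sup_left hsK) (Subgroup.mem_sup_right hK))
      (Subgroup.mem_sup_left (hEK2 x hx _ (inv_mem hsK)))

end Ctx

end CfsgLib.BlockNorm
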