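import Cfsg.Agent.Lib.BlockNorm.Act

/-!
# The exceptional block: elements trivial on `O / Z(O)` centralize the module
-/

set_option autoImplicit false
set_option linter.unusedSectionVars false

open Matrix
open scoped MatrixGroups commutatorElement

namespace CfsgLib.BlockNorm

namespace Ctx

variable {G : Type*} [Group G] [Finite G] {F : Type*} [Field F] [Fintype F] [CharP F 3]
  (c : Ctx G F)

/-- The centralizer of the module. -/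
abbrev C : Subgroup G := Subgroup.centralizer (c.W : Set G)

/-- The normalizer of the module. -/
abbrev NW : Subgroup G := Subgroup.normalizer (c.W : Set G)

theorem C_le_NW : c.C ≤ c.NW := fun g hg => CfsgLib.LocalEven.BBlock.mem_normalizer_of_le
  fun w hw => by rwa [← hg w hw, mul_inv_cancel_right]

theorem C_conj {g x : G} (hg : g ∈ c.NW) (hx : x ∈ c.C) : g * x * g⁻¹ ∈ c.C := fun w hw => by
  have h1 : g⁻¹ * w * g ∈ c.W := by simpa using conj_mem' (inv_mem hg) hw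
  have h2 := hx _ h1
  calc w * (g * x * g⁻¹) = g * (g⁻¹ * w * g * x) * g⁻¹ := by group
    _ = g * (x * (g⁻¹ * w * g)) * g⁻¹ := by rw [h2]
    _ = g * x * g⁻¹ * w := by group

theorem Q_le_C : c.Q ≤ c.C := fun q hq w hw => (c.hVcQ w (c.hWV hw) q hq).eq

/-- Elements normalizing `W` that centralize `Z(O)` modulo `W`. -/
def S0 : Subgroup G where
  carrier := {g | g ∈ c.NW ∧ ∀ o ∈ c.O, (∀ y ∈ c.O, Commute o y) → g * o * g⁻¹ * o⁻¹ ∈ c.W}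
  one_mem' := ⟨one_mem _, fun o _ _ => by simp⟩
  mul_mem' := fun {a b} ha hb => ⟨mul_mem ha.1 hb.1, fun o ho hc => by
    rw [show a * b * o * (a * b)⁻¹ * o⁻¹ =
      a * (b * o * b⁻¹ * o⁻¹) * a⁻¹ * (a * o * a⁻¹ * o⁻¹) by group]
    exact mul_mem (conj_mem' ha.1 (hb.2 o ho hc)) (ha.2 o ho hc)⟩
  inv_mem' := fun {a} ha => ⟨inv_mem ha.1, fun o ho hc => by
    have h1 : a⁻¹ * o * a ∈ c.O := by simpa using conj_mem' (inv_mem (c.hON ha.1)) ho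
    have h := c.W.inv_mem (ha.2 _ h1 fun y hy => by
      have h2 := (hc _ (conj_mem' (c.hON ha.1) hy)).eq
      show a⁻¹ * o * a * y = y * (a⁻¹ * o * a)
      calc a⁻¹ * o * a * y = a⁻¹ * (o * (a * y * a⁻¹)) * a := by group
        _ = a⁻¹ * (a * y * a⁻¹ * o) * a := by rw [h2]
        _ = y * (a⁻¹ * o * a) := by group)
    simpa [mul_assoc] using h⟩

theorem S0_conj {g x : G} (hg : g ∈ c.NW) (hx : x ∈ c.S0) : g * x * g⁻¹ ∈ c.S0 := by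
  refine ⟨mul_mem (mul_mem hg hx.1) (inv_mem hg), fun o ho hc => ?_⟩
  rw [show g * x * g⁻¹ * o * (g * x * g⁻¹)⁻¹ * o⁻¹ =
    g * (x * (g⁻¹ * o * g) * x⁻¹ * (g⁻¹ * o * g)⁻¹) * g⁻¹ by group]
  refine conj_mem' hg (hx.2 _ (by simpa using conj_mem' (inv_mem (c.hON hg)) ho) fun y hy => ?_)
  have h2 := (hc _ (conj_mem' (c.hON hg) hy)).eq
  show g⁻¹ * o * g * y = y * (g⁻¹ * o * g)
  calc g⁻¹ * o * g * y = g⁻¹ * (o * (g * y * g⁻¹)) * g := by group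
    _ = g⁻¹ * (g * y * g⁻¹ * o) * g := by rw [h2]
    _ = y * (g⁻¹ * o * g) := by group

theorem E_le_S0 : c.E ≤ c.S0 := fun x hx =>
  ⟨c.hEW hx, fun o ho hc => c.hEZ0 x hx o ho hc⟩

/-- The kernel of the action on the series `O ≥ Z(O) ≥ W ≥ 1`. -/
def Kst : Subgroup G where
  carrier := {g | g ∈ c.S0 ∧ g ∈ c.C ∧ c.act g = 1}
  one_mem' := ⟨one_mem _, one_mem _, c.act_one⟩
  mul_mem' := fun {a b} ha hb => ⟨mul_mem ha.1 hb.1, mul_mem ha.2.1 hb.2.1, by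
    rw [c.act_mul (c.hON ha.1.1) (c.hON hb.1.1), ha.2.2, hb.2.2, one_mul]⟩
  inv_mem' := fun {a} ha => ⟨inv_mem ha.1, inv_mem ha.2.1, by
    rw [c.act_inv (c.hON ha.1.1), ha.2.2, inv_one]⟩

theorem Kst_conj {g x : G} (hg : g ∈ c.NW) (hx : x ∈ c.Kst) : g * x * g⁻¹ ∈ c.Kst :=
  ⟨c.S0_conj hg hx.1, c.C_conj hg hx.2.1, by
    rw [c.act_conj (c.hON hg) (c.hON hx.1.1), hx.2.2, mul_one, mul_inv_cancel]⟩

theorem Q_le_Kst : c.Q ≤ c.Kst := fun _ hq =>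
  ⟨c.E_le_S0 (c.hQE hq), c.Q_le_C hq, c.act_Q hq⟩

theorem Kst_isPGroup [Fact (Nat.Prime 3)] : IsPGroup 3 ↥c.Kst := by
  rintro ⟨g, hS, hC, hact⟩
  have hgN := c.hON hS.1
  -- `g ^ 3` centralizes `Z(O)`
  have h1 : ∀ z ∈ c.O, (∀ y ∈ c.O, Commute z y) → g ^ 3 * z * (g ^ 3)⁻¹ = z := by
    intro z hz hzc
    set w := g * z * g⁻¹ * z⁻¹ with hw
    have hwW : w ∈ c.W := hS.2 z hz hzc
    have hgw : Commute g w := (hC w hwW).symm
    have key : ∀ n : ℕ, g ^ n * z * (g ^ n)⁻¹ = w ^ n * z := by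
      intro n
      induction n with
      | zero => simp
      | succ n ih =>
        calc g ^ (n + 1) * z * (g ^ (n + 1))⁻¹
            = g * (g ^ n * z * (g ^ n)⁻¹) * g⁻¹ := by rw [pow_succ']; group
          _ = w ^ n * (g * z * g⁻¹) := by rw [ih, ← mul_assoc, (hgw.pow_right n).eq]; group
          _ = w ^ (n + 1) * z := by rw [show g * z * g⁻¹ = w * z by rw [hw]; group, pow_succ]; group
    rw [key 3, c.hV3 w (c.hWV hwW), one_mul]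
  set h := g ^ 3 with hh
  have hhN : h ∈ c.NO := pow_mem hgN 3
  have hhact : c.act h = 1 := by rw [hh, c.act_pow hgN, hact, one_pow]
  obtain ⟨k, hk⟩ := c.hOp.exists_card_eq
  have h2 : ∀ o ∈ c.O, h ^ 3 ^ k * o * (h ^ 3 ^ k)⁻¹ = o := by
    intro o ho
    set z := h * o * h⁻¹ * o⁻¹ with hz
    have hzO : z ∈ c.O := mul_mem (conj_mem' hhN ho) (inv_mem ho)
    have hzc : ∀ y ∈ c.O, Commute z y := (c.act_eq_one_iff hhN).mp hhact o ho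
    have hhz : Commute h z := mul_inv_eq_iff_eq_mul.mp (h1 z hzO hzc)
    have key : ∀ n : ℕ, h ^ n * o * (h ^ n)⁻¹ = z ^ n * o := by
      intro n
      induction n with
      | zero => simp
      | succ n ih =>
        calc h ^ (n + 1) * o * (h ^ (n + 1))⁻¹
            = h * (h ^ n * o * (h ^ n)⁻¹) * h⁻¹ := by rw [pow_succ']; group
          _ = z ^ n * (h * o * h⁻¹) := by rw [ih, ← mul_assoc, (hhz.pow_right n).eq]; group
          _ = z ^ (n + 1) * o := by rw [show h * o * h⁻¹ = z * o by rw [hz]; group, pow_succ]; group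
    have h3 : z ^ 3 ^ k = 1 :=
      congrArg Subtype.val (show (⟨z, hzO⟩ : ↥c.O) ^ 3 ^ k = 1 by rw [← hk]; exact pow_card_eq_one')
    rw [key, h3, one_mul]
  obtain ⟨m, hm⟩ := c.hOp ⟨h ^ 3 ^ k, c.hOself fun o ho =>
    (mul_inv_eq_iff_eq_mul.mp (h2 o ho)).symm⟩
  refine ⟨1 + k + m, Subtype.ext ?_⟩
  show g ^ 3 ^ (1 + k + m) = 1
  rw [pow_add, pow_add, pow_one, pow_mul, pow_mul, ← hh]
  exact congrArg Subtype.val hm

theorem Kst_le_O [Fact (Nat.Prime 3)] : c.Kst ≤ c.O :=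
  c.hOmax c.Kst (fun _ hg => hg.1.1) c.Kst_isPGroup fun _ hg =>
    CfsgLib.LocalEven.BBlock.mem_normalizer_of_le fun _ hx => c.Kst_conj hg hx

theorem exists_of_mem_sup {g : G} (hg : g ∈ c.E ⊔ c.C) : ∃ x ∈ c.E, x⁻¹ * g ∈ c.C := by
  rw [← SetLike.mem_coe, Subgroup.coe_mul_of_left_le_normalizer_right c.E c.C (fun x hx =>
    CfsgLib.LocalEven.BBlock.mem_normalizer_of_le fun y hy => c.C_conj (c.hEW hx) hy)] at hg
  obtain ⟨x, hx, y, hy, rfl⟩ := hg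
  exact ⟨x, hx, by simpa using hy⟩

theorem mem_Q_of_mem_C {x : G} (hx : x ∈ c.E) (hxC : x ∈ c.C) : x ∈ c.Q := by
  refine (c.hρker ⟨x, hx⟩).mp (Subtype.ext (Matrix.ext_of_mulVec_single fun i => ?_))
  obtain ⟨u, hu⟩ := c.hψ (Multiplicative.ofAdd (Pi.single i 1))
  obtain ⟨w, hw, hw2⟩ := c.hψeq ⟨x, hx⟩ u
  have : w = u := Subtype.ext (by
    rw [hw]
    obtain ⟨a, ha, z, hz, huv⟩ := c.hWsup u u.2
    rw [huv, show x * (a * z) * x⁻¹ = (x * a * x⁻¹) * (x * z * x⁻¹) by group, ← hxC a ha,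
      ← (c.hZE z hz x hx).eq, mul_inv_cancel_right, mul_inv_cancel_right])
  rw [this, hu, toAdd_ofAdd] at hw2
  exact hw2.symm.trans (one_mulVec _).symm

/-- `[Q, b, b] ≰ Z` for some `b` acting quadratically on `W` and on `Q / V`. -/
def HasCubic : Prop :=
  ∃ b : G, b ∈ c.NW ∧ b ∈ Subgroup.normalizer (c.Q : Set G) ∧ b ∈ Subgroup.normalizer (c.Z : Set G) ∧
    (∀ w ∈ c.W, b * (b * w * b⁻¹ * w⁻¹) * b⁻¹ * (b * w * b⁻¹ * w⁻¹)⁻¹ = 1) ∧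
    (∀ u ∈ c.Q, b * (b * u * b⁻¹ * u⁻¹) * b⁻¹ * (b * u * b⁻¹ * u⁻¹)⁻¹ ∈ c.V) ∧
    ∃ u ∈ c.Q, b * (b * u * b⁻¹ * u⁻¹) * b⁻¹ * (b * u * b⁻¹ * u⁻¹)⁻¹ ∉ c.Z

theorem no_inverting [Fact (Nat.Prime 3)] (hb : c.HasCubic) {g : G} (hgS : g ∈ c.S0)
    (hg2 : g * g = 1) (hact : c.act g = 1) (hgW : ∀ w ∈ c.W, g * w * g⁻¹ = w⁻¹) : False := by
  obtain ⟨b, hbN, hbQ, hbZ, hbW, hbV, u, huQ, hbad⟩ := hb
  apply hbad
  have hgN := c.hON hgS.1
  have hfixO : ∀ o ∈ c.O, ∀ y ∈ c.O, Commute (g * o * g⁻¹ * o⁻¹) y := (c.act_eq_one_iff hgN).mp hact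
  have hOO : ⁅c.O, c.O⁆ ≤ Subgroup.centralizer ({g} : Set G) := by
    refine Subgroup.commutator_le.mpr fun a ha a' ha' =>
      Subgroup.mem_centralizer_singleton_iff.mpr ?_
    set z := g * a * g⁻¹ * a⁻¹ with hz
    set z' := g * a' * g⁻¹ * a'⁻¹ with hz'
    have hzc := hfixO a ha
    have hzc' := hfixO a' ha'
    have hz'O : z' ∈ c.O := mul_mem (conj_mem' hgN ha') (inv_mem ha')
    have key : g * ⁅a, a'⁆ * g⁻¹ = ⁅a, a'⁆ := by
      rw [commutatorElement_def, show g * (a * a' * a⁻¹ * a'⁻¹) * g⁻¹ =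
        (g * a * g⁻¹) * (g * a' * g⁻¹) * (g * a * g⁻¹)⁻¹ * (g * a' * g⁻¹)⁻¹ by group,
        show g * a * g⁻¹ = z * a by rw [hz]; group, show g * a' * g⁻¹ = z' * a' by rw [hz']; group]
      calc z * a * (z' * a') * (z * a)⁻¹ * (z' * a')⁻¹
          = z * (a * (z' * a') * a⁻¹) * z⁻¹ * (a'⁻¹ * z'⁻¹) := by group
        _ = a * (z' * a') * a⁻¹ * (a'⁻¹ * z'⁻¹) := by
            rw [(hzc _ (mul_mem (mul_mem ha (mul_mem hz'O ha')) (inv_mem ha))).eq, mul_inv_cancel_right]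
        _ = z' * (a * a' * a⁻¹ * a'⁻¹) * z'⁻¹ := by rw [← mul_assoc a, ← (hzc' a ha).eq, hz']; group
        _ = a * a' * a⁻¹ * a'⁻¹ := by
            rw [(hzc' _ (mul_mem (mul_mem (mul_mem ha ha') (inv_mem ha)) (inv_mem ha'))).eq,
              mul_inv_cancel_right]
    exact (mul_inv_eq_iff_eq_mul.mp key).symm
  have hOOfix : ∀ x ∈ ⁅c.O, c.O⁆, g * x * g⁻¹ = x := fun x hx => by
    rw [← Subgroup.mem_centralizer_singleton_iff.mp (hOO hx), mul_inv_cancel_right]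
  have hW1 : ∀ w ∈ c.W, w = w⁻¹ → w = 1 := fun w hw h =>
    orderOf_eq_one_iff.mp (Nat.eq_one_of_dvd_coprimes (by norm_num : Nat.Coprime 2 3)
      (orderOf_dvd_of_pow_eq_one (by rw [pow_two]; exact mul_eq_one_iff_eq_inv.mpr h))
      (orderOf_dvd_of_pow_eq_one (c.hV3 w (c.hWV hw))))
  have hZO : c.Z ≤ ⁅c.O, c.O⁆ := by rw [← c.hQQ]; exact Subgroup.commutator_mono c.hQO c.hQO
  have hgZ : ∀ z ∈ c.Z, g * z * g⁻¹ = z := fun z hz => hOOfix z (hZO hz)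
  have hQOZ : ∀ q ∈ c.Q, ∀ o ∈ c.O, q * o * q⁻¹ * o⁻¹ ∈ c.Z := by
    intro q hq o ho
    obtain ⟨w, hw, z, hz, hv⟩ := c.hWsup _ (c.hQOV q hq o ho)
    have hwOO : w ∈ ⁅c.O, c.O⁆ := by
      have h1 : q * o * q⁻¹ * o⁻¹ ∈ ⁅c.O, c.O⁆ := by
        have := Subgroup.commutator_mem_commutator (c.hQO hq) ho
        rwa [commutatorElement_def] at this
      rw [hv] at h1
      simpa using mul_mem h1 (inv_mem (hZO hz))
    rw [hv, hW1 w hw ((hOOfix w hwOO).symm.trans (hgW w hw)), one_mul]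
    exact hz
  have hZcQ : ∀ z ∈ c.Z, ∀ q ∈ c.Q, Commute z q := fun z hz q hq => c.hVcQ z (c.hZV hz) q hq
  let D : G → G := fun x => b * x * b⁻¹ * x⁻¹
  have hDQ : ∀ x ∈ c.Q, D x ∈ c.Q := fun x hx => mul_mem (conj_mem' hbQ hx) (inv_mem hx)
  have hDW : ∀ x ∈ c.W, D x ∈ c.W := fun x hx => mul_mem (conj_mem' hbN hx) (inv_mem hx)
  let Fix : Subgroup G :=
    { carrier := {x | x ∈ c.Q ∧ g * x * g⁻¹ * x⁻¹ ∈ c.Z}
      one_mem' := ⟨one_mem _, by simp⟩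
      mul_mem' := fun {x y} hx hy => ⟨mul_mem hx.1 hy.1, by
        rw [show g * (x * y) * g⁻¹ * (x * y)⁻¹ =
          g * x * g⁻¹ * (g * y * g⁻¹ * y⁻¹) * x⁻¹ by group]
        rw [show g * x * g⁻¹ * (g * y * g⁻¹ * y⁻¹) * x⁻¹ =
          (g * x * g⁻¹ * x⁻¹) * (x * (g * y * g⁻¹ * y⁻¹) * x⁻¹) by group,
          ← (hZcQ _ hy.2 x hx.1).eq, mul_inv_cancel_right]
        exact mul_mem hx.2 hy.2⟩
      inv_mem' := fun {x} hx => ⟨inv_mem hx.1, by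
        rw [show g * x⁻¹ * g⁻¹ * x⁻¹⁻¹ = x⁻¹ * (g * x * g⁻¹ * x⁻¹)⁻¹ * x by group,
          ← (hZcQ _ (inv_mem hx.2) x⁻¹ (inv_mem hx.1)).eq, inv_mul_cancel_right]
        exact inv_mem hx.2⟩ }
  have hFixb : ∀ x ∈ Fix, D x ∈ Fix := by
    intro x hx
    refine mul_mem ⟨conj_mem' hbQ hx.1, ?_⟩ (inv_mem hx)
    set g' := b⁻¹ * g * b with hg'
    have hτ : g⁻¹ * g' ∈ c.Kst := by
      have hS : g' ∈ c.S0 := by simpa [hg'] using c.S0_conj (inv_mem hbN) hgS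
      refine ⟨mul_mem (inv_mem hgS) hS, fun w hw => ?_, ?_⟩
      · have h1 : g' * w * g'⁻¹ = w⁻¹ := by
          rw [hg', show b⁻¹ * g * b * w * (b⁻¹ * g * b)⁻¹ = b⁻¹ * (g * (b * w * b⁻¹) * g⁻¹) * b by
            group, hgW _ (conj_mem' hbN hw)]
          group
        have h2 : g⁻¹ * w⁻¹ * g = w := by
          rw [← hgW w hw]; group
        calc w * (g⁻¹ * g') = g⁻¹ * w⁻¹ * g * (g⁻¹ * g') := by rw [h2]
          _ = g⁻¹ * (g' * w * g'⁻¹) * g' := by rw [h1]; group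
          _ = g⁻¹ * g' * w := by group
      · rw [c.act_mul (inv_mem hgN) (c.hON hS.1), c.act_inv hgN, hact, inv_one, one_mul, hg',
          c.act_mul (mul_mem (inv_mem (c.hON hbN)) hgN) (c.hON hbN),
          c.act_mul (inv_mem (c.hON hbN)) hgN, hact, mul_one, c.act_inv (c.hON hbN), inv_mul_cancel]
    set τ := g⁻¹ * g' with hτdef
    have hz1 := hQOZ x hx.1 τ (c.Kst_le_O hτ)
    set z1 := x * τ * x⁻¹ * τ⁻¹ with hz1def
    set z2 := g * x * g⁻¹ * x⁻¹ with hz2def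
    have hbz : ∀ z ∈ c.Z, b * z * b⁻¹ ∈ c.Z := fun z hz => conj_mem' hbZ hz
    have e : g * (b * x * b⁻¹) * g⁻¹ = b * (z1⁻¹ * z2) * b⁻¹ * (b * x * b⁻¹) := by
      calc g * (b * x * b⁻¹) * g⁻¹ = b * (g * (τ * x * τ⁻¹) * g⁻¹) * b⁻¹ := by
            rw [hτdef, hg']; group
        _ = b * (g * (z1⁻¹ * x) * g⁻¹) * b⁻¹ := by rw [hz1def]; group
        _ = b * ((g * z1⁻¹ * g⁻¹) * (g * x * g⁻¹)) * b⁻¹ := by group
        _ = b * (z1⁻¹ * (z2 * x)) * b⁻¹ := by rw [hgZ _ (inv_mem hz1), hz2def]; group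
        _ = _ := by group
    rw [e, mul_inv_cancel_right]
    exact hbz _ (mul_mem (inv_mem hz1) hx.2)
  -- decompose `u`
  set ξ := g * u * g⁻¹ * u⁻¹ with hξ
  have hξO : ξ ∈ c.O := mul_mem (conj_mem' hgN (c.hQO huQ)) (inv_mem (c.hQO huQ))
  have hξc := hfixO u (c.hQO huQ)
  have hginv : g⁻¹ = g := inv_eq_of_mul_eq_one_right hg2
  have hξinv : g * ξ * g⁻¹ = ξ⁻¹ := by
    rw [hξ, show g * (g * u * g⁻¹ * u⁻¹) * g⁻¹ = (g * g) * u * (g * g)⁻¹ * (g * u * g⁻¹)⁻¹ by group,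
      hg2]
    group
  have hξW : ξ ∈ c.W := by
    have h := inv_mem (hgS.2 ξ hξO hξc)
    rw [hξinv, _root_.mul_inv_rev, inv_inv] at h
    obtain ⟨k, hk⟩ := c.hOp ⟨ξ, hξO⟩
    obtain ⟨m, hm⟩ := exists_pow_eq_self_of_coprime (x := ξ) (n := 2)
      (((by norm_num : Nat.Coprime 2 3).pow_right k).coprime_dvd_right
        (orderOf_dvd_of_pow_eq_one (congrArg Subtype.val hk)))
    rw [← hm, pow_two]
    exact pow_mem h m
  have hξ3 : ξ ^ 3 = 1 := c.hV3 ξ (c.hWV hξW)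
  have hξu : Commute ξ u := hξc u (c.hQO huQ)
  set x := u * ξ ^ 2 with hx
  have hxFix : x ∈ Fix := by
    refine ⟨mul_mem huQ (pow_mem (c.hVQ (c.hWV hξW)) 2), ?_⟩
    rw [hx, show g * (u * ξ ^ 2) * g⁻¹ = (g * u * g⁻¹) * (g * ξ * g⁻¹) ^ 2 by rw [conj_pow]; group,
      hξinv, show g * u * g⁻¹ = ξ * u by rw [hξ]; group]
    have : ξ * u * ξ⁻¹ ^ 2 * (u * ξ ^ 2)⁻¹ = (ξ ^ 3)⁻¹ := by
      rw [hξu.eq, mul_assoc u, show ξ * ξ⁻¹ ^ 2 = ξ⁻¹ by group,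
        show u * ξ⁻¹ * (u * ξ ^ 2)⁻¹ = u * (ξ ^ 3)⁻¹ * u⁻¹ by group, hξ3]
      group
    rw [this, hξ3, inv_one]
    exact one_mem _
  have hu : u = x * ξ := by
    rw [hx, mul_assoc, ← pow_succ, hξ3, mul_one]
  have hDmul : ∀ a ∈ c.Q, ∀ w ∈ c.W, D (a * w) = D a * D w := by
    intro a ha w hw
    calc D (a * w) = b * a * b⁻¹ * D w * a⁻¹ := by simp only [D]; group
      _ = b * a * b⁻¹ * (a⁻¹ * D w) := by
          rw [mul_assoc (b * a * b⁻¹), (c.hVcQ _ (c.hWV (hDW w hw)) a⁻¹ (inv_mem ha)).eq]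
      _ = D a * D w := by simp only [D]; group
  show D (D u) ∈ c.Z
  rw [hu, hDmul x hxFix.1 ξ hξW, hDmul _ (hDQ x hxFix.1) _ (hDW ξ hξW),
    show D (D ξ) = 1 from hbW ξ hξW, mul_one]
  have hmem := hFixb _ (hFixb x hxFix)
  obtain ⟨w, hw, z, hz, hv⟩ := c.hWsup (D (D x)) (hbV x hxFix.1)
  rw [hv]
  have h1 := hmem.2
  rw [hv, show g * (w * z) * g⁻¹ = g * w * g⁻¹ * (g * z * g⁻¹) by group, hgW w hw, hgZ z hz,
    show w⁻¹ * z * (w * z)⁻¹ = w⁻¹ * w⁻¹ by group] at h1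
  have h2 : w⁻¹ * w⁻¹ = 1 := c.hWZ _ (mul_mem (inv_mem hw) (inv_mem hw)) h1
  rw [hW1 w hw ((inv_inv w).symm.trans (inv_eq_of_mul_eq_one_right h2)),
    one_mul]
  exact hz

/-- Elements of `E C` trivial on `O / Z(O)` and on `Z(O) / W` centralize `W`. -/
theorem mem_C_of_act_eq_one [Fact (Nat.Prime 3)] (hb : c.HasCubic) {g : G}
    (hg : g ∈ c.E ⊔ c.C) (hgS : g ∈ c.S0) (hact : c.act g = 1) : g ∈ c.C := by
  classical
  by_contra hgC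
  have hEsup : c.E ⊔ c.C ≤ c.NW := sup_le c.hEW c.C_le_NW
  let N : Subgroup (SpecialLinearGroup (Fin 2) F) :=
    { carrier := {r | ∃ x : ↥c.E, c.ρ x = r ∧ ∃ y, y ∈ c.E ⊔ c.C ∧ y ∈ c.S0 ∧ c.act y = 1 ∧
        (x : G)⁻¹ * y ∈ c.C}
      one_mem' := ⟨1, map_one _, 1, one_mem _, one_mem _, c.act_one, by simp⟩
      mul_mem' := by
        rintro _ _ ⟨x, rfl, y, hy, hyS, hya, hxy⟩ ⟨x', rfl, y', hy', hyS', hya', hxy'⟩
        refine ⟨x * x', map_mul _ _ _, y * y', mul_mem hy hy', mul_mem hyS hyS', ?_, ?_⟩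
        · rw [c.act_mul (c.hON hyS.1) (c.hON hyS'.1), hya, hya', one_mul]
        · rw [show ((x * x' : ↥c.E) : G)⁻¹ * (y * y') =
            (x' : G)⁻¹ * ((x : G)⁻¹ * y) * (x' : G)⁻¹⁻¹ * ((x' : G)⁻¹ * y') by
            simp only [Subgroup.coe_mul]; group]
          exact mul_mem (c.C_conj (inv_mem (c.hEW x'.2)) hxy) hxy'
      inv_mem' := by
        rintro _ ⟨x, rfl, y, hy, hyS, hya, hxy⟩
        refine ⟨x⁻¹, map_inv _ _, y⁻¹, inv_mem hy, inv_mem hyS, ?_, ?_⟩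
        · rw [c.act_inv (c.hON hyS.1), hya, inv_one]
        · rw [show ((x⁻¹ : ↥c.E) : G)⁻¹ * y⁻¹ = (x : G) * ((x : G)⁻¹ * y)⁻¹ * (x : G)⁻¹ by
            simp only [Subgroup.coe_inv]; group]
          exact c.C_conj (c.hEW x.2) (inv_mem hxy) }
  have hNle : N ≤ commutator (SpecialLinearGroup (Fin 2) F) := by
    rintro _ ⟨x, rfl, -⟩
    rw [← c.hρ]
    exact ⟨x, rfl⟩
  have hNn : ∀ r ∈ commutator (SpecialLinearGroup (Fin 2) F), ∀ n ∈ N, r * n * r⁻¹ ∈ N := by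
    intro r hr n hn
    rw [← c.hρ] at hr
    obtain ⟨a, rfl⟩ := hr
    obtain ⟨x, rfl, y, hy, hyS, hya, hxy⟩ := hn
    refine ⟨a * x * a⁻¹, by rw [map_mul, map_mul, map_inv], (a : G) * y * (a : G)⁻¹,
      mul_mem (mul_mem (Subgroup.mem_sup_left a.2) hy) (inv_mem (Subgroup.mem_sup_left a.2)),
      c.S0_conj (c.hEW a.2) hyS, ?_, ?_⟩
    · rw [c.act_conj (c.E_le_NO a.2) (c.hON hyS.1), hya, mul_one, mul_inv_cancel]
    · rw [show ((a * x * a⁻¹ : ↥c.E) : G)⁻¹ * ((a : G) * y * (a : G)⁻¹) =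
        (a : G) * ((x : G)⁻¹ * y) * (a : G)⁻¹ by
        simp only [Subgroup.coe_mul, Subgroup.coe_inv]; group]
      exact c.C_conj (c.hEW a.2) hxy
  have hNne : N ≠ ⊥ := by
    obtain ⟨x, hx, hxg⟩ := c.exists_of_mem_sup hg
    intro h
    have hmem : c.ρ ⟨x, hx⟩ ∈ N := ⟨⟨x, hx⟩, rfl, g, hg, hgS, hact, hxg⟩
    rw [h, Subgroup.mem_bot] at hmem
    refine hgC ?_
    have := mul_mem (c.Q_le_C ((c.hρker ⟨x, hx⟩).mp hmem)) hxg
    simpa using this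
  obtain ⟨x, hxρ, y, hy, hyS, hya, hxy⟩ := neg_one_mem_of_normal N hNle hNn hNne
  have hq : c.e⁻¹ * (x : G) ∈ c.Q := by
    refine (c.hρker ⟨_, mul_mem (inv_mem c.he) x.2⟩).mp ?_
    rw [show (⟨_, mul_mem (inv_mem c.he) x.2⟩ : ↥c.E) = (⟨c.e, c.he⟩ : ↥c.E)⁻¹ * x from rfl,
      map_mul, map_inv, c.hρe, hxρ, inv_mul_cancel]
  have hey : c.e⁻¹ * y ∈ c.C := by
    have := mul_mem (c.Q_le_C hq) hxy
    rwa [← mul_assoc, mul_inv_cancel_right] at this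
  have hyW : ∀ w ∈ c.W, y * w * y⁻¹ = w⁻¹ := by
    intro w hw
    rw [show y * w * y⁻¹ = c.e * ((c.e⁻¹ * y) * w * (c.e⁻¹ * y)⁻¹) * c.e⁻¹ by group,
      ← hey w hw, mul_inv_cancel_right, c.hWe w hw]
  obtain ⟨a, m, hm, hn⟩ := Nat.exists_eq_pow_mul_and_not_dvd
    (orderOf_pos y).ne' 2 (by norm_num)
  have hyN := c.hON hyS.1
  have hodd : ∀ w ∈ c.W, ∀ k : ℕ, y ^ k * w * (y ^ k)⁻¹ = if Even k then w else w⁻¹ := by
    intro w hw k
    induction k with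
    | zero => simp
    | succ k ih =>
      rw [pow_succ', show y * y ^ k * w * (y * y ^ k)⁻¹ = y * (y ^ k * w * (y ^ k)⁻¹) * y⁻¹ by group, ih]
      by_cases h : Even k
      · rw [if_pos h, if_neg (by simpa [Nat.even_add_one] using h), hyW w hw]
      · rw [if_neg h, if_pos (by simpa [Nat.even_add_one] using h), hyW _ (inv_mem hw), inv_inv]
  have hm' : ¬ Even m := fun h => hm (even_iff_two_dvd.mp h)
  set g1 := y ^ m with hg1
  have hg1W : ∀ w ∈ c.W, g1 * w * g1⁻¹ = w⁻¹ := fun w hw => by rw [hodd w hw m, if_neg hm']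
  have hg1S : g1 ∈ c.S0 := pow_mem hyS m
  have hg1a : c.act g1 = 1 := by rw [hg1, c.act_pow hyN, hya, one_pow]
  have hK : g1 * g1 ∈ c.Kst := ⟨mul_mem hg1S hg1S, fun w hw => by
    have h1 : g1 * g1 * w * (g1 * g1)⁻¹ = w := by
      rw [show g1 * g1 * w * (g1 * g1)⁻¹ = g1 * (g1 * w * g1⁻¹) * g1⁻¹ by group, hg1W w hw,
        hg1W _ (inv_mem hw), inv_inv]
    exact (mul_inv_eq_iff_eq_mul.mp h1).symm, by
    rw [c.act_mul (c.hON hg1S.1) (c.hON hg1S.1), hg1a, one_mul]⟩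
  obtain ⟨k, hk⟩ := c.Kst_isPGroup ⟨_, hK⟩
  have h2 : g1 ^ 2 ^ a = 1 := by rw [hg1, ← pow_mul, mul_comm, ← hn, pow_orderOf_eq_one]
  have hg2 : g1 * g1 = 1 :=
    orderOf_eq_one_iff.mp (Nat.eq_one_of_dvd_coprimes
      ((by norm_num : Nat.Coprime 2 3).pow a k)
      (orderOf_dvd_of_pow_eq_one (by rw [← pow_two, ← pow_mul, mul_comm, pow_mul, h2, one_pow]))
      (orderOf_dvd_of_pow_eq_one (congrArg Subtype.val hk)))
  exact c.no_inverting hb hg1S hg2 hg1a hg1W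

end Ctx

end CfsgLib.BlockNorm
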