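import Cfsg.Agent.Lib.BlockNorm.KLemma
import Cfsg.Agent.Lib.Invol.GlaubermanZStar

/-!
# The exceptional block: `C(W)` is a `2'`-group times the centralizer of the involution
-/

set_option autoImplicit false
set_option linter.unusedSectionVars false
set_option linter.style.haveILetI false

open Matrix
open scoped MatrixGroups commutatorElement

namespace CfsgLib.BlockNorm

namespace Ctx

variable {G : Type*} [Group G] [Finite G] {F : Type*} [Field F] [Fintype F] [CharP F 3]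
  (c : Ctx G F)

theorem mem_Z_comm {a b : G} (ha : a ∈ c.Q) (hb : b ∈ c.Q) : ⁅a, b⁆ ∈ c.Z :=
  c.hQQ ▸ Subgroup.commutator_mem_commutator ha hb

/-- Commutators in `Q` only depend on the images in `Q / V`. -/
theorem comm_eq_of_psi2 {a a' b b' : ↥c.Q} (ha : c.ψ2 a = c.ψ2 a') (hb : c.ψ2 b = c.ψ2 b') :
    ⁅(a : G), (b : G)⁆ = ⁅(a' : G), (b' : G)⁆ := by
  have key : ∀ x y : ↥c.Q, c.ψ2 x = c.ψ2 y → ∀ q ∈ c.Q, ⁅(x : G), q⁆ = ⁅(y : G), q⁆ := by
    intro x y h q hq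
    have hv : ((y⁻¹ * x : ↥c.Q) : G) ∈ c.V :=
      (c.hψ2ker _).mp (by rw [map_mul, map_inv, h, inv_mul_cancel])
    set v : G := ((y⁻¹ * x : ↥c.Q) : G) with hvdef
    have hx : (x : G) = (y : G) * v := by simp [hvdef]
    rw [hx, commutatorElement_def, commutatorElement_def, mul_assoc (y : G) v q,
      (c.hVcQ v hv q hq).eq]
    group
  rw [key a a' ha b b.2, ← commutatorElement_inv, key b b' hb a' a'.2, commutatorElement_inv]

theorem comm_mul_right {q a b : G} (hq : q ∈ c.Q) (ha : a ∈ c.Q) (hb : b ∈ c.Q) :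
    ⁅q, a * b⁆ = ⁅q, a⁆ * ⁅q, b⁆ := by
  have h : ⁅q, a * b⁆ = ⁅q, a⁆ * (a * ⁅q, b⁆ * a⁻¹) := by
    rw [commutatorElement_def, commutatorElement_def, commutatorElement_def]; group
  rw [h, ← (c.hVcQ _ (c.hZV (c.mem_Z_comm hq hb)) a ha).eq, mul_inv_cancel_right]

theorem comm_mul_left {q a b : G} (hq : q ∈ c.Q) (ha : a ∈ c.Q) (hb : b ∈ c.Q) :
    ⁅a * b, q⁆ = ⁅a, q⁆ * ⁅b, q⁆ := by
  have h : ⁅a * b, q⁆ = (a * ⁅b, q⁆ * a⁻¹) * ⁅a, q⁆ := by
    rw [commutatorElement_def, commutatorElement_def, commutatorElement_def]; group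
  rw [h, ← (c.hVcQ _ (c.hZV (c.mem_Z_comm hb hq)) a ha).eq, mul_inv_cancel_right]
  exact (c.hVcQ _ (c.hZV (c.mem_Z_comm hb hq)) _
    (c.hVQ (c.hZV (c.mem_Z_comm ha hq)))).eq

theorem exists_det_scaling {l : G} (hlO : l ∈ c.NO) (A : (Fin 2 → F) ≃+ (Fin 2 → F))
    (hA : ∀ u, c.act l (c.iota u) = c.iota (A u)) :
    ∃ σ : F → F, ∀ u v, det2 (A u) (A v) = σ (det2 u v) := by
  classical
  letI : CommGroup ↥c.Z := { (inferInstance : Group ↥c.Z) with
    mul_comm := fun a b => Subtype.ext (c.hVab a (c.hZV a.2) b (c.hZV b.2)).eq }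
  let β : (Fin 2 → F) → (Fin 2 → F) → Additive ↥c.Z := fun u v =>
    Additive.ofMul ⟨⁅(c.lift u : G), (c.lift v : G)⁆, c.mem_Z_comm (c.lift u).2 (c.lift v).2⟩
  have hadd : ∀ u v, c.ψ2 (c.lift (u + v)) = c.ψ2 (c.lift u * c.lift v) := fun u v => by
    rw [map_mul, c.lift_spec, c.lift_spec, c.lift_spec, ofAdd_add]
  obtain ⟨f, hf⟩ := exists_form_factor (F := F) β
    (fun u u' v => Additive.toMul.injective (Subtype.ext (by
      show ⁅(c.lift (u + u') : G), (c.lift v : G)⁆ = _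
      rw [c.comm_eq_of_psi2 (hadd u u') (rfl : c.ψ2 (c.lift v) = c.ψ2 (c.lift v))]
      exact c.comm_mul_left (c.lift v).2 (c.lift u).2 (c.lift u').2)))
    (fun u v v' => Additive.toMul.injective (Subtype.ext (by
      show ⁅(c.lift u : G), (c.lift (v + v') : G)⁆ = _
      rw [c.comm_eq_of_psi2 (rfl : c.ψ2 (c.lift u) = c.ψ2 (c.lift u)) (hadd v v')]
      exact c.comm_mul_right (c.lift u).2 (c.lift v).2 (c.lift v').2)))
    (fun u => Additive.toMul.injective (Subtype.ext (commutatorElement_self _)))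
    (fun g hg u v => Additive.toMul.injective (Subtype.ext (by
      show ⁅(c.lift (g.1.mulVec u) : G), (c.lift (g.1.mulVec v) : G)⁆ =
        ⁅(c.lift u : G), (c.lift v : G)⁆
      rw [← c.hρ2] at hg
      obtain ⟨x, rfl⟩ := hg
      have h : ∀ w, ∃ w' : ↥c.Q, (w' : G) = x * c.lift w * (x : G)⁻¹ ∧
          c.ψ2 w' = c.ψ2 (c.lift ((c.ρ2 x).1.mulVec w)) := fun w => by
        obtain ⟨w', hw', hw2⟩ := c.hψ2eq x (c.lift w)
        refine ⟨w', hw', ?_⟩
        rw [c.lift_spec, toAdd_ofAdd] at hw2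
        rw [c.lift_spec, ← hw2, ofAdd_toAdd]
      obtain ⟨u', hu', hu2⟩ := h u
      obtain ⟨v', hv', hv2⟩ := h v
      rw [← c.comm_eq_of_psi2 hu2 hv2, hu', hv', ← conjugate_commutatorElement,
        ← (c.hZE _ (c.mem_Z_comm (c.lift u).2 (c.lift v).2) x x.2).eq, mul_inv_cancel_right])))
  have hbeta : ∀ a b : ↥c.Q, ⁅(a : G), (b : G)⁆ =
      ((Additive.toMul (f (det2 (c.ψ2 a).toAdd (c.ψ2 b).toAdd)) : ↥c.Z) : G) := fun a b => by
    rw [← hf]
    show _ = ⁅(c.lift (c.ψ2 a).toAdd : G), (c.lift (c.ψ2 b).toAdd : G)⁆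
    exact c.comm_eq_of_psi2 (by rw [c.lift_spec, ofAdd_toAdd]) (by rw [c.lift_spec, ofAdd_toAdd])
  let g : Multiplicative F →* G := c.Z.subtype.comp (AddMonoidHom.toMultiplicativeLeft f)
  have hsurj : c.Z ≤ g.range := by
    conv_lhs => rw [← c.hQQ]
    refine Subgroup.commutator_le.mpr fun a ha b hb => ?_
    exact ⟨Multiplicative.ofAdd (det2 (c.ψ2 ⟨a, ha⟩).toAdd (c.ψ2 ⟨b, hb⟩).toAdd),
      (hbeta ⟨a, ha⟩ ⟨b, hb⟩).symm⟩
  have finj : Function.Injective f := by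
    have hs : Function.Surjective f := fun z => by
      obtain ⟨t, ht⟩ := hsurj (Additive.toMul z).2
      exact ⟨t.toAdd, Additive.toMul.injective (Subtype.ext ht)⟩
    refine ((Nat.bijective_iff_surjective_and_card f).mpr ⟨hs, ?_⟩).1
    rw [Nat.card_eq_fintype_card, ← c.hZcard]
    exact (Nat.card_congr Additive.toMul).symm
  have hlu : ∀ u, ∃ z ∈ c.O, (∀ y ∈ c.O, Commute z y) ∧ l * (c.lift u : G) * l⁻¹ = c.lift (A u) * z := by
    intro u
    have h := hA u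
    rw [iota, iota, c.act_apply hlO, eq_comm, c.mk_eq_mk_iff] at h
    refine ⟨(c.lift (A u) : G)⁻¹ * (l * c.lift u * l⁻¹), mul_mem (inv_mem (c.hQO (c.lift _).2))
      (conj_mem' hlO (c.hQO (c.lift u).2)), h, by group⟩
  have hl : ∀ u v, ((Additive.toMul (f (det2 (A u) (A v))) : ↥c.Z) : G) =
      l * ((Additive.toMul (f (det2 u v)) : ↥c.Z) : G) * l⁻¹ := by
    intro u v
    obtain ⟨z, hz, hzc, hzu⟩ := hlu u
    obtain ⟨z', hz', hzc', hzv⟩ := hlu v
    rw [← hf, ← hf]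
    show ⁅(c.lift (A u) : G), (c.lift (A v) : G)⁆ = l * ⁅(c.lift u : G), (c.lift v : G)⁆ * l⁻¹
    set a := (c.lift (A u) : G)
    set a' := (c.lift (A v) : G)
    have ha : a ∈ c.O := c.hQO (c.lift _).2
    have ha' : a' ∈ c.O := c.hQO (c.lift _).2
    rw [conjugate_commutatorElement, hzu, hzv, commutatorElement_def, commutatorElement_def]
    calc a * a' * a⁻¹ * a'⁻¹ = a * a' * a⁻¹ * (z' * a'⁻¹ * z'⁻¹) := by
          rw [(hzc' _ (inv_mem ha')).eq, mul_inv_cancel_right]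
      _ = a * (z * (a' * a⁻¹) * z⁻¹) * (z' * a'⁻¹ * z'⁻¹) := by
          rw [(hzc _ (mul_mem ha' (inv_mem ha))).eq, mul_inv_cancel_right]; group
      _ = a * z * (a' * (a⁻¹ * z') * z'⁻¹) * z⁻¹ * (z' * a'⁻¹ * z'⁻¹) := by group
      _ = a * z * (a' * (z' * a⁻¹) * z'⁻¹) * z⁻¹ * (z' * a'⁻¹ * z'⁻¹) := by
          rw [(hzc' _ (inv_mem ha)).eq]
      _ = a * z * a' * z' * (a⁻¹ * z'⁻¹) * z⁻¹ * z' * (z'⁻¹ * a'⁻¹) := by
          rw [(hzc' _ (inv_mem ha')).inv_left.eq]; group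
      _ = a * z * a' * z' * (a⁻¹ * (z'⁻¹ * z⁻¹ * z')) * (z'⁻¹ * a'⁻¹) := by group
      _ = a * z * a' * z' * (a⁻¹ * z⁻¹) * (z'⁻¹ * a'⁻¹) := by
          rw [mul_assoc z'⁻¹, (hzc _ hz').inv_left.eq, inv_mul_cancel_left]
      _ = _ := by rw [(hzc _ (inv_mem ha)).inv_left.eq.symm]; group
  refine ⟨fun t => det2 (A ![t, 0]) (A ![0, 1]), fun u v => finj (Additive.toMul.injective
    (Subtype.ext ?_))⟩
  show _ = ((Additive.toMul (f (det2 (A ![det2 u v, 0]) (A ![0, 1]))) : ↥c.Z) : G)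
  rw [hl, hl]
  simp [det2]

/-- The subgroup of `E C(W)` centralizing `Z(O)` modulo `W`. -/
def X : Subgroup G := (c.E ⊔ c.C) ⊓ c.S0

theorem EC_le_NW : c.E ⊔ c.C ≤ c.NW := sup_le c.hEW c.C_le_NW

theorem E_le_X : c.E ≤ c.X := le_inf le_sup_left c.E_le_S0

theorem EC_le_normalizer_X : c.E ⊔ c.C ≤ Subgroup.normalizer (c.X : Set G) := fun g hg =>
  CfsgLib.LocalEven.BBlock.mem_normalizer_of_le fun y hy =>
    ⟨(c.E ⊔ c.C).mul_mem ((c.E ⊔ c.C).mul_mem hg hy.1) ((c.E ⊔ c.C).inv_mem hg),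
      c.S0_conj (c.EC_le_NW hg) hy.2⟩

theorem conj_E_comm_C {x l : G} (hx : x ∈ c.E) (hl : l ∈ c.C) : l * x * l⁻¹ * x⁻¹ ∈ c.C := by
  rw [show l * x * l⁻¹ * x⁻¹ = l * (x * l⁻¹ * x⁻¹) by group]
  exact mul_mem hl (c.C_conj (c.hEW hx) (inv_mem hl))

/-- An element of `C(W)` commuting with the involution on `O / Z(O)` centralizes `E` modulo the
kernel. -/
theorem comm_star [Fact (Nat.Prime 3)] (hb : c.HasCubic) {l : G} (hl : l ∈ c.C)
    (hle : Commute (c.act l) (c.act c.e)) {x : G} (hx : x ∈ c.E) :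
    Commute (c.act l) (c.act x) ∧ l * x * l⁻¹ * x⁻¹ ∈ c.Kst := by
  have hlN := c.C_le_NW hl
  have hlO := c.hON hlN
  obtain ⟨A, hA⟩ := c.model.exists_on_range hle
  obtain ⟨σ, hσ⟩ := c.exists_det_scaling hlO A hA
  obtain ⟨x', hx', hxx'⟩ := c.model.conj_mem hle A hA σ hσ (c.act_mem_image hx)
  have hxO := c.E_le_NO hx
  have hx'O := c.E_le_NO hx'
  set g := l * x * l⁻¹ * x'⁻¹ with hg
  have hgEC : g ∈ c.E ⊔ c.C := mul_mem (mul_mem (mul_mem (Subgroup.mem_sup_right hl)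
    (Subgroup.mem_sup_left hx)) (inv_mem (Subgroup.mem_sup_right hl)))
    (inv_mem (Subgroup.mem_sup_left hx'))
  have hgS : g ∈ c.S0 := mul_mem (c.S0_conj hlN (c.E_le_S0 hx)) (inv_mem (c.E_le_S0 hx'))
  have hga : c.act g = 1 := by
    rw [hg, c.act_mul (mul_mem (mul_mem hlO hxO) (inv_mem hlO)) (inv_mem hx'O),
      c.act_conj hlO hxO, c.act_inv hx'O, hxx', mul_inv_cancel]
  have hgC := c.mem_C_of_act_eq_one hb hgEC hgS hga
  have hcomm := c.conj_E_comm_C hx hl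
  have hq : x' * x⁻¹ ∈ c.Q := c.mem_Q_of_mem_C (mul_mem hx' (inv_mem hx)) (by
    have := mul_mem (inv_mem hgC) hcomm
    rwa [hg, show (l * x * l⁻¹ * x'⁻¹)⁻¹ * (l * x * l⁻¹ * x⁻¹) = x' * x⁻¹ by group] at this)
  have hsame : c.act x' = c.act x := by
    have := c.act_Q hq
    rwa [c.act_mul hx'O (inv_mem hxO), c.act_inv hxO, mul_inv_eq_one] at this
  rw [hsame, mul_inv_eq_iff_eq_mul] at hxx'
  refine ⟨hxx', mul_mem (c.S0_conj hlN (c.E_le_S0 hx)) (inv_mem (c.E_le_S0 hx)), hcomm, ?_⟩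
  rw [c.act_mul (mul_mem (mul_mem hlO hxO) (inv_mem hlO)) (inv_mem hxO), c.act_conj hlO hxO,
    c.act_inv hxO, hxx', mul_inv_cancel_right, mul_inv_cancel]

theorem e_inv : c.e⁻¹ = c.e := inv_eq_of_mul_eq_one_right c.he2

theorem conj_e_mul_e {a : G} (ha : a ∈ c.C) : a * c.e * a⁻¹ * c.e ∈ c.C := by
  have := c.conj_E_comm_C c.he ha
  rwa [c.e_inv] at this

/-- The involution is the only conjugate under `C(W)` commuting with it. -/
theorem isolation [Fact (Nat.Prime 3)] (hb : c.HasCubic) {a : G} (ha : a ∈ c.C)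
    (hcomm : Commute (a * c.e * a⁻¹) c.e) : a * c.e * a⁻¹ = c.e := by
  have haN := c.C_le_NW ha
  have haO := c.hON haN
  have heO := c.E_le_NO c.he
  set f := a * c.e * a⁻¹ with hf
  have hfO : f ∈ c.NO := mul_mem (mul_mem haO heO) (inv_mem haO)
  have hz : f * c.e ∈ c.C := c.conj_e_mul_e ha
  have hze : Commute (f * c.e) c.e := hcomm.mul_left (Commute.refl _)
  have hzae : Commute (c.act (f * c.e)) (c.act c.e) := by
    rw [commute_iff_eq, ← c.act_mul (mul_mem hfO heO) heO, hze.eq, c.act_mul heO (mul_mem hfO heO)]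
  have hfe : c.act a * c.act c.e * (c.act a)⁻¹ = c.act f := (c.act_conj haO heO).symm
  rcases c.model.isolation (c.act a) (by
      rw [hfe, commute_iff_eq, ← c.act_mul hfO heO, hcomm.eq, c.act_mul heO hfO])
    (by
      rintro _ ⟨x, hx, rfl⟩
      rw [hfe, ← c.act_mul hfO heO]
      exact (c.comm_star hb hz hzae hx).1) with h | h
  · rw [hfe] at h
    have hzK : f * c.e ∈ c.Kst := by
      refine ⟨mul_mem (c.S0_conj haN (c.E_le_S0 c.he)) (c.E_le_S0 c.he), hz, ?_⟩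
      rw [c.act_mul hfO heO, h, ← c.act_mul heO heO, c.he2, c.act_one]
    obtain ⟨k, hk⟩ := c.Kst_isPGroup ⟨_, hzK⟩
    have hff : f * f = 1 := by
      rw [hf, show a * c.e * a⁻¹ * (a * c.e * a⁻¹) = a * (c.e * c.e) * a⁻¹ by group, c.he2]
      group
    have h2 : (f * c.e) * (f * c.e) = 1 := by
      rw [show f * c.e * (f * c.e) = f * (c.e * f) * c.e by group, ← hcomm.eq,
        show f * (f * c.e) * c.e = (f * f) * (c.e * c.e) by group, hff, c.he2, one_mul]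
    have h1 : f * c.e = 1 := orderOf_eq_one_iff.mp (Nat.eq_one_of_dvd_coprimes
      (Nat.Coprime.pow_right k (by norm_num : Nat.Coprime 2 3))
      (orderOf_dvd_of_pow_eq_one (by rw [pow_two, h2]))
      (orderOf_dvd_of_pow_eq_one (congrArg Subtype.val hk)))
    exact (eq_inv_of_mul_eq_one_left h1).trans c.e_inv
  · exfalso
    obtain ⟨r, hr, r', hr', hne⟩ := not_commutative (F := F)
    rw [← c.hρ] at hr hr'
    obtain ⟨x, rfl⟩ := hr
    obtain ⟨y, rfl⟩ := hr'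
    apply hne
    have hxO := c.E_le_NO x.2
    have hyO := c.E_le_NO y.2
    set y' := a * (y : G) * a⁻¹ with hy'
    have hy'O : y' ∈ c.NO := mul_mem (mul_mem haO hyO) (inv_mem haO)
    have hy'EC : y' ∈ c.E ⊔ c.C := mul_mem (mul_mem (Subgroup.mem_sup_right ha)
      (Subgroup.mem_sup_left y.2)) (inv_mem (Subgroup.mem_sup_right ha))
    have hy'S : y' ∈ c.S0 := c.S0_conj haN (c.E_le_S0 y.2)
    set g := (x : G) * y' * (x : G)⁻¹ * y'⁻¹ with hg
    have hgC : g ∈ c.C := by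
      refine c.mem_C_of_act_eq_one hb
        (mul_mem (mul_mem (mul_mem (Subgroup.mem_sup_left x.2) hy'EC)
          (inv_mem (Subgroup.mem_sup_left x.2))) (inv_mem hy'EC))
        (mul_mem (c.S0_conj (c.hEW x.2) hy'S) (inv_mem hy'S)) ?_
      have hc : Commute (c.act x) (c.act y') := by
        rw [hy', c.act_conj haO hyO]
        exact h _ (c.act_mem_image x.2) _ (c.act_mem_image y.2)
      rw [hg, c.act_mul (mul_mem (mul_mem hxO hy'O) (inv_mem hxO)) (inv_mem hy'O),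
        c.act_conj hxO hy'O, c.act_inv hy'O, hc.eq, mul_inv_cancel_right, mul_inv_cancel]
    set κ := y' * (y : G)⁻¹ with hκ
    have hκC : κ ∈ c.C := c.conj_E_comm_C y.2 ha
    have hxy : (x : G) * y * (x : G)⁻¹ * (y : G)⁻¹ ∈ c.C := by
      have h1 : (x : G) * κ⁻¹ * (x : G)⁻¹ * g * κ ∈ c.C :=
        mul_mem (mul_mem (c.C_conj (c.hEW x.2) (inv_mem hκC)) hgC) hκC
      have e : (x : G) * κ⁻¹ * (x : G)⁻¹ * g * κ = (x : G) * y * (x : G)⁻¹ * (y : G)⁻¹ := by
        rw [hg, hκ]; group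
      rwa [e] at h1
    have h1 : c.ρ (x * y * x⁻¹ * y⁻¹) = 1 := (c.hρker _).mpr
      (c.mem_Q_of_mem_C (mul_mem (mul_mem (mul_mem x.2 y.2) (inv_mem x.2)) (inv_mem y.2)) hxy)
    rw [map_mul, map_mul, map_mul, map_inv, map_inv, mul_inv_eq_one, mul_inv_eq_iff_eq_mul] at h1
    exact h1

theorem orderOf_e : orderOf c.e = 2 :=
  orderOf_eq_prime (by rw [pow_two, c.he2]) fun h => by
    have : c.ρ ⟨c.e, c.he⟩ = 1 := (c.hρker _).mpr (by show c.e ∈ c.Q; rw [h]; exact one_mem _)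
    rw [c.hρe] at this
    have h2 := congrArg (fun m : SpecialLinearGroup (Fin 2) F => (m : Matrix (Fin 2) (Fin 2) F) 0 0) this
    simp at h2
    exact neg_one_ne_one h2

/-- The part of `O_{2'}(X)` centralizing `W`. -/
def D : Subgroup G := c.C ⊓ (Cfsg.pPrimeCore 2 ↥c.X).map c.X.subtype

theorem EC_le_normalizer_D : c.E ⊔ c.C ≤ Subgroup.normalizer (c.D : Set G) := by
  intro g hg
  refine CfsgLib.LocalEven.BBlock.mem_normalizer_of_le fun y hy => ⟨c.C_conj (c.EC_le_NW hg) hy.1, ?_⟩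
  obtain ⟨z, hz, hzy⟩ := hy.2
  haveI := CfsgLib.Solvable.pPrimeCore_characteristic 2 ↥c.X
  refine ⟨c.X.normalizerMonoidHom ⟨g, c.EC_le_normalizer_X hg⟩ z,
    Subgroup.characteristic_iff_map_le.mp inferInstance _ ⟨z, hz, rfl⟩, ?_⟩
  rw [← hzy]
  rfl

theorem D_odd : Odd (Nat.card ↥c.D) := by
  have h1 : Odd (Nat.card ↥((Cfsg.pPrimeCore 2 ↥c.X).map c.X.subtype)) := by
    rw [Subgroup.card_map_of_injective c.X.subtype_injective]
    exact Nat.coprime_two_right.mp (CfsgLib.Solvable.pPrimeCore_card_coprime 2 ↥c.X)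
  exact h1.of_dvd_nat (Subgroup.card_dvd_of_le inf_le_right)

/-- `[C(W), e]` has odd order. -/
theorem conj_e_mul_e_mem_D [Fact (Nat.Prime 3)] (hb : c.HasCubic) {a : G} (ha : a ∈ c.C) :
    a * c.e * a⁻¹ * c.e ∈ c.D := by
  have haN := c.C_le_NW ha
  set y := a * c.e * a⁻¹ with hy
  set u := y * c.e with hu
  have hee := c.he2
  have hyy : y * y = 1 := by
    rw [hy, show a * c.e * a⁻¹ * (a * c.e * a⁻¹) = a * (c.e * c.e) * a⁻¹ by group, hee]
    group
  have huC : u ∈ c.C := c.conj_e_mul_e ha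
  have hyX : y ∈ c.X := conj_mem' (c.EC_le_normalizer_X (Subgroup.mem_sup_right ha)) (c.E_le_X c.he)
  have huX : u ∈ c.X := mul_mem hyX (c.E_le_X c.he)
  have heu : c.e * u * c.e⁻¹ = u⁻¹ := by
    rw [hu, c.e_inv, _root_.mul_inv_rev, inv_eq_of_mul_eq_one_right hyy, c.e_inv, mul_assoc,
      mul_assoc, hee, mul_one]
  have heuk : ∀ k : ℕ, c.e * u ^ k * c.e⁻¹ = (u ^ k)⁻¹ := fun k => by
    rw [← conj_pow, heu, inv_pow]
  obtain ⟨k, hk | hk⟩ := Nat.even_or_odd' (orderOf u)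
  · -- even order
    exfalso
    have hk0 : k ≠ 0 := fun h0 => (orderOf_pos u).ne' (by rw [hk, h0])
    set t := u ^ k with ht
    have htt : t * t = 1 := by rw [ht, ← pow_add, ← two_mul, ← hk, pow_orderOf_eq_one]
    have ht1 : t ≠ 1 := fun h => by
      have := Nat.le_of_dvd (Nat.pos_of_ne_zero hk0) (orderOf_dvd_of_pow_eq_one h)
      omega
    have hte : Commute (t * c.e) c.e := by
      have h1 := heuk k
      rw [← ht, inv_eq_of_mul_eq_one_right htt, mul_inv_eq_iff_eq_mul] at h1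
      show t * c.e * c.e = c.e * (t * c.e)
      rw [← mul_assoc, h1]
    obtain ⟨s, hs, hs2⟩ : ∃ s ∈ c.C, t * c.e = s * c.e * s⁻¹ := by
      obtain ⟨j, hj | hj⟩ := Nat.even_or_odd' k
      · refine ⟨u ^ j, pow_mem huC j, ?_⟩
        have h1 := heuk j
        rw [mul_inv_eq_iff_eq_mul] at h1
        have e : u ^ j * c.e = c.e * (u ^ j)⁻¹ := by
          rw [← mul_left_cancel_iff (a := c.e), ← mul_assoc, ← mul_assoc, h1, hee, one_mul, mul_assoc,
            hee]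
          group
        rw [ht, hj, two_mul, pow_add]
        calc u ^ j * u ^ j * c.e = u ^ j * (u ^ j * c.e) := mul_assoc _ _ _
          _ = u ^ j * (c.e * (u ^ j)⁻¹) := by rw [e]
          _ = _ := by group
      · refine ⟨u ^ j * a, mul_mem (pow_mem huC j) ha, ?_⟩
        have h1 := heuk j
        rw [mul_inv_eq_iff_eq_mul] at h1
        calc t * c.e = u ^ j * (u * (u ^ j * c.e)) := by
              rw [ht, hj, pow_succ, two_mul, pow_add]
              group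
          _ = u ^ j * (u * c.e * (u ^ j)⁻¹) := by
              have e : u ^ j * c.e = c.e * (u ^ j)⁻¹ := by
                rw [← mul_left_cancel_iff (a := c.e), ← mul_assoc, ← mul_assoc, h1, hee, one_mul,
                  mul_assoc, hee]
                group
              rw [e, mul_assoc u]
          _ = u ^ j * y * (u ^ j)⁻¹ := by rw [hu, mul_assoc y, hee]; group
          _ = _ := by rw [hy]; group
    have h3 := c.isolation hb hs (hs2 ▸ hte)
    rw [← hs2] at h3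
    exact ht1 (mul_eq_right.mp h3)
  · -- odd order
    set s := u ^ (k + 1) with hs
    have hss : s * s = u := by
      rw [hs, ← pow_add, show k + 1 + (k + 1) = orderOf u + 1 by omega, pow_succ,
        pow_orderOf_eq_one, one_mul]
    have hsX : s ∈ c.X := pow_mem huX _
    have hiso : Cfsg.IsIsolatedInvolution (⟨c.e, c.E_le_X c.he⟩ : ↥c.X) := by
      refine ⟨by rw [Subgroup.orderOf_mk, c.orderOf_e], fun g hg => Subtype.ext ?_⟩
      obtain ⟨x, hx, hxg⟩ := c.exists_of_mem_sup g.2.1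
      have hq := c.comm_e_mem hx
      have hgC : (g : G) * x⁻¹ ∈ c.C := by
        rw [show (g : G) * x⁻¹ = x * (x⁻¹ * g) * x⁻¹ by group]
        exact c.C_conj (c.hEW hx) hxg
      obtain ⟨r, hr, hre⟩ : ∃ r ∈ c.C, x * c.e * x⁻¹ = r * c.e * r⁻¹ := by
        set q := x * c.e * x⁻¹ * c.e⁻¹ with hqd
        have heq : c.e * q * c.e⁻¹ = q⁻¹ := by
          rw [hqd, c.e_inv, show c.e * (x * c.e * x⁻¹ * c.e) * c.e =
            c.e * x * c.e * x⁻¹ * (c.e * c.e) by group, hee, mul_one, _root_.mul_inv_rev,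
            c.e_inv, _root_.mul_inv_rev, inv_inv, _root_.mul_inv_rev, c.e_inv]
          group
        obtain ⟨n, hn⟩ := c.hQp ⟨q, hq⟩
        obtain ⟨m, hm⟩ := exists_pow_eq_self_of_coprime (x := q) (n := 2)
          (((by norm_num : Nat.Coprime 2 3).pow_right n).coprime_dvd_right
            (orderOf_dvd_of_pow_eq_one (congrArg Subtype.val hn)))
        refine ⟨q ^ m, c.Q_le_C (pow_mem hq m), ?_⟩
        have h1 : c.e * q ^ m * c.e⁻¹ = (q ^ m)⁻¹ := by rw [← conj_pow, heq, inv_pow]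
        have h2 : c.e * (q ^ m)⁻¹ * c.e⁻¹ = q ^ m := by
          rw [show c.e * (q ^ m)⁻¹ * c.e⁻¹ = (c.e * q ^ m * c.e⁻¹)⁻¹ by group, h1, inv_inv]
        calc x * c.e * x⁻¹ = q * c.e := by rw [hqd]; group
          _ = q ^ m * q ^ m * c.e := by rw [← pow_add, ← two_mul, pow_mul, hm]
          _ = q ^ m * (c.e * (q ^ m)⁻¹ * c.e⁻¹) * c.e := by rw [h2]
          _ = _ := by group
      have hge : (g : G) * c.e * (g : G)⁻¹ =
          ((g : G) * x⁻¹ * r) * c.e * ((g : G) * x⁻¹ * r)⁻¹ := by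
        rw [show ((g : G) * x⁻¹ * r) * c.e * ((g : G) * x⁻¹ * r)⁻¹ =
          (g : G) * x⁻¹ * (r * c.e * r⁻¹) * ((g : G) * x⁻¹)⁻¹ by group, ← hre]
        group
      show (g : G) * c.e * (g : G)⁻¹ = c.e
      rw [hge]
      refine c.isolation hb (mul_mem hgC hr) ?_
      rw [← hge]
      exact (congrArg Subtype.val hg.eq).symm
    have hcore := CfsgLib.Invol.zStar hiso (⟨s, hsX⟩ : ↥c.X)⁻¹
    refine ⟨huC, ?_⟩
    refine ⟨_, hcore, ?_⟩
    show c.e * s⁻¹ * c.e⁻¹ * s⁻¹⁻¹ = u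
    rw [show c.e * s⁻¹ * c.e⁻¹ = (c.e * s * c.e⁻¹)⁻¹ by group, hs, heuk, inv_inv, ← hs, hss]

end Ctx

end CfsgLib.BlockNorm
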