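import Cfsg.Agent.Lib.BlockNorm.Fix

/-!
# A block is normalized by the centralizer of its commutator module
-/

set_option autoImplicit false
set_option linter.unusedSectionVars false

open Matrix
open scoped MatrixGroups commutatorElement

namespace CfsgLib.BlockNorm

open CfsgLib.LocalEven CfsgLib.LocalEven.BBlock

variable {G : Type*} [Group G] [Finite G] {p : ℕ}

theorem baumann_le_normalizer_module {T E : Subgroup G}
    (hEB : ⁅E, Cfsg.baumannSubgroupOf p T⁆ = E) [Fact p.Prime] :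
    Cfsg.baumannSubgroupOf p T ≤ Subgroup.normalizer
      ((⁅Cfsg.omegaOneCenter p (Cfsg.pCoreOf p E), E⁆ : Subgroup G) : Set G) := by
  intro b hb
  have hbE := le_normalizer_of_commutator_eq hEB hb
  exact conj_mem_commutator
    (map_conj_omegaOneCenter p (normalizer_le_normalizer_pCoreOf E hbE)) hbE

theorem le_normalizer_module (p : ℕ) [Fact p.Prime] (E : Subgroup G) :
    E ≤ Subgroup.normalizer
      ((⁅Cfsg.omegaOneCenter p (Cfsg.pCoreOf p E), E⁆ : Subgroup G) : Set G) :=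
  le_normalizer_commutator fun _ hx => map_conj_omegaOneCenter p (le_normalizer_pCoreOf p E hx)

/-- If `O_p(E)` is elementary abelian central, `E` stabilizes `O_p(G) ≥ W ≥ 1`. -/
theorem stable_of_eq [Fact p.Prime]
    (hG : Subgroup.centralizer (Cfsg.pCore p G : Set G) ≤ Cfsg.pCore p G)
    (T : Sylow p G) {E : Subgroup G} (hE : Cfsg.IsBaumannBlock p (T : Subgroup G) E)
    (hQV : Cfsg.pCoreOf p E = Cfsg.omegaOneCenter p (Cfsg.pCoreOf p E)) :
    ∀ o ∈ Cfsg.pCore p G, ∀ x ∈ E,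
      x * o * x⁻¹ * o⁻¹ ∈ ⁅Cfsg.omegaOneCenter p (Cfsg.pCoreOf p E), E⁆ := by
  haveI := core_normal p G
  obtain ⟨hOE, -, -⟩ := block_module hG T hE
  have hres := hE.1
  have hVEA : Cfsg.IsElementaryAbelian p (Cfsg.omegaOneCenter p (Cfsg.pCoreOf p E)) :=
    CfsgLib.PLocal.omegaCenter_isEA _
  set V := Cfsg.omegaOneCenter p (Cfsg.pCoreOf p E) with hV
  set W := ⁅V, E⁆ with hW
  have hEV : E ≤ Subgroup.normalizer (V : Set G) := fun x hx =>
    map_conj_omegaOneCenter p (le_normalizer_pCoreOf p E hx)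
  have hEW : E ≤ Subgroup.normalizer (W : Set G) := le_normalizer_commutator hEV
  have hWV : W ≤ V := commutator_le_of_le_normalizer hEV
  have hmem : ∀ o ∈ Cfsg.pCore p G, ∀ x ∈ E, x * o * x⁻¹ * o⁻¹ ∈ V := by
    intro o ho x hx
    have h1 : E ⊓ Cfsg.pCore p G ≤ Cfsg.pCoreOf p E := le_pCoreOf inf_le_left
      (fun g hg => mem_normalizer_of_le fun y hy =>
        ⟨E.mul_mem (E.mul_mem hg hy.1) (E.inv_mem hg), (core_normal p G).conj_mem y hy.2 g⟩)
      ((core_isPGroup p G).to_le inf_le_right)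
    rw [← hQV]
    refine h1 ⟨?_, (Cfsg.pCore p G).mul_mem ((core_normal p G).conj_mem o ho x)
      ((Cfsg.pCore p G).inv_mem ho)⟩
    rw [show x * o * x⁻¹ * o⁻¹ = x * (o * x⁻¹ * o⁻¹) by group]
    exact mul_mem hx (conj_mem' (hOE ho) (inv_mem hx))
  intro o ho
  let S : Subgroup G :=
    { carrier := {x | x ∈ E ∧ x * o * x⁻¹ * o⁻¹ ∈ W}
      one_mem' := ⟨one_mem _, by simp⟩
      mul_mem' := fun {a b} ha hb => ⟨mul_mem ha.1 hb.1, by
        rw [show a * b * o * (a * b)⁻¹ * o⁻¹ =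
          a * (b * o * b⁻¹ * o⁻¹) * a⁻¹ * (a * o * a⁻¹ * o⁻¹) by group]
        exact mul_mem (conj_mem' (hEW ha.1) hb.2) ha.2⟩
      inv_mem' := fun {a} ha => ⟨inv_mem ha.1, by
        have h := conj_mem' (inv_mem (hEW ha.1)) (inv_mem ha.2)
        rw [show a⁻¹ * (a * o * a⁻¹ * o⁻¹)⁻¹ * a⁻¹⁻¹ = a⁻¹ * o * a * o⁻¹ by group] at h
        rwa [inv_inv]⟩ }
  intro x hx
  refine (residual_induction hres (R := S) (fun y hy hcop => ⟨hy, ?_⟩) hx).2
  refine stable_mem (o := o) (hEW hy) hcop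
    (fun w hw => CfsgLib.PLocal.commute_of_mem_comm hVEA.1 (hWV hw) (hmem o ho y hy)) (k := 1)
    (by rw [pow_one]; exact hVEA.2 _ (hmem o ho y hy)) (by group) ?_
  have hm := inv_mem (Subgroup.commutator_mem_commutator (hmem o ho y hy) hy)
  rwa [commutatorElement_inv, commutatorElement_def] at hm

/-- **A block is normalized by the centralizer of its commutator module.** -/
theorem centralizer_le_normalizer [Fact p.Prime]
    (hG : Subgroup.centralizer (Cfsg.pCore p G : Set G) ≤ Cfsg.pCore p G)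
    (T : Sylow p G) {E : Subgroup G} (hE : Cfsg.IsBaumannBlock p (T : Subgroup G) E) :
    Subgroup.centralizer ((⁅Cfsg.omegaOneCenter p (Cfsg.pCoreOf p E), E⁆ : Subgroup G) : Set G) ≤
      Subgroup.normalizer (E : Set G) := by
  classical
  obtain ⟨-, hWVG, -⟩ := block_module hG T hE
  have hWEA : Cfsg.IsElementaryAbelian p (⁅Cfsg.omegaOneCenter p (Cfsg.pCoreOf p E), E⁆ : Subgroup G) :=
    CfsgLib.PLocal.isEA_mono (CfsgLib.PLocal.omegaCenter_isEA (Cfsg.pCore p G)) hWVG
  have hEW := le_normalizer_module p E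
  have hBW := baumann_le_normalizer_module (p := p) hE.2.1
  have hstable : Cfsg.pCoreOf p E = Cfsg.omegaOneCenter p (Cfsg.pCoreOf p E) →
      Subgroup.centralizer ((⁅Cfsg.omegaOneCenter p (Cfsg.pCoreOf p E), E⁆ : Subgroup G) : Set G) ≤
        Subgroup.normalizer (E : Set G) := fun h =>
    le_normalizer_of_stable hG T hE.1 hE.2.1 hEW hBW hWEA.2 (stable_of_eq hG T hE h)
  obtain ⟨hres, hEB, -, -, hcase⟩ := id hE
  rcases hcase with ⟨F, iF, iFt, n, hn, hiso, hact, hQ | ⟨hp, hact2, hQQ, -, hZEE, hcard, hblock⟩⟩ |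
    ⟨-, m, -, -, hQ⟩
  · exact hstable hQ
  · subst hp
    haveI : CharP F 3 := by
      have h0 := FiniteField.cast_card_eq_zero F
      rw [hn] at h0
      push_cast at h0
      exact (CharP.charP_iff_prime_eq_zero Nat.prime_three).mpr
        (by exact_mod_cast eq_zero_of_pow_eq_zero h0)
    rcases exists_ctx hG T hE hn hiso hact hact2 hQQ hZEE hcard with h | ⟨c, cE, cQ, cV, cZ, cW, cO⟩
    · exact le_normalizer_of_stable hG T hres hEB hEW hBW hWEA.2 h
    have hWT : ⁅Cfsg.omegaOneCenter 3 (Cfsg.pCoreOf 3 E), E⁆ ≤ (T : Subgroup G) :=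
      hWVG.trans (((CfsgLib.PLocal.omegaOne_le 3 _).trans inf_le_left).trans
        (CfsgLib.Solvable.pCore_le_sylow T))
    obtain ⟨b, hbB, hbW, hb3, hbq⟩ := exists_quadratic T hWT hWEA hBW
      (commutator_thompson_ne_bot hG T hE)
    have hbE := le_normalizer_of_commutator_eq hEB hbB
    have hbQ := normalizer_le_normalizer_pCoreOf (p := 3) E hbE
    have hbV := map_conj_omegaOneCenter 3 hbQ
    have hbZ : b ∈ Subgroup.normalizer ((Cfsg.omegaOneCenter 3 (Cfsg.pCoreOf 3 E) ⊓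
        Subgroup.centralizer (E : Set G) : Subgroup G) : Set G) :=
      mem_normalizer_of_le fun y hy => ⟨conj_mem' hbV hy.1, fun x hx => by
        have h1 : b⁻¹ * x * b ∈ E := by simpa using conj_mem' (inv_mem hbE) hx
        have h2 := hy.2 _ h1
        calc x * (b * y * b⁻¹) = b * (b⁻¹ * x * b * y) * b⁻¹ := by group
          _ = b * (y * (b⁻¹ * x * b)) * b⁻¹ := by rw [h2]
          _ = b * y * b⁻¹ * x := by group⟩
    have hWV : ⁅Cfsg.omegaOneCenter 3 (Cfsg.pCoreOf 3 E), E⁆ ≤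
        Cfsg.omegaOneCenter 3 (Cfsg.pCoreOf 3 E) := commutator_le_of_le_normalizer hact.1
    have hcub : c.HasCubic := by
      refine c.hasCubic (cE ▸ hbE) ?_ (cQ ▸ hbQ) (cV ▸ hbV) (cZ ▸ hbZ) hb3 ?_ ?_
      · show b ∈ Subgroup.normalizer (c.W : Set G)
        rw [cW]
        exact hBW hbB
      · rw [cW]
        exact hbq
      · rw [cQ, cZ, ← hZEE]
        exact hblock b hbB fun h => hbW (Subgroup.centralizer_le hWV h)
    obtain ⟨P, hPC, hP, hCP, hcomm⟩ := c.exists_commutator_pgroup hcub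
    have hC : c.C = Subgroup.centralizer
        ((⁅Cfsg.omegaOneCenter 3 (Cfsg.pCoreOf 3 E), E⁆ : Subgroup G) : Set G) := by
      show Subgroup.centralizer (c.W : Set G) = _
      rw [cW]
    rw [hC] at hPC hCP hcomm
    rw [cE] at hcomm
    exact le_normalizer_of_pgroup T hres hEB hEW hBW hPC hP hCP hcomm
  · exact hstable hQ

end CfsgLib.BlockNorm
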