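import Cfsg.Agent.Lib.LocalEven.BaumannBlock
import Cfsg.Agent.Lib.Linear.Card
import Cfsg.Agent.Lib.Linear.Simple

/-!
# Facts about the derived group of `SL₂(F)` in characteristic three
-/

set_option autoImplicit false
set_option linter.unusedSectionVars false

open Matrix
open scoped MatrixGroups

namespace CfsgLib.BlockNorm

variable {F : Type*} [Field F]

/-- The determinant of two vectors. -/
def det2 (u v : Fin 2 → F) : F := u 0 * v 1 - u 1 * v 0

theorem det2_mulVec (g : SpecialLinearGroup (Fin 2) F) (u v : Fin 2 → F) :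
    det2 ((g : Matrix (Fin 2) (Fin 2) F).mulVec u) ((g : Matrix (Fin 2) (Fin 2) F).mulVec v) =
      det2 u v := by
  have h := g.2
  rw [det_fin_two] at h
  simp only [det2, mulVec, dotProduct, Fin.sum_univ_two]
  linear_combination (u 0 * v 1 - u 1 * v 0) * h

theorem mulVec_mul (a b : SpecialLinearGroup (Fin 2) F) (v : Fin 2 → F) :
    ((a * b : SpecialLinearGroup (Fin 2) F) : Matrix (Fin 2) (Fin 2) F).mulVec v =
      (a : Matrix (Fin 2) (Fin 2) F).mulVec ((b : Matrix (Fin 2) (Fin 2) F).mulVec v) := by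
  exact (mulVec_mulVec v a.1 b.1).symm

theorem mulVec_one' (v : Fin 2 → F) :
    ((1 : SpecialLinearGroup (Fin 2) F) : Matrix (Fin 2) (Fin 2) F).mulVec v = v := by
  exact one_mulVec v

/-- An additive map preserving the determinant comes from `SL₂`. -/
theorem exists_sl2_of_det2 (f : (Fin 2 → F) ≃+ (Fin 2 → F))
    (hf : ∀ u v, det2 (f u) (f v) = det2 u v) :
    ∃ g : SpecialLinearGroup (Fin 2) F, ∀ u, (g : Matrix (Fin 2) (Fin 2) F).mulVec u = f u := by
  have hnd : ∀ w : Fin 2 → F, (∀ v, det2 w v = 0) → w = 0 := by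
    intro w hw
    have h0 := hw ![0, 1]
    have h1 := hw ![1, 0]
    simp [det2] at h0 h1
    ext i
    fin_cases i
    · simpa using h0
    · simpa using h1
  have hlin : ∀ (c : F) u, f (c • u) = c • f u := by
    intro c u
    rw [← sub_eq_zero]
    refine hnd _ fun v => ?_
    obtain ⟨v', rfl⟩ := f.surjective v
    have h1 := hf (c • u) v'
    have h2 := hf u v'
    simp only [det2, Pi.sub_apply, Pi.smul_apply, smul_eq_mul] at h1 h2 ⊢
    linear_combination h1 - c * h2
  set a := f ![1, 0] with ha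
  set b := f ![0, 1] with hb
  have hdet : (!![a 0, b 0; a 1, b 1]).det = 1 := by
    have h := hf ![1, 0] ![0, 1]
    rw [← ha, ← hb] at h
    rw [det_fin_two_of]
    simp [det2] at h
    linear_combination h
  refine ⟨⟨_, hdet⟩, fun u => ?_⟩
  have hu : f u = u 0 • a + u 1 • b := by
    conv_lhs => rw [show u = u 0 • ![1, 0] + u 1 • ![0, 1] by ext i; fin_cases i <;> simp]
    rw [map_add, hlin, hlin]
  rw [hu]
  ext i
  fin_cases i <;> simp [mulVec, dotProduct, Fin.sum_univ_two, mul_comm]

/-- A map scaling the determinant normalizes the derived group of `SL₂`. -/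
theorem exists_conj_mem_commutator (A : (Fin 2 → F) ≃+ (Fin 2 → F)) (σ : F → F)
    (hA : ∀ u v, det2 (A u) (A v) = σ (det2 u v)) (g : SpecialLinearGroup (Fin 2) F)
    (hg : g ∈ commutator (SpecialLinearGroup (Fin 2) F)) :
    ∃ g' ∈ commutator (SpecialLinearGroup (Fin 2) F), ∀ u,
      (g' : Matrix (Fin 2) (Fin 2) F).mulVec (A u) = A ((g : Matrix (Fin 2) (Fin 2) F).mulVec u) := by
  classical
  have key : ∀ g : SpecialLinearGroup (Fin 2) F, ∃ g' : SpecialLinearGroup (Fin 2) F, ∀ u,
      (g' : Matrix (Fin 2) (Fin 2) F).mulVec (A u) = A ((g : Matrix (Fin 2) (Fin 2) F).mulVec u) := by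
    intro g
    let L : (Fin 2 → F) ≃+ (Fin 2 → F) :=
      { toFun := fun u => (g : Matrix (Fin 2) (Fin 2) F).mulVec u
        invFun := fun u => ((g⁻¹ : SpecialLinearGroup (Fin 2) F) : Matrix (Fin 2) (Fin 2) F).mulVec u
        left_inv := fun u => by
          dsimp only
          rw [← mulVec_mul, inv_mul_cancel, mulVec_one']
        right_inv := fun u => by
          dsimp only
          rw [← mulVec_mul, mul_inv_cancel, mulVec_one']
        map_add' := fun u v => mulVec_add _ u v }
    obtain ⟨g', hg'⟩ := exists_sl2_of_det2 ((A.symm.trans L).trans A) fun u v => by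
      obtain ⟨u, rfl⟩ := A.surjective u
      obtain ⟨v, rfl⟩ := A.surjective v
      simp only [AddEquiv.trans_apply, AddEquiv.symm_apply_apply]
      rw [hA, hA]
      show σ (det2 (g.1.mulVec u) (g.1.mulVec v)) = _
      rw [det2_mulVec]
    refine ⟨g', fun u => ?_⟩
    rw [hg']
    simp only [AddEquiv.trans_apply, AddEquiv.symm_apply_apply]
    rfl
  choose c hc using key
  have huniq : ∀ a b : SpecialLinearGroup (Fin 2) F,
      (∀ v, (a : Matrix (Fin 2) (Fin 2) F).mulVec v = (b : Matrix (Fin 2) (Fin 2) F).mulVec v) →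
      a = b := fun a b h => Subtype.ext (Matrix.ext_of_mulVec_single fun i => h _)
  let φ : SpecialLinearGroup (Fin 2) F →* SpecialLinearGroup (Fin 2) F :=
    { toFun := c
      map_one' := huniq _ _ fun v => by
        obtain ⟨v, rfl⟩ := A.surjective v
        rw [hc]
        simp
      map_mul' := fun a b => huniq _ _ fun v => by
        obtain ⟨v, rfl⟩ := A.surjective v
        rw [hc, mulVec_mul, mulVec_mul, hc, hc] }
  refine ⟨c g, ?_, hc g⟩
  have h : (commutator (SpecialLinearGroup (Fin 2) F)).map φ ≤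
      commutator (SpecialLinearGroup (Fin 2) F) := by
    rw [commutator_def, Subgroup.map_commutator]
    exact Subgroup.commutator_mono le_top le_top
  exact h ⟨g, hg, rfl⟩

/-- An additive involution commuting with the derived group is `1` or `-1`. -/
theorem involution_scalar (A : (Fin 2 → F) →+ (Fin 2 → F)) (h2 : ∀ v, A (A v) = v)
    (hc : ∀ g ∈ commutator (SpecialLinearGroup (Fin 2) F), ∀ v,
      A ((g : Matrix (Fin 2) (Fin 2) F).mulVec v) = (g : Matrix (Fin 2) (Fin 2) F).mulVec (A v)) :
    (∀ v, A v = v) ∨ ∀ v, A v = -v := by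
  let S : AddSubgroup (Fin 2 → F) :=
    { carrier := {v | A v = v}
      zero_mem' := map_zero A
      add_mem' := fun ha hb => by simp only [Set.mem_setOf_eq, map_add] at *; rw [ha, hb]
      neg_mem' := fun ha => by simp only [Set.mem_setOf_eq, map_neg] at *; rw [ha] }
  have hS : ∀ g ∈ commutator (SpecialLinearGroup (Fin 2) F), ∀ v ∈ S,
      (g : Matrix (Fin 2) (Fin 2) F).mulVec v ∈ S := fun g hg v hv => by
    show A _ = _
    rw [hc g hg, show A v = v from hv]
  by_cases hne : ∃ v ∈ S, v ≠ 0
  · obtain ⟨v, hv, hv0⟩ := hne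
    exact Or.inl fun w => CfsgLib.LocalEven.BBlock.sl2_irreducible S hS hv hv0 w
  · push Not at hne
    refine Or.inr fun v => eq_neg_of_add_eq_zero_right (hne (v + A v) ?_)
    show A (v + A v) = _
    rw [map_add, h2, add_comm]

variable [Fintype F]

theorem commutator_eq_top (h : 4 ≤ Fintype.card F) :
    commutator (SpecialLinearGroup (Fin 2) F) = ⊤ :=
  CfsgLib.Linear.commutator_SL_eq_top (Or.inr (CfsgLib.Linear.exists_sq_ne_one_of_four_le_card
    (by rwa [Nat.card_eq_fintype_card])))

variable [CharP F 3]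

theorem three_eq_zero : (3 : F) = 0 := by simpa using CharP.cast_eq_zero F 3

theorem neg_one_ne_one : (-1 : F) ≠ 1 := by
  intro h
  have h2 : (2 : F) = 0 := by linear_combination -h
  exact one_ne_zero (α := F) (by linear_combination three_eq_zero (F := F) - h2)

/-- The standard element of order four. -/
theorem exists_sqrt_neg_one : ∃ w ∈ commutator (SpecialLinearGroup (Fin 2) F), w * w = -1 := by
  obtain ⟨g, hg, hgv⟩ := CfsgLib.LocalEven.BBlock.sl2_commutator_element_mem F 1
  refine ⟨g, hg, Subtype.ext (Matrix.ext fun i j => ?_)⟩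
  show (g.1 * g.1) i j = (-(1 : Matrix (Fin 2) (Fin 2) F)) i j
  rw [hgv]
  have h3 := three_eq_zero (F := F)
  fin_cases i <;> fin_cases j <;> simp [Matrix.mul_apply, Fin.sum_univ_two]
  · linear_combination 2 * h3
  · linear_combination h3
  · linear_combination h3
  · linear_combination h3

theorem neg_one_mem : (-1 : SpecialLinearGroup (Fin 2) F) ∈
    commutator (SpecialLinearGroup (Fin 2) F) := by
  obtain ⟨w, hw, h⟩ := exists_sqrt_neg_one (F := F)
  rw [← h]
  exact mul_mem hw hw

theorem not_commutative : ∃ a ∈ commutator (SpecialLinearGroup (Fin 2) F),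
    ∃ b ∈ commutator (SpecialLinearGroup (Fin 2) F), a * b ≠ b * a := by
  obtain ⟨a, ha, hav⟩ := CfsgLib.LocalEven.BBlock.sl2_commutator_element_mem F 1
  obtain ⟨b, hb, hbv⟩ := CfsgLib.LocalEven.BBlock.sl2_commutator_element_mem F (-1)
  refine ⟨a, ha, b, hb, fun h => ?_⟩
  have h1 := congrArg (fun m : SpecialLinearGroup (Fin 2) F => (m : Matrix (Fin 2) (Fin 2) F) 0 1) h
  simp [SpecialLinearGroup.coe_mul, hav, hbv, Matrix.mul_apply, Fin.sum_univ_two] at h1
  exact neg_one_ne_one (F := F) (by linear_combination h1)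

theorem eq_neg_one_of_sq {g : SpecialLinearGroup (Fin 2) F} (h : g * g = 1) (hg : g ≠ 1) :
    g = -1 := by
  have hinv : g⁻¹ = g := inv_eq_of_mul_eq_one_right h
  have h0 := congrArg (fun m : SpecialLinearGroup (Fin 2) F => (m : Matrix (Fin 2) (Fin 2) F)) hinv
  change adjugate g.1 = g.1 at h0
  rw [adjugate_fin_two] at h0
  have h01 := congrFun (congrFun h0 0) 1
  have h10 := congrFun (congrFun h0 1) 0
  have h00 := congrFun (congrFun h0 0) 0
  simp at h01 h10 h00
  have h3 := three_eq_zero (F := F)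
  have e01 : g.1 0 1 = 0 := by linear_combination h01 + (g.1 0 1) * h3
  have e10 : g.1 1 0 = 0 := by linear_combination h10 + (g.1 1 0) * h3
  have hd := g.2
  rw [det_fin_two, e01, e10, h00] at hd
  have hsq : (g.1 0 0 - 1) * (g.1 0 0 + 1) = 0 := by linear_combination hd
  rcases mul_eq_zero.mp hsq with h1 | h1
  · refine absurd (Subtype.ext ?_) hg
    show g.1 = (1 : Matrix (Fin 2) (Fin 2) F)
    ext i j
    fin_cases i <;> fin_cases j <;> simp [e01, e10, h00, sub_eq_zero.mp h1]
  · refine Subtype.ext ?_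
    show g.1 = -(1 : Matrix (Fin 2) (Fin 2) F)
    ext i j
    fin_cases i <;> fin_cases j <;> simp [e01, e10, h00, eq_neg_of_add_eq_zero_left h1]

/-- A non-trivial subgroup of the derived group that it normalizes contains `-1`. -/
theorem neg_one_mem_of_normal (N : Subgroup (SpecialLinearGroup (Fin 2) F))
    (hle : N ≤ commutator (SpecialLinearGroup (Fin 2) F))
    (hn : ∀ g ∈ commutator (SpecialLinearGroup (Fin 2) F), ∀ n ∈ N, g * n * g⁻¹ ∈ N)
    (hne : N ≠ ⊥) : (-1 : SpecialLinearGroup (Fin 2) F) ∈ N := by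
  classical
  have hinvol : ∀ x ∈ N, x * x = 1 → x ≠ 1 → (-1 : SpecialLinearGroup (Fin 2) F) ∈ N :=
    fun x hx h1 h2 => eq_neg_one_of_sq h1 h2 ▸ hx
  by_cases hev : 2 ∣ Nat.card N
  · obtain ⟨x, hx⟩ := exists_prime_orderOf_dvd_card' 2 hev
    refine hinvol x x.2 ?_ fun h => ?_
    · have h := pow_orderOf_eq_one x
      rw [hx, pow_two] at h
      exact congrArg Subtype.val h
    · rw [show x = 1 from Subtype.ext h, orderOf_one] at hx
      omega
  exfalso
  have hneg : (-1 : SpecialLinearGroup (Fin 2) F) ∈ N → False := fun hmem => hev (by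
    have hone : orderOf (⟨-1, hmem⟩ : N) = 2 := by
      rw [Subgroup.orderOf_mk]
      refine orderOf_eq_prime (by rw [pow_two, neg_mul_neg, one_mul]) fun h => ?_
      have := congrArg (fun m : SpecialLinearGroup (Fin 2) F => (m : Matrix (Fin 2) (Fin 2) F) 0 0) h
      simp at this
      exact neg_one_ne_one this
    have h := orderOf_dvd_natCard (⟨-1, hmem⟩ : N)
    rwa [hone] at h)
  rcases le_or_gt 4 (Fintype.card F) with h4 | h4
  · have htop := commutator_eq_top h4
    haveI : N.Normal := ⟨fun n hnN g => hn g (htop ▸ Subgroup.mem_top g) n hnN⟩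
    rcases CfsgLib.Linear.SL_normal_le_center_or_eq_top (Or.inr
      (CfsgLib.Linear.exists_sq_ne_one_of_four_le_card (by rwa [Nat.card_eq_fintype_card]))) N with
      hc | ht
    · obtain ⟨x, hx1⟩ := Subgroup.ne_bot_iff_exists_ne_one.mp hne
      obtain ⟨r, hr, hrx⟩ := Matrix.SpecialLinearGroup.mem_center_iff.mp (hc x.2)
      simp only [Fintype.card_fin] at hr
      refine hneg (hinvol x x.2 (Subtype.ext (Matrix.ext fun i j => ?_)) fun h => hx1 (Subtype.ext h))
      show ((x : SpecialLinearGroup (Fin 2) F).1 * (x : SpecialLinearGroup (Fin 2) F).1) i j = (1 : Matrix (Fin 2) (Fin 2) F) i j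
      rw [← hrx, ← map_mul, ← pow_two, hr, map_one]
    · exact hneg (ht ▸ Subgroup.mem_top _)
  · have h3 : Fintype.card F = 3 := by
      have h1 := Fintype.one_lt_card (α := F)
      have h2 : Fintype.card F ≠ 2 := by
        intro h2
        have := FiniteField.cast_card_eq_zero F
        rw [h2] at this
        exact one_ne_zero (α := F) (by linear_combination three_eq_zero (F := F) - this)
      omega
    have hp : IsPGroup 3 N := by
      refine IsPGroup.of_card (n := (Nat.card N).factorization 3) ?_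
      have hd : Nat.card N ∣ 24 := by
        have := Subgroup.card_subgroup_dvd_card N
        rw [CfsgLib.Linear.card_SL_two, h3] at this
        simpa using this
      have : Nat.card N ∈ Nat.divisors 24 := Nat.mem_divisors.mpr ⟨hd, by norm_num⟩
      rw [show Nat.divisors 24 = {1, 2, 3, 4, 6, 8, 12, 24} by decide] at this
      simp only [Finset.mem_insert, Finset.mem_singleton] at this
      rcases this with h | h | h | h | h | h | h | h
      · rw [h]; simp
      · exact absurd ⟨1, h⟩ hev
      · rw [h, Nat.Prime.factorization_self Nat.prime_three]; rfl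
      · exact absurd ⟨2, h⟩ hev
      · exact absurd ⟨3, h⟩ hev
      · exact absurd ⟨4, h⟩ hev
      · exact absurd ⟨6, h⟩ hev
      · exact absurd ⟨12, h⟩ hev
    letI : MulAction N (Fin 2 → F) :=
      { smul := fun n v => ((n : SpecialLinearGroup (Fin 2) F) : Matrix (Fin 2) (Fin 2) F).mulVec v
        one_smul := fun v => mulVec_one' v
        mul_smul := fun a b v => mulVec_mul _ _ v }
    have hdvd : 3 ∣ Nat.card (Fin 2 → F) := by
      rw [Nat.card_eq_fintype_card, Fintype.card_fun, h3]
      simp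
    obtain ⟨v, hv, hv0⟩ := hp.exists_fixed_point_of_prime_dvd_card_of_fixed_point (Fin 2 → F) hdvd
      (a := 0) (fun n => Matrix.mulVec_zero _)
    let S : AddSubgroup (Fin 2 → F) :=
      { carrier := {v | ∀ n : N, n • v = v}
        zero_mem' := fun n => Matrix.mulVec_zero _
        add_mem' := fun {a b} ha hb n =>
          (Matrix.mulVec_add _ a b).trans (congrArg₂ (· + ·) (ha n) (hb n))
        neg_mem' := fun {a} ha n => (Matrix.mulVec_neg a _).trans (congrArg Neg.neg (ha n)) }
    have hS : ∀ g ∈ commutator (SpecialLinearGroup (Fin 2) F), ∀ u ∈ S,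
        (g : Matrix (Fin 2) (Fin 2) F).mulVec u ∈ S := by
      intro g hg u hu n
      have h1 := hu ⟨g⁻¹ * n * g, by simpa using hn g⁻¹ (inv_mem hg) n n.2⟩
      show ((n : SpecialLinearGroup (Fin 2) F) : Matrix (Fin 2) (Fin 2) F).mulVec
        ((g : Matrix (Fin 2) (Fin 2) F).mulVec u) = (g : Matrix (Fin 2) (Fin 2) F).mulVec u
      conv_rhs => rw [← h1]
      show _ = (g : Matrix (Fin 2) (Fin 2) F).mulVec
        (((g⁻¹ * n * g : SpecialLinearGroup (Fin 2) F) : Matrix (Fin 2) (Fin 2) F).mulVec u)
      rw [← mulVec_mul, ← mulVec_mul, show g * (g⁻¹ * n * g) = n * g by group]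
    apply hne
    rw [eq_bot_iff]
    intro n hnN
    refine Subgroup.mem_bot.mpr (Subtype.ext (Matrix.ext_of_mulVec_single fun i => ?_))
    refine Eq.trans ?_ (one_mulVec _).symm
    exact CfsgLib.LocalEven.BBlock.sl2_irreducible S hS hv (fun h => hv0 h.symm) (Pi.single i 1)
      ⟨n, hnN⟩

end CfsgLib.BlockNorm
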